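import Mathlib

/-!
# Tools for finite nilpotent groups (helper45)
-/

set_option autoImplicit false

namespace Cfsg.Agent.Helper45.Nilp

variable {K : Type*} [Group K]

/-- `x` has prime power order. -/
def IsPP (x : K) : Prop := ∃ p k : ℕ, p.Prime ∧ orderOf x = p ^ k

/-- an element of `p`-power order lies in a normal Sylow `p`-subgroup. -/
theorem mem_sylow_of_normal [Finite K] {p : ℕ} [Fact p.Prime] (P : Sylow p K)
    (hP : (P : Subgroup K).Normal) {x : K} {k : ℕ} (hx : orderOf x = p ^ k) :
    x ∈ (P : Subgroup K) := by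
  have hz : IsPGroup p (Subgroup.zpowers x) := by
    apply IsPGroup.of_card (n := k)
    rw [Nat.card_zpowers, hx]
  obtain ⟨Q, hQ⟩ := hz.exists_le_sylow
  have : Unique (Sylow p K) := Sylow.unique_of_normal P hP
  have hQP : Q = P := Subsingleton.elim _ _
  rw [← hQP]
  exact hQ (Subgroup.mem_zpowers x)

/-- in a finite nilpotent group, elements of coprime prime power orders commute. -/
theorem commute_of_pp [Finite K] [Group.IsNilpotent K] {p q : ℕ} (hp : p.Prime) (hq : q.Prime)
    (hpq : p ≠ q) {x y : K} {a b : ℕ} (hx : orderOf x = p ^ a) (hy : orderOf y = q ^ b) :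
    Commute x y := by
  have : Fact p.Prime := ⟨hp⟩
  have : Fact q.Prime := ⟨hq⟩
  obtain ⟨P⟩ : Nonempty (Sylow p K) := inferInstance
  obtain ⟨Q⟩ : Nonempty (Sylow q K) := inferInstance
  have hPn : (P : Subgroup K).Normal := inferInstance
  have hQn : (Q : Subgroup K).Normal := inferInstance
  exact Subgroup.commute_of_normal_of_disjoint _ _ hPn hQn
    (IsPGroup.disjoint_of_ne p q hpq _ _ P.isPGroup' Q.isPGroup') x y
    (mem_sylow_of_normal P hPn hx) (mem_sylow_of_normal Q hQn hy)

/-- a finite group is generated by its elements of prime power order. -/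
theorem closure_pp_eq_top [Finite K] : Subgroup.closure {x : K | IsPP x} = ⊤ := by
  rw [← Subgroup.index_eq_one, Nat.eq_one_iff_not_exists_prime_dvd]
  intro p hp hdvd
  have : Fact p.Prime := ⟨hp⟩
  obtain ⟨P⟩ : Nonempty (Sylow p K) := inferInstance
  have hle : (P : Subgroup K) ≤ Subgroup.closure {x : K | IsPP x} := by
    intro x hx
    apply Subgroup.subset_closure
    obtain ⟨k, hk⟩ := (IsPGroup.iff_orderOf.mp P.isPGroup') ⟨x, hx⟩
    exact ⟨p, k, hp, by rw [← hk, Subgroup.orderOf_mk]⟩
  exact P.not_dvd_index (dvd_trans hdvd (Subgroup.index_dvd_of_le hle))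

/-- a subgroup `L` lies in `H` as soon as its elements of prime power order do. -/
theorem le_of_pp_mem [Finite K] {L H : Subgroup K} (h : ∀ x ∈ L, IsPP x → x ∈ H) : L ≤ H := by
  have htop := closure_pp_eq_top (K := L)
  intro x hx
  have hx' : (⟨x, hx⟩ : L) ∈ Subgroup.closure {y : L | IsPP y} := by rw [htop]; trivial
  have : ∀ y : L, y ∈ Subgroup.closure {y : L | IsPP y} → (y : K) ∈ H := by
    intro y hy
    induction hy using Subgroup.closure_induction with
    | mem y hy =>
      obtain ⟨p, k, hp, hk⟩ := hy
      exact h y.1 y.2 ⟨p, k, hp, by rw [← hk, Subgroup.orderOf_coe]⟩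
    | one => exact H.one_mem
    | mul a b _ _ ha hb => exact H.mul_mem ha hb
    | inv a _ ha => exact H.inv_mem ha
  exact this ⟨x, hx⟩ hx'

/-- an element commuting with all elements of prime power order is central. -/
theorem commute_all_of_pp [Finite K] {z : K} (h : ∀ x : K, IsPP x → Commute z x) (g : K) :
    Commute z g := by
  have hle : (⊤ : Subgroup K) ≤ Subgroup.centralizer ({z} : Set K) := by
    apply le_of_pp_mem
    intro x _ hx
    rw [Subgroup.mem_centralizer_singleton_iff]
    exact (h x hx).eq.symm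
  have := hle (Subgroup.mem_top g)
  rw [Subgroup.mem_centralizer_singleton_iff] at this
  exact this.symm

end Cfsg.Agent.Helper45.Nilp
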