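import Mathlib
import Cfsg.Prelude.Def_LieExceptional
import Cfsg.Prelude.Def_SolvableStructure
import Cfsg.Agent.Lib.Helper45.NilpTools
import Cfsg.Agent.Lib.Helper9.MinNonNilp
import Cfsg.Agent.S0041

/-!
# Tools for CN-groups (helper45)

* `commute_of_coprime`: in a finite nilpotent group an element of `r`-power order commutes with
  every element of order prime to `r`.
* `cn_commute`: in a CN-group, `a ~ b ~ c` (commuting), `b ≠ 1`, `a` an `r`-element, `c` an
  `r'`-element gives `a ~ c`.
* `cn_subgroup`: subgroups of CN-groups are CN-groups.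
* `minNonNilp_cn_false`: a CN-group whose abelian subgroups and subgroups of order `pq` are cyclic
  is not minimal non-nilpotent.
-/

set_option autoImplicit false

namespace Cfsg.Agent.Helper45.CN

open Cfsg.Agent.Helper45.Nilp

universe u

/-- in a finite nilpotent group an element of `r`-power order commutes with every element of order
prime to `r`. -/
theorem commute_of_coprime {K : Type*} [Group K] [Finite K] [Group.IsNilpotent K] {r : ℕ}
    (hr : r.Prime) {a c : K} {k : ℕ} (ha : orderOf a = r ^ k) (hc : (orderOf c).Coprime r) :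
    Commute a c := by
  have hle : Subgroup.zpowers c ≤ Subgroup.centralizer ({a} : Set K) := by
    apply le_of_pp_mem
    intro x hx hpp
    rw [Subgroup.mem_centralizer_singleton_iff]
    obtain ⟨s, j, hs, hj⟩ := hpp
    by_cases hj0 : j = 0
    · rw [hj0, pow_zero, orderOf_eq_one_iff] at hj
      rw [hj, mul_one, one_mul]
    · have hsd : s ∣ orderOf c := by
        have h1 : orderOf x ∣ orderOf c := orderOf_dvd_of_mem_zpowers hx
        rw [hj] at h1
        exact dvd_trans (dvd_pow_self s hj0) h1
      have hsr : s ≠ r := by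
        intro h
        rw [h] at hsd
        have := Nat.Coprime.eq_one_of_dvd hc.symm hsd
        exact hr.one_lt.ne' this
      exact ((commute_of_pp hr hs hsr.symm ha hj).eq).symm
  have := hle (Subgroup.mem_zpowers c)
  rw [Subgroup.mem_centralizer_singleton_iff] at this
  exact this.symm

variable {G : Type*} [Group G]

/-- in a CN-group, if `a` commutes with `b ≠ 1` and `b` commutes with `c`, `a` is an `r`-element and
`c` is an `r'`-element, then `a` commutes with `c`. -/
theorem cn_commute [Finite G] (hCN : Cfsg.IsCNGroup G) {a b c : G} (hb : b ≠ 1)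
    (hab : Commute a b) (hbc : Commute b c) {r k : ℕ} (hr : r.Prime) (ha : orderOf a = r ^ k)
    (hc : (orderOf c).Coprime r) : Commute a c := by
  have hnil := hCN b hb
  have haC : a ∈ Subgroup.centralizer ({b} : Set G) := by
    rw [Subgroup.mem_centralizer_singleton_iff]
    exact hab.eq
  have hcC : c ∈ Subgroup.centralizer ({b} : Set G) := by
    rw [Subgroup.mem_centralizer_singleton_iff]
    exact hbc.eq.symm
  have h := commute_of_coprime (K := Subgroup.centralizer ({b} : Set G)) hr
    (a := ⟨a, haC⟩) (c := ⟨c, hcC⟩) (k := k) (by rw [Subgroup.orderOf_mk, ha])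
    (by rw [Subgroup.orderOf_mk]; exact hc)
  exact congrArg Subtype.val h.eq

/-- subgroups of nilpotent groups, in the form: `H ≤ K`, `K` nilpotent. -/
theorem nilpotent_of_le {H K : Subgroup G} (hK : Group.IsNilpotent K) (hle : H ≤ K) :
    Group.IsNilpotent H := by
  have : Group.IsNilpotent (H.subgroupOf K) := inferInstance
  exact Group.nilpotent_of_mulEquiv (Subgroup.subgroupOfEquivOfLe hle)

/-- subgroups of CN-groups are CN-groups. -/
theorem cn_subgroup (hCN : Cfsg.IsCNGroup G) (H : Subgroup G) : Cfsg.IsCNGroup H := by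
  intro x hx
  have hx' : (x : G) ≠ 1 := fun h => hx (Subtype.ext h)
  have hnil := hCN (x : G) hx'
  -- the centralizer of `x` in `H` embeds into the centralizer of `x` in `G`
  let f : Subgroup.centralizer ({x} : Set H) →* Subgroup.centralizer ({(x : G)} : Set G) :=
    { toFun := fun y => ⟨((y : H) : G), by
        have := y.2
        rw [Subgroup.mem_centralizer_singleton_iff] at this ⊢
        exact congrArg Subtype.val this⟩
      map_one' := rfl
      map_mul' := fun _ _ => rfl }
  have hf : Function.Injective f := by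
    intro y₁ y₂ h
    have : ((y₁ : H) : G) = ((y₂ : H) : G) :=
      congrArg (Subtype.val : Subgroup.centralizer ({(x : G)} : Set G) → G) h
    exact Subtype.ext (Subtype.ext this)
  apply Subgroup.isNilpotent_of_ker_le_center f
  rw [(MonoidHom.ker_eq_bot_iff f).mpr hf]
  exact bot_le

/-- `Ω₁(Z(X))` for a `q`-subgroup `X`: the elements of `X` central in `X` with `a ^ q = 1`. -/
def omegaCenter (X : Subgroup G) (q : ℕ) : Subgroup G where
  carrier := {a | a ∈ X ∧ (∀ x ∈ X, a * x = x * a) ∧ a ^ q = 1}
  one_mem' := ⟨X.one_mem, fun x _ => by rw [one_mul, mul_one], one_pow q⟩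
  mul_mem' := by
    rintro a b ⟨haX, hac, haq⟩ ⟨hbX, hbc, hbq⟩
    refine ⟨X.mul_mem haX hbX, ?_, ?_⟩
    · intro x hx
      rw [mul_assoc, hbc x hx, ← mul_assoc, hac x hx, mul_assoc]
    · have : Commute a b := hac b hbX
      rw [this.mul_pow, haq, hbq, one_mul]
  inv_mem' := by
    rintro a ⟨haX, hac, haq⟩
    refine ⟨X.inv_mem haX, ?_, ?_⟩
    · intro x hx
      have := hac x hx
      calc a⁻¹ * x = a⁻¹ * (x * a) * a⁻¹ := by group
        _ = a⁻¹ * (a * x) * a⁻¹ := by rw [this]
        _ = x * a⁻¹ := by group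
    · rw [inv_pow, haq, inv_one]

theorem mem_omegaCenter {X : Subgroup G} {q : ℕ} {a : G} :
    a ∈ omegaCenter X q ↔ a ∈ X ∧ (∀ x ∈ X, a * x = x * a) ∧ a ^ q = 1 := Iff.rfl

theorem omegaCenter_normal (X : Subgroup G) [hX : X.Normal] (q : ℕ) : (omegaCenter X q).Normal := by
  constructor
  rintro a ⟨haX, hac, haq⟩ n
  refine ⟨hX.conj_mem a haX n, ?_, ?_⟩
  · intro x hx
    have hx' : n⁻¹ * x * n ∈ X := by
      have := hX.conj_mem x hx n⁻¹
      rwa [inv_inv] at this
    have := hac _ hx'
    calc n * a * n⁻¹ * x = n * (a * (n⁻¹ * x * n)) * n⁻¹ := by group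
      _ = n * ((n⁻¹ * x * n) * a) * n⁻¹ := by rw [this]
      _ = x * (n * a * n⁻¹) := by group
  · rw [conj_pow, haq, mul_one, mul_inv_cancel]

/-- a finite CN-group in which abelian subgroups and subgroups of order `pq` are cyclic
cannot be minimal non-nilpotent. -/
theorem minNonNilp_cn_false {M : Type u} [Group M] [Finite M] (hCN : Cfsg.IsCNGroup M)
    (hmin : Cfsg.IsMinimalNonNilpotent M)
    (h1 : ∀ A : Subgroup M, (∀ a ∈ A, ∀ b ∈ A, a * b = b * a) → IsCyclic A)
    (h2 : ∀ D : Subgroup M, ∀ p q : ℕ, p.Prime → q.Prime → Nat.card D = p * q → IsCyclic D) :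
    False := by
  obtain ⟨q, r, X, g, hq, hr, hqr, hX, hXn, ⟨k, hord⟩, htop, hgC⟩ :=
    Cfsg.Agent.Helper9.minNonNilp_raw hmin
  have : Fact q.Prime := ⟨hq⟩
  -- `g ≠ 1`
  have hk : k ≠ 0 := by
    intro h0
    rw [h0, pow_zero, orderOf_eq_one_iff] at hord
    apply hgC
    rw [hord]
    exact Subgroup.one_mem _
  -- the power `g'` of `g` of order `r`
  have hg' : orderOf (g ^ (orderOf g / r)) = r := by
    apply orderOf_pow_orderOf_div
    · rw [hord]; exact pow_ne_zero _ hr.ne_zero
    · rw [hord]; exact dvd_pow_self r hk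
  set g' := g ^ (orderOf g / r) with hg'def
  have hg'1 : g' ≠ 1 := by
    intro h
    rw [h, orderOf_one] at hg'
    exact hr.one_lt.ne hg'
  -- `X ≠ ⊥`
  have hXne : X ≠ ⊥ := by
    intro h
    apply hgC
    rw [Subgroup.mem_centralizer_iff]
    intro x hx
    have : x = 1 := by
      have hx' : x ∈ X := hx
      rw [h, Subgroup.mem_bot] at hx'
      exact hx'
    rw [this, one_mul, mul_one]
  have hXnt : Nontrivial X := (Subgroup.nontrivial_iff_ne_bot X).mpr hXne
  have hcen : Nontrivial (Subgroup.center X) := hX.center_nontrivial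
  have hdvd : q ∣ Nat.card (Subgroup.center X) := by
    rcases (hX.to_subgroup (Subgroup.center X)).card_eq_or_dvd with h | h
    · have := Finite.one_lt_card_iff_nontrivial.2 hcen
      omega
    · exact h
  obtain ⟨z₀, hz₀⟩ := exists_prime_orderOf_dvd_card' q hdvd
  set z : M := ((z₀ : X) : M) with hzdef
  have hzord : orderOf z = q := by
    rw [hzdef, Subgroup.orderOf_coe, Subgroup.orderOf_coe, hz₀]
  have hz1 : z ≠ 1 := by
    intro h
    rw [h, orderOf_one] at hzord
    exact hq.one_lt.ne hzord
  have hzX : z ∈ X := (z₀ : X).2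
  have hzc : ∀ x ∈ X, z * x = x * z := by
    intro x hx
    have := Subgroup.mem_center_iff.mp z₀.2 ⟨x, hx⟩
    exact (congrArg Subtype.val this).symm
  -- `A = Ω₁(Z(X))`
  set A := omegaCenter X q with hAdef
  have hAn : A.Normal := omegaCenter_normal X q
  have hzA : z ∈ A := ⟨hzX, hzc, by rw [← hzord, pow_orderOf_eq_one]⟩
  have hAcomm : ∀ a ∈ A, ∀ b ∈ A, a * b = b * a := fun a ha b hb => ha.2.1 b hb.1
  have hAcyc : IsCyclic A := h1 A hAcomm
  have hAcard : Nat.card A = q := by
    obtain ⟨c, hc⟩ := hAcyc.exists_generator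
    have hcard : orderOf c = Nat.card A := orderOf_eq_card_of_forall_mem_zpowers hc
    have hcq : orderOf c ∣ q := by
      apply orderOf_dvd_of_pow_eq_one
      apply Subtype.ext
      rw [Subgroup.coe_pow]
      exact c.2.2.2
    rcases (Nat.dvd_prime hq).mp hcq with h | h
    · exfalso
      rw [h] at hcard
      have hbot : A = ⊥ := Subgroup.card_eq_one.mp hcard.symm
      rw [hbot, Subgroup.mem_bot] at hzA
      exact hz1 hzA
    · rw [← hcard, h]
  -- `D = A ⟨g'⟩` has order `q r`
  set Z := Subgroup.zpowers g' with hZdef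
  have hZcard : Nat.card Z = r := by rw [hZdef, Nat.card_zpowers, hg']
  have hAZ : A ⊓ Z = ⊥ := by
    apply Disjoint.eq_bot
    apply Subgroup.disjoint_of_coprime_natCard
    rw [hAcard, hZcard]
    exact (Nat.coprime_primes hq hr).mpr hqr
  have hDcard : Nat.card (A ⊔ Z : Subgroup M) = q * r := by
    have e1 : (⊥ : Subgroup M).relIndex A * A.relIndex (A ⊔ Z) = (⊥ : Subgroup M).relIndex (A ⊔ Z) :=
      Subgroup.relIndex_mul_relIndex _ _ _ bot_le le_sup_left
    rw [Subgroup.relIndex_bot_left, Subgroup.relIndex_bot_left, Subgroup.relIndex_sup_left,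
      ← Subgroup.inf_relIndex_right, hAZ, Subgroup.relIndex_bot_left, hAcard, hZcard] at e1
    exact e1.symm
  have hDcyc : IsCyclic (A ⊔ Z : Subgroup M) := h2 _ q r hq hr hDcard
  -- hence `g'` commutes with `z`
  have hgz : Commute g' z := by
    obtain ⟨c, hc⟩ := hDcyc.exists_generator
    have hg'D : g' ∈ A ⊔ Z := (le_sup_right : Z ≤ A ⊔ Z) (Subgroup.mem_zpowers g')
    have hzD : z ∈ A ⊔ Z := (le_sup_left : A ≤ A ⊔ Z) hzA
    obtain ⟨i, hi⟩ := Subgroup.mem_zpowers_iff.mp (hc ⟨g', hg'D⟩)
    obtain ⟨j, hj⟩ := Subgroup.mem_zpowers_iff.mp (hc ⟨z, hzD⟩)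
    have hi' : g' = (c : M) ^ i := by
      have := congrArg Subtype.val hi
      rw [Subgroup.coe_zpow] at this
      exact this.symm
    have hj' : z = (c : M) ^ j := by
      have := congrArg Subtype.val hj
      rw [Subgroup.coe_zpow] at this
      exact this.symm
    rw [hi', hj']
    exact (Commute.refl (c : M)).zpow_zpow i j
  -- `g'` commutes with `X`
  have hgX : ∀ x ∈ X, Commute g' x := by
    intro x hx
    obtain ⟨n, hn⟩ := (IsPGroup.iff_orderOf.mp hX) ⟨x, hx⟩
    rw [Subgroup.orderOf_mk] at hn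
    apply cn_commute hCN hz1 hgz (hzc x hx) hr (k := 1) (by rw [pow_one, hg'])
    rw [hn]
    exact Nat.Coprime.pow_left n ((Nat.coprime_primes hq hr).mpr hqr)
  -- `g'` is central
  have hcent : Subgroup.centralizer ({g'} : Set M) = ⊤ := by
    rw [eq_top_iff, ← htop]
    apply sup_le
    · intro x hx
      rw [Subgroup.mem_centralizer_singleton_iff]
      exact (hgX x hx).eq.symm
    · rw [Subgroup.zpowers_le, Subgroup.mem_centralizer_singleton_iff, hg'def]
      exact ((Commute.refl g).pow_right _).eq
  have hnil := hCN g' hg'1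
  rw [hcent] at hnil
  exact hmin.1 (Group.nilpotent_of_mulEquiv Subgroup.topEquiv)

/-- a subgroup `E` of a finite CN-group acting fixed-point-freely (by conjugation) on a
nontrivial abelian subgroup `V` is nilpotent. -/
theorem cn_fpf_nilpotent {G : Type u} [Group G] [Finite G] (hCN : Cfsg.IsCNGroup G)
    (V E : Subgroup G) [IsMulCommutative V] (hV : V ≠ ⊥)
    (hEV : E ≤ Subgroup.normalizer (V : Set G))
    (hfpf : ∀ e ∈ E, e ≠ 1 → V ⊓ Subgroup.centralizer {e} = ⊥) : Group.IsNilpotent E := by
  by_contra hnn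
  let S : Set (Subgroup G) := {H | H ≤ E ∧ ¬ Group.IsNilpotent H}
  obtain ⟨K, hKS, hKmin⟩ := Set.exists_min_image S (fun H => Nat.card H) (Set.toFinite S)
    ⟨E, le_refl E, hnn⟩
  have hinj : Function.Injective K.subtype := K.subtype_injective
  have hmin : Cfsg.IsMinimalNonNilpotent K := by
    refine ⟨hKS.2, ?_⟩
    intro K' hK'
    by_contra hK'n
    have hle : K'.map K.subtype ≤ K := Subgroup.map_subtype_le K'
    have hmem : K'.map K.subtype ∈ S := by
      refine ⟨hle.trans hKS.1, ?_⟩
      intro hnil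
      exact hK'n (Group.nilpotent_of_mulEquiv (K'.equivMapOfInjective K.subtype hinj).symm)
    have h1 := hKmin _ hmem
    have h2 : Nat.card (K'.map K.subtype) = Nat.card K' :=
      Nat.card_congr (K'.equivMapOfInjective K.subtype hinj).symm.toEquiv
    rw [h2] at h1
    exact hK' (Subgroup.eq_top_of_le_card K' h1)
  apply minNonNilp_cn_false (cn_subgroup hCN K) hmin
  · intro A hA
    have hinst : IsMulCommutative (A.map K.subtype) := by
      refine ⟨⟨?_⟩⟩
      rintro ⟨a, ha⟩ ⟨b, hb⟩
      apply Subtype.ext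
      obtain ⟨a', ha', rfl⟩ := ha
      obtain ⟨b', hb', rfl⟩ := hb
      show K.subtype a' * K.subtype b' = K.subtype b' * K.subtype a'
      rw [← map_mul, ← map_mul, hA a' ha' b' hb']
    have hle : A.map K.subtype ≤ E := (Subgroup.map_subtype_le A).trans hKS.1
    have hcyc : IsCyclic (A.map K.subtype) :=
      Cfsg.Agent.S0041.result (A.map K.subtype) V hV (hle.trans hEV)
        (fun a ha => hfpf a (hle ha)) (Or.inl hinst)
    exact isCyclic_of_surjective (A.equivMapOfInjective K.subtype hinj).symm
      (A.equivMapOfInjective K.subtype hinj).symm.surjective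
  · intro D p q hp hq hcard
    have hle : D.map K.subtype ≤ E := (Subgroup.map_subtype_le D).trans hKS.1
    have h2 : Nat.card (D.map K.subtype) = Nat.card D :=
      Nat.card_congr (D.equivMapOfInjective K.subtype hinj).symm.toEquiv
    have hcyc : IsCyclic (D.map K.subtype) :=
      Cfsg.Agent.S0041.result (D.map K.subtype) V hV (hle.trans hEV)
        (fun a ha => hfpf a (hle ha)) (Or.inr ⟨p, q, hp, hq, by rw [h2, hcard]⟩)
    exact isCyclic_of_surjective (D.equivMapOfInjective K.subtype hinj).symm
      (D.equivMapOfInjective K.subtype hinj).symm.surjective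

end Cfsg.Agent.Helper45.CN
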