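import Mathlib
import Cfsg.Prelude.Def_OddOrderLocal
import Cfsg.Agent.Lib.Helper70.Fitting
import Cfsg.Agent.Lib.Helper45.CNTools

/-!
# The largest normal nilpotent Hall subgroup `Cfsg.fittingHall` (helper45)

`fittingHall_mem`: for a finite group, `fittingHall G` is itself a normal nilpotent Hall subgroup.
-/

set_option autoImplicit false

namespace Cfsg.Agent.Helper45.FH

universe u

variable {G : Type u} [Group G]

/-- the set of normal nilpotent Hall subgroups. -/
def NH (G : Type u) [Group G] : Set (Subgroup G) :=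
  {N | N.Normal ∧ Group.IsNilpotent N ∧ (Nat.card N).Coprime N.index}

theorem fittingHall_eq : Cfsg.fittingHall G = sSup (NH G) := rfl

theorem le_fittingHall {N : Subgroup G} (hN : N ∈ NH G) : N ≤ Cfsg.fittingHall G :=
  le_sSup hN

theorem bot_mem_NH : (⊥ : Subgroup G) ∈ NH G := by
  refine ⟨inferInstance, inferInstance, ?_⟩
  rw [Subgroup.card_bot]
  exact Nat.coprime_one_left _

/-- the join of two normal nilpotent subgroups of a finite group is nilpotent. -/
theorem nilpotent_sup [Finite G] {A B : Subgroup G} (hA : A.Normal) (hB : B.Normal)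
    (hAn : Group.IsNilpotent A) (hBn : Group.IsNilpotent B) :
    Group.IsNilpotent (A ⊔ B : Subgroup G) := by
  have h1 : A ≤ Cfsg.fittingSubgroup G := le_sSup ⟨hA, hAn⟩
  have h2 : B ≤ Cfsg.fittingSubgroup G := le_sSup ⟨hB, hBn⟩
  exact Cfsg.Agent.Helper45.CN.nilpotent_of_le
    (Cfsg.Agent.Helper70.fittingSubgroup_isNilpotent G) (sup_le h1 h2)

theorem sup_mem_NH [Finite G] {A B : Subgroup G} (hA : A ∈ NH G) (hB : B ∈ NH G) :
    A ⊔ B ∈ NH G := by
  obtain ⟨hAn, hAnil, hAc⟩ := hA
  obtain ⟨hBn, hBnil, hBc⟩ := hB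
  refine ⟨Subgroup.sup_normal A B, nilpotent_sup hAn hBn hAnil hBnil, ?_⟩
  apply Nat.coprime_of_dvd
  intro r hr hdvd hdvd2
  have h1 : Nat.card (A ⊔ B : Subgroup G) ∣ Nat.card A * Nat.card B := by
    have e1 : (⊥ : Subgroup G).relIndex A * A.relIndex (A ⊔ B) = (⊥ : Subgroup G).relIndex (A ⊔ B) :=
      Subgroup.relIndex_mul_relIndex _ _ _ bot_le le_sup_left
    rw [Subgroup.relIndex_bot_left, Subgroup.relIndex_bot_left, Subgroup.relIndex_sup_left] at e1
    rw [← e1]
    exact Nat.mul_dvd_mul_left _ (Subgroup.relIndex_dvd_card A B)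
  rcases (Nat.Prime.dvd_mul hr).mp (dvd_trans hdvd h1) with h | h
  · have h2 : r ∣ A.index := dvd_trans hdvd2 (Subgroup.index_dvd_of_le le_sup_left)
    have := Nat.dvd_gcd h h2
    rw [hAc.gcd_eq_one] at this
    exact hr.one_lt.ne' (Nat.dvd_one.mp this)
  · have h2 : r ∣ B.index := dvd_trans hdvd2 (Subgroup.index_dvd_of_le le_sup_right)
    have := Nat.dvd_gcd h h2
    rw [hBc.gcd_eq_one] at this
    exact hr.one_lt.ne' (Nat.dvd_one.mp this)

/-- for a finite group, `fittingHall G` is a normal nilpotent Hall subgroup. -/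
theorem fittingHall_mem [Finite G] : Cfsg.fittingHall G ∈ NH G := by
  have hfin : (NH G).Finite := Set.toFinite _
  have h : sSup (NH G) = hfin.toFinset.sup id := by
    rw [Finset.sup_id_eq_sSup, Set.Finite.coe_toFinset]
  rw [fittingHall_eq, h]
  exact Finset.sup_mem (NH G) bot_mem_NH (fun x hx y hy => sup_mem_NH hx hy) _ _
    (fun i hi => hfin.mem_toFinset.mp hi)

theorem fittingHall_nilpotent [Finite G] : Group.IsNilpotent (Cfsg.fittingHall G) :=
  fittingHall_mem.2.1

theorem fittingHall_coprime [Finite G] :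
    (Nat.card (Cfsg.fittingHall G)).Coprime (Cfsg.fittingHall G).index :=
  fittingHall_mem.2.2

/-- a normal Sylow subgroup lies in `fittingHall G`. -/
theorem sylow_le_fittingHall [Finite G] {p : ℕ} [Fact p.Prime] (P : Sylow p G)
    (hP : (P : Subgroup G).Normal) : (P : Subgroup G) ≤ Cfsg.fittingHall G := by
  apply le_fittingHall
  exact ⟨hP, P.isPGroup'.isNilpotent, P.card_coprime_index⟩

end Cfsg.Agent.Helper45.FH
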