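import Mathlib

/-!
# A non-quadratic action lemma (helper45)

Let `K ⊴ X`, `A₀ ≤ X` with `K A₀ ⊴ X`, `A₀` a nontrivial `p'`-group acting fixed-point-freely on
`K`, such that elements outside `K A₀` act fixed-point-freely on `A₀` modulo `K`.  If `V ≤ Z(K)` is
a normal subgroup of `X` of exponent `p` (`p` odd) and a `p`-element `u ∉ K` acts quadratically
on `V`, then `V = 1`.
-/

set_option autoImplicit false

namespace Cfsg.Agent.Helper45.NQ

open scoped commutatorElement Pointwise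

variable {X : Type*} [Group X] [Finite X]

omit [Finite X] in
/-- an element of `p`-power order lying in `K A₀`, with `A₀` a `p'`-group, lies in `K`. -/
theorem mem_of_mem_sup {p : ℕ} (K A₀ : Subgroup X) [K.Normal]
    (hAcop : (Nat.card A₀).Coprime p) {y : X} {i : ℕ} (hy : y ^ (p ^ i) = 1)
    (hyL : y ∈ K ⊔ A₀) : y ∈ K := by
  have hmul : ((K ⊔ A₀ : Subgroup X) : Set X) = (K : Set X) * (A₀ : Set X) :=
    Subgroup.normal_mul K A₀
  have hy' : y ∈ (K : Set X) * (A₀ : Set X) := by rw [← hmul]; exact hyL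
  obtain ⟨k₀, hk₀, a, ha, hka⟩ := Set.mem_mul.mp hy'
  have hk₀' : k₀ ∈ K := hk₀
  have ha' : a ∈ A₀ := ha
  rw [← QuotientGroup.eq_one_iff]
  have hya : (QuotientGroup.mk y : X ⧸ K) = QuotientGroup.mk a := by
    rw [← hka, QuotientGroup.mk_mul, (QuotientGroup.eq_one_iff k₀).mpr hk₀', one_mul]
  have h1 : (QuotientGroup.mk y : X ⧸ K) ^ (p ^ i) = 1 := by
    rw [← QuotientGroup.mk_pow, hy]
    rfl
  have h2 : (QuotientGroup.mk y : X ⧸ K) ^ (Nat.card A₀) = 1 := by
    rw [hya, ← QuotientGroup.mk_pow]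
    have : a ^ Nat.card A₀ = 1 := by
      have h := pow_card_eq_one' (G := A₀) (x := ⟨a, ha'⟩)
      have h' := congrArg Subtype.val h
      rw [Subgroup.coe_pow, Subgroup.coe_one] at h'
      exact h'
    rw [this]
    rfl
  have hcop : (p ^ i).Coprime (Nat.card A₀) := Nat.Coprime.pow_left _ hAcop.symm
  have h3 := pow_gcd_eq_one.mpr ⟨h1, h2⟩
  rw [Nat.Coprime.gcd_eq_one hcop, pow_one] at h3
  exact h3

section abstract

variable {W : Type*} [CommGroup W]

omit [Finite X] in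
/-- the product over an orbit of a finite acting subgroup is fixed by that subgroup. -/
theorem orbit_prod_fixed (ρ : X →* MulAut W) (A₀ : Subgroup X) [Fintype A₀] (w : W) (a : A₀) :
    ρ (a : X) (∏ b : A₀, ρ (b : X) w) = ∏ b : A₀, ρ (b : X) w := by
  rw [map_prod]
  have h1 : ∀ b : A₀, ρ (a : X) (ρ (b : X) w) = ρ ((a * b : A₀) : X) w := by
    intro b
    rw [Subgroup.coe_mul, map_mul, MulAut.mul_apply]
  rw [Finset.prod_congr rfl (fun b _ => h1 b)]
  exact Fintype.prod_equiv (Equiv.mulLeft a) (fun b => ρ ((a * b : A₀) : X) w)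
    (fun b => ρ (b : X) w) (fun b => rfl)

/-- iterating an automorphism `f` with `f w = w d`, `f d = d`. -/
theorem quad_iter (f : MulAut W) {w d : W} (hw : f w = w * d) (hd : f d = d) (j : ℕ) :
    (f ^ j) w = w * d ^ j := by
  induction j with
  | zero => simp
  | succ j ih =>
    rw [pow_succ', MulAut.mul_apply, ih, map_mul, map_pow, hw, hd, pow_succ]
    rw [mul_assoc, mul_comm d (d ^ j)]

/-- the norm of a quadratically acting automorphism of `p`-power order `m` (`p` odd) is trivial on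
elements of exponent `p`. -/
theorem quad_norm {p : ℕ} (hp : p.Prime) (hp2 : p ≠ 2) (f : MulAut W) {w d : W}
    (hw : f w = w * d) (hd : f d = d) (hwp : w ^ p = 1) (hdp : d ^ p = 1) {m : ℕ} (hm : p ∣ m) :
    ∏ j ∈ Finset.range m, (f ^ j) w = 1 := by
  rw [Finset.prod_congr rfl (fun j _ => quad_iter f hw hd j), Finset.prod_mul_distrib,
    Finset.prod_const, Finset.card_range, Finset.prod_pow_eq_pow_sum]
  obtain ⟨t, ht⟩ := hm
  have h1 : w ^ m = 1 := by rw [ht, pow_mul, hwp, one_pow]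
  have h2 : p ∣ ∑ j ∈ Finset.range m, j := by
    have h3 : p ∣ (∑ j ∈ Finset.range m, j) * 2 := by
      rw [Finset.sum_range_id_mul_two, ht, mul_assoc]
      exact dvd_mul_right p _
    rcases (Nat.Prime.dvd_mul hp).mp h3 with h | h
    · exact h
    · exact absurd ((Nat.prime_dvd_prime_iff_eq hp Nat.prime_two).mp h) hp2
  obtain ⟨t', ht'⟩ := h2
  rw [h1, ht', pow_mul, hdp, one_pow, one_mul]

end abstract

open scoped IsMulCommutative in
/-- **Non-quadratic action.**  See the module docstring. -/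
theorem nonquadratic {p : ℕ} (hp : p.Prime) (hp2 : p ≠ 2) (K A₀ V : Subgroup X) [hKn : K.Normal]
    [hVn : V.Normal] (hKA : (K ⊔ A₀).Normal) (hAcop : (Nat.card A₀).Coprime p) (hA1 : A₀ ≠ ⊥)
    (hfpf : ∀ a ∈ A₀, a ≠ 1 → K ⊓ Subgroup.centralizer ({a} : Set X) = ⊥)
    (hfrob : ∀ x : X, x ∉ K ⊔ A₀ → ∀ a ∈ A₀, a ≠ 1 → x * a * x⁻¹ * a⁻¹ ∉ K)
    (hVK : V ≤ K) (hKV : ∀ k ∈ K, ∀ v ∈ V, k * v = v * k) (hVp : ∀ v ∈ V, v ^ p = 1)
    (u : X) {i : ℕ} (hu : u ^ (p ^ i) = 1) (huK : u ∉ K)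
    (hquad : ∀ v ∈ V, ⁅⁅v, u⁆, u⁆ = 1) : V = ⊥ := by
  classical
  have : Fintype A₀ := Fintype.ofFinite A₀
  have : IsMulCommutative V := ⟨⟨fun a b => Subtype.ext (hKV a (hVK a.2) b b.2)⟩⟩
  let ρ : X →* MulAut V := MulAut.conjNormal
  have hρ : ∀ (g : X) (v : V), ((ρ g v : V) : X) = g * v * g⁻¹ :=
    fun g v => MulAut.conjNormal_apply g v
  have hρK : ∀ k ∈ K, ∀ v : V, ρ k v = v := by
    intro k hk v
    apply Subtype.ext
    rw [hρ, hKV k hk v v.2, mul_inv_cancel_right]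
  set m := orderOf (QuotientGroup.mk u : X ⧸ K) with hmdef
  have hpow_mem : ∀ j : ℕ, u ^ j ∈ K ↔ m ∣ j := by
    intro j
    rw [hmdef, orderOf_dvd_iff_pow_eq_one, ← QuotientGroup.mk_pow, QuotientGroup.eq_one_iff]
  have hm1 : m ≠ 1 := by
    intro h
    apply huK
    have := (hpow_mem 1).mpr (by rw [h])
    rwa [pow_one] at this
  have hmdvd : m ∣ p ^ i := by
    rw [← hpow_mem, hu]; exact K.one_mem
  have hpm : p ∣ m := by
    obtain ⟨k, hk, hmk⟩ := (Nat.dvd_prime_pow hp).mp hmdvd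
    rw [hmk] at hm1 ⊢
    cases k with
    | zero => exact absurd (pow_zero p) hm1
    | succ k => exact dvd_pow_self p (Nat.succ_ne_zero k)
  have hm0 : 0 < m := orderOf_pos _
  -- Claim 1
  have hfix : ∀ w : V, ∏ b : A₀, ρ (b : X) w = 1 := by
    intro w
    obtain ⟨a, ha1⟩ := Subgroup.ne_bot_iff_exists_ne_one.mp hA1
    have ha1' : (a : X) ≠ 1 := fun h => ha1 (Subtype.ext h)
    have h1 := orbit_prod_fixed ρ A₀ w a
    set s := ∏ b : A₀, ρ (b : X) w with hs
    have h2 : ((s : V) : X) ∈ K ⊓ Subgroup.centralizer ({(a : X)} : Set X) := by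
      refine Subgroup.mem_inf.mpr ⟨hVK s.2, ?_⟩
      rw [Subgroup.mem_centralizer_singleton_iff]
      have h3 := congrArg Subtype.val h1
      rw [hρ] at h3
      calc (s : X) * a = ((a : X) * s * (a : X)⁻¹) * a := by rw [h3]
        _ = a * s := by group
    rw [hfpf a a.2 ha1', Subgroup.mem_bot] at h2
    exact Subtype.ext h2
  -- Claim 2
  have hnorm : ∀ w : V, ∏ j ∈ Finset.range m, ρ (u ^ j) w = 1 := by
    intro w
    set d : V := ρ u w * w⁻¹ with hd
    have hw : ρ u w = w * d := by rw [hd, mul_comm w, inv_mul_cancel_right]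
    have hdX : (d : X) = ⁅u, (w : X)⁆ := by
      rw [hd, Subgroup.coe_mul, hρ, Subgroup.coe_inv, commutatorElement_def]
    have hdfix : ρ u d = d := by
      apply Subtype.ext
      rw [hρ, hdX]
      have hq := hquad w w.2
      have hc : Commute ⁅(w : X), u⁆ u := commutatorElement_eq_one_iff_commute.mp hq
      have hc' := hc.inv_left
      rw [commutatorElement_inv] at hc'
      rw [← hc'.eq, mul_inv_cancel_right]
    have hwp : w ^ p = 1 := Subtype.ext (by simpa using hVp w w.2)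
    have hdp : d ^ p = 1 := Subtype.ext (by simpa using hVp d d.2)
    have := quad_norm hp hp2 (ρ u) hw hdfix hwp hdp hpm
    rw [← this]
    apply Finset.prod_congr rfl
    intro j _
    rw [map_pow]
  -- Claim 3
  have hconj : ∀ y : X, y ∉ K ⊔ A₀ → ∀ v : V,
      ∏ c : A₀, ρ ((c : X) * y * (c : X)⁻¹) v = 1 := by
    intro y hy v
    have hmul : ((K ⊔ A₀ : Subgroup X) : Set X) = (K : Set X) * (A₀ : Set X) :=
      Subgroup.normal_mul K A₀
    have h : ∀ c : A₀, ∃ b : A₀, ∃ k ∈ K, (c : X) * y * (c : X)⁻¹ * y⁻¹ = k * b := by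
      intro c
      have h1 : (c : X) * y * (c : X)⁻¹ * y⁻¹ ∈ K ⊔ A₀ := by
        have hc : (c : X) ∈ K ⊔ A₀ := Subgroup.mem_sup_right c.2
        have h2 := hKA.conj_mem _ (inv_mem hc) y
        have h3 := mul_mem hc h2
        have h4 : (c : X) * (y * (c : X)⁻¹ * y⁻¹) = (c : X) * y * (c : X)⁻¹ * y⁻¹ := by group
        rwa [h4] at h3
      have h1' : (c : X) * y * (c : X)⁻¹ * y⁻¹ ∈ (K : Set X) * (A₀ : Set X) := by
        rw [← hmul]; exact h1
      obtain ⟨k, hk, b, hb, hkb⟩ := Set.mem_mul.mp h1'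
      exact ⟨⟨b, hb⟩, k, hk, hkb.symm⟩
    choose φ kk hkk hφ using h
    have hφinj : Function.Injective φ := by
      intro c c' hcc
      by_contra hne
      set a : A₀ := c⁻¹ * c' with ha
      have ha1 : (a : X) ≠ 1 := by
        intro h1
        apply hne
        have : a = 1 := Subtype.ext h1
        rw [ha, inv_mul_eq_one] at this
        exact this
      have hyinv : y⁻¹ ∉ K ⊔ A₀ := fun h1 => hy (by simpa using inv_mem h1)
      apply hfrob y⁻¹ hyinv a a.2 ha1
      rw [inv_inv]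
      have hE : ((c : X) * y * (c : X)⁻¹ * y⁻¹)⁻¹ * ((c' : X) * y * (c' : X)⁻¹ * y⁻¹) ∈ K := by
        rw [hφ c, hφ c', hcc]
        have : ((kk c : X) * (φ c' : X))⁻¹ * (kk c' * (φ c' : X)) =
            (φ c' : X)⁻¹ * ((kk c)⁻¹ * kk c') * ((φ c' : X)⁻¹)⁻¹ := by group
        rw [this]
        exact hKn.conj_mem _ (K.mul_mem (K.inv_mem (hkk c)) (hkk c')) _
      have hE2 : ((c : X) * y * (c : X)⁻¹ * y⁻¹)⁻¹ * ((c' : X) * y * (c' : X)⁻¹ * y⁻¹) =
          (y * c) * (y⁻¹ * (a : X) * y * (a : X)⁻¹) * (y * c)⁻¹ := by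
        rw [ha, Subgroup.coe_mul, Subgroup.coe_inv]
        group
      rw [hE2] at hE
      have := hKn.conj_mem _ hE (y * c)⁻¹
      have h9 : (y * (c : X))⁻¹ * ((y * c) * (y⁻¹ * (a : X) * y * (a : X)⁻¹) * (y * c)⁻¹) *
          ((y * (c : X))⁻¹)⁻¹ = y⁻¹ * (a : X) * y * (a : X)⁻¹ := by group
      rwa [h9] at this
    have hφbij : Function.Bijective φ := Finite.injective_iff_bijective.mp hφinj
    have h2 : ∀ c : A₀, ρ ((c : X) * y * (c : X)⁻¹) v = ρ ((φ c : A₀) : X) (ρ y v) := by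
      intro c
      have h3 : (c : X) * y * (c : X)⁻¹ = kk c * (φ c : X) * y := by
        rw [← hφ c]; group
      rw [h3, map_mul, map_mul, MulAut.mul_apply, MulAut.mul_apply, hρK _ (hkk c)]
    rw [Finset.prod_congr rfl (fun c _ => h2 c)]
    rw [Function.Bijective.prod_comp hφbij (fun b : A₀ => ρ (b : X) (ρ y v))]
    exact hfix (ρ y v)
  -- main computation
  rw [Subgroup.eq_bot_iff_forall]
  intro v₀ hv₀
  set v : V := ⟨v₀, hv₀⟩ with hv
  have hT1 : ∏ c : A₀, ∏ j ∈ Finset.range m, ρ ((c : X) * u ^ j * (c : X)⁻¹) v = 1 := by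
    apply Finset.prod_eq_one
    intro c _
    have h1 : ∀ j, ρ ((c : X) * u ^ j * (c : X)⁻¹) v =
        ρ (c : X) (ρ (u ^ j) (ρ ((c : X)⁻¹) v)) := by
      intro j
      rw [map_mul, map_mul, MulAut.mul_apply, MulAut.mul_apply]
    rw [Finset.prod_congr rfl (fun j _ => h1 j), ← map_prod, hnorm, map_one]
  rw [Finset.prod_comm] at hT1
  have hT2 : ∏ j ∈ Finset.range m, ∏ c : A₀, ρ ((c : X) * u ^ j * (c : X)⁻¹) v =
      v ^ (Nat.card A₀) := by
    rw [Finset.prod_eq_single 0]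
    · simp [Nat.card_eq_fintype_card]
    · intro j hj hj0
      apply hconj
      intro hmem
      have hjK : u ^ j ∈ K := mem_of_mem_sup K A₀ hAcop (i := i)
        (by rw [← pow_mul, mul_comm, pow_mul, hu, one_pow]) hmem
      have := (hpow_mem j).mp hjK
      have hjlt := Finset.mem_range.mp hj
      exact absurd (Nat.le_of_dvd (Nat.pos_of_ne_zero hj0) this) (not_le.mpr hjlt)
    · intro h; exact absurd (Finset.mem_range.mpr hm0) h
  rw [hT2] at hT1
  have hvp : v ^ p = 1 := Subtype.ext (by simpa using hVp v₀ hv₀)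
  have h3 := pow_gcd_eq_one.mpr ⟨hT1, hvp⟩
  rw [Nat.Coprime.gcd_eq_one hAcop, pow_one] at h3
  exact congrArg Subtype.val h3

end Cfsg.Agent.Helper45.NQ
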