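import Mathlib
import Cfsg.Prelude.Def_OddOrderLocal
import Cfsg.Agent.Lib.Helper45.CNTools
import Cfsg.Agent.Lib.Helper45.FittingHall
import Cfsg.Agent.Lib.Helper70.Fitting
import Cfsg.Agent.Lib.Helper71.FrobConj
import Cfsg.Agent.S0016
import Cfsg.Agent.S0041
import Cfsg.Agent.S1473
import Cfsg.Agent.S1474

/-!
# Solvable CN-groups (helper45)

Tools for the trichotomy for solvable CN-groups (Feit–Hall–Thompson): nilpotent, Frobenius with
cyclic / cyclic × quaternion complement, or three-step group.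
-/

set_option autoImplicit false

namespace Cfsg.Agent.Helper45.CNS

open Cfsg.Agent.Helper45.CN Cfsg.Agent.Helper45.FH Cfsg.Agent.Helper45.Nilp

universe u

section general

variable {G : Type u} [Group G] [Finite G]

/-- a Sylow subgroup of `G` contained in a nilpotent normal subgroup is normal in `G`. -/
theorem sylow_normal_of_le {r : ℕ} [Fact r.Prime] (R : Sylow r G) (C : Subgroup G)
    (hCn : C.Normal) (hCnil : Group.IsNilpotent C) (hRC : (R : Subgroup G) ≤ C) :
    (R : Subgroup G).Normal := by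
  constructor
  intro y hy g
  have hyC : g * y * g⁻¹ ∈ C := hCn.conj_mem y (hRC hy) g
  obtain ⟨j, hj⟩ := (IsPGroup.iff_orderOf.mp R.isPGroup') ⟨y, hy⟩
  have hj' : orderOf y = r ^ j := by rw [← hj, Subgroup.orderOf_mk]
  have hord : orderOf (⟨g * y * g⁻¹, hyC⟩ : C) = r ^ j := by
    rw [Subgroup.orderOf_mk, ← hj', ← MulAut.conj_apply]
    exact MulEquiv.orderOf_eq _ _
  have hRCn : ((R.subtype hRC : Sylow r C) : Subgroup C).Normal := inferInstance
  have := mem_sylow_of_normal (R.subtype hRC) hRCn hord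
  rw [Sylow.coe_subtype, Subgroup.mem_subgroupOf] at this
  exact this

/-- `[X Y : X] = [Y : X ∩ Y]` when `Y` normalizes `X`. -/
theorem relIndex_sup_of_le_normalizer (X Y : Subgroup G)
    (h : Y ≤ Subgroup.normalizer (X : Set G)) : X.relIndex (X ⊔ Y) = X.relIndex Y := by
  have hXB : X ≤ X ⊔ Y := le_sup_left
  have hYB : Y ≤ X ⊔ Y := le_sup_right
  have hBN : X ⊔ Y ≤ Subgroup.normalizer (X : Set G) := sup_le Subgroup.le_normalizer h
  have : (X.subgroupOf (X ⊔ Y)).Normal :=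
    (Subgroup.normal_subgroupOf_iff_le_normalizer hXB).mpr hBN
  have h1 := Subgroup.relIndex_sup_left (Y.subgroupOf (X ⊔ Y)) (X.subgroupOf (X ⊔ Y))
  rw [← Subgroup.subgroupOf_sup hXB hYB, Subgroup.relIndex_subgroupOf hYB,
    Subgroup.subgroupOf_self, Subgroup.relIndex_top_right] at h1
  exact h1

/-- `|X Y|` divides `|X| |Y|` when `Y` normalizes `X`. -/
theorem card_sup_dvd (X Y : Subgroup G) (h : Y ≤ Subgroup.normalizer (X : Set G)) :
    Nat.card (X ⊔ Y : Subgroup G) ∣ Nat.card X * Nat.card Y := by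
  have h1 := Subgroup.relIndex_mul_relIndex ⊥ X (X ⊔ Y) bot_le le_sup_left
  rw [Subgroup.relIndex_bot_left, Subgroup.relIndex_bot_left,
    relIndex_sup_of_le_normalizer X Y h] at h1
  rw [← h1]
  exact Nat.mul_dvd_mul_left _ (Subgroup.relIndex_dvd_card _ _)

end general

section fpf

variable {G : Type u} [Group G] [Finite G]

/-- an `r`-subgroup acting fixed-point-freely on a nontrivial normal `r'`-subgroup `V` has at most
one subgroup of order `r`. -/
theorem fpf_mem_zpowers (V : Subgroup G) [V.Normal] (hV : V ≠ ⊥) (B : Subgroup G)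
    (r : ℕ) [Fact r.Prime] (hB : IsPGroup r B) (hcop : (Nat.card V).Coprime r)
    (hfpf : ∀ b ∈ B, b ≠ 1 → V ⊓ Subgroup.centralizer ({b} : Set G) = ⊥)
    (A₁ A₂ : Subgroup B) (h1 : Nat.card A₁ = r) (h2 : Nat.card A₂ = r) : A₁ = A₂ := by
  have : Nontrivial V := (Subgroup.nontrivial_iff_ne_bot V).mpr hV
  refine Cfsg.Agent.Helper71.unique_subgroup_order_p_of_fpf r hB hcop
    (Cfsg.Agent.Helper71.conjHom B V) ?_ A₁ A₂ h1 h2
  intro g hg x hx
  have hx' : (g : G) * x * (g : G)⁻¹ = x := by rw [← Cfsg.Agent.Helper71.conjHom_coe, hx]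
  have hg1 : (g : G) ≠ 1 := fun h => hg (Subtype.ext h)
  have hmem : (x : G) ∈ V ⊓ Subgroup.centralizer ({(g : G)} : Set G) := by
    refine Subgroup.mem_inf.mpr ⟨x.2, ?_⟩
    rw [Subgroup.mem_centralizer_singleton_iff]
    calc (x : G) * g = ((g : G) * x * (g : G)⁻¹) * g := by rw [hx']
      _ = g * x := by group
  rw [hfpf g g.2 hg1, Subgroup.mem_bot] at hmem
  exact Subtype.ext hmem

/-- an `r`-subgroup acting fixed-point-freely on a nontrivial normal `r'`-subgroup `V` is cyclic or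
generalized quaternion. -/
theorem fpf_cyclic_or_quat (V : Subgroup G) [V.Normal] (hV : V ≠ ⊥) (B : Subgroup G)
    (r : ℕ) [Fact r.Prime] (hB : IsPGroup r B) (hcop : (Nat.card V).Coprime r)
    (hfpf : ∀ b ∈ B, b ≠ 1 → V ⊓ Subgroup.centralizer ({b} : Set G) = ⊥) :
    IsCyclic B ∨ (r = 2 ∧ ∃ n : ℕ, Nonempty (B ≃* QuaternionGroup (2 ^ n))) :=
  Cfsg.Agent.S0016.result r hB (fpf_mem_zpowers V hV B r hB hcop hfpf)

/-- the elements of `r`-power order of a nilpotent subgroup `K`, as a subgroup of the ambient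
group. -/
noncomputable def sylowPart (K : Subgroup G) (r : ℕ) [Fact r.Prime] : Subgroup G :=
  ((default : Sylow r K) : Subgroup K).map K.subtype

theorem sylowPart_le (K : Subgroup G) (r : ℕ) [Fact r.Prime] : sylowPart K r ≤ K :=
  Subgroup.map_subtype_le _

theorem sylowPart_isPGroup (K : Subgroup G) (r : ℕ) [Fact r.Prime] :
    IsPGroup r (sylowPart K r) :=
  (default : Sylow r K).isPGroup'.map _

theorem mem_sylowPart {K : Subgroup G} (hnil : Group.IsNilpotent K) {r : ℕ} [Fact r.Prime]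
    {x : G} (hx : x ∈ K) {k : ℕ} (hxo : orderOf x = r ^ k) : x ∈ sylowPart K r := by
  have hn : (((default : Sylow r K)) : Subgroup K).Normal := inferInstance
  have h1 : (⟨x, hx⟩ : K) ∈ ((default : Sylow r K) : Subgroup K) :=
    mem_sylow_of_normal _ hn (k := k) (by rw [Subgroup.orderOf_mk, hxo])
  exact ⟨⟨x, hx⟩, h1, rfl⟩

/-- in a nilpotent subgroup acting fixed-point-freely on `V`, two `r`-elements commute for an odd
prime `r`. -/
theorem fpf_commute_odd (V : Subgroup G) [V.Normal] (hV : V ≠ ⊥) (K : Subgroup G)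
    (hnil : Group.IsNilpotent K) (r : ℕ) [Fact r.Prime] (hr2 : r ≠ 2)
    (hcop : (Nat.card V).Coprime r)
    (hfpf : ∀ b ∈ K, b ≠ 1 → V ⊓ Subgroup.centralizer ({b} : Set G) = ⊥)
    {x y : G} (hx : x ∈ K) (hy : y ∈ K) {i j : ℕ} (hxo : orderOf x = r ^ i)
    (hyo : orderOf y = r ^ j) : Commute x y := by
  have hx' := mem_sylowPart hnil hx hxo
  have hy' := mem_sylowPart hnil hy hyo
  rcases fpf_cyclic_or_quat V hV (sylowPart K r) r (sylowPart_isPGroup K r) hcop
    (fun b hb => hfpf b (sylowPart_le K r hb)) with hc | ⟨h2, -⟩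
  · have hcomm : IsMulCommutative (sylowPart K r) := inferInstance
    exact congrArg Subtype.val (hcomm.is_comm.comm ⟨x, hx'⟩ ⟨y, hy'⟩)
  · exact absurd h2 hr2

/-- a nilpotent subgroup acting fixed-point-freely on the nontrivial abelian normal subgroup `V`
of coprime order, and whose `2`-elements commute, is cyclic. -/
theorem fpf_cyclic (V : Subgroup G) [V.Normal] [IsMulCommutative V] (hV : V ≠ ⊥)
    (K : Subgroup G) (hnil : Group.IsNilpotent K)
    (hcop : (Nat.card V).Coprime (Nat.card K))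
    (hfpf : ∀ b ∈ K, b ≠ 1 → V ⊓ Subgroup.centralizer ({b} : Set G) = ⊥)
    (h2 : ∀ x ∈ K, ∀ y ∈ K, ∀ i j : ℕ, orderOf x = 2 ^ i → orderOf y = 2 ^ j → Commute x y) :
    IsCyclic K := by
  -- prime power elements commute
  have step1 : ∀ x y : K, IsPP x → IsPP y → Commute x y := by
    rintro x y ⟨p, k, hp, hxo⟩ ⟨s, l, hs, hyo⟩
    by_cases hk : k = 0
    · rw [hk, pow_zero, orderOf_eq_one_iff] at hxo
      rw [hxo]
      exact Commute.one_left y
    by_cases hps : p = s
    · subst hps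
      have hxo' : orderOf (x : G) = p ^ k := by rw [Subgroup.orderOf_coe, hxo]
      have hyo' : orderOf (y : G) = p ^ l := by rw [Subgroup.orderOf_coe, hyo]
      have hc : Commute (x : G) (y : G) := by
        by_cases hp2 : p = 2
        · subst hp2
          exact h2 x x.2 y y.2 k l hxo' hyo'
        · have : Fact p.Prime := ⟨hp⟩
          have hpK : p ∣ Nat.card K := by
            have h1 : orderOf x ∣ Nat.card K := orderOf_dvd_natCard x
            rw [hxo] at h1
            exact dvd_trans (dvd_pow_self p hk) h1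
          exact fpf_commute_odd V hV K hnil p hp2 (Nat.Coprime.coprime_dvd_right hpK hcop)
            hfpf x.2 y.2 hxo' hyo'
      exact Subtype.ext hc.eq
    · exact commute_of_pp hp hs hps hxo hyo
  have step2 : ∀ x : K, IsPP x → ∀ g : K, Commute x g := fun x hx g =>
    commute_all_of_pp (fun y hy => step1 x y hx hy) g
  have step3 : ∀ g g' : K, Commute g g' := fun g g' =>
    commute_all_of_pp (fun y hy => (step2 y hy g).symm) g'
  have hcomm : IsMulCommutative K := ⟨⟨fun a b => (step3 a b).eq⟩⟩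
  apply Cfsg.Agent.S0041.result K V hV _ hfpf (Or.inl hcomm)
  rw [Subgroup.normalizer_eq_top]
  exact le_top

end fpf

section caseA

variable {G : Type u} [Group G] [Finite G]

/-- Case A of the trichotomy: a non-nilpotent CN-group with a nontrivial normal Sylow subgroup is
a Frobenius group whose complement is cyclic or cyclic × quaternion. -/
theorem caseA (hCN : Cfsg.IsCNGroup G) (hnn : ¬ Group.IsNilpotent G) (p : ℕ) [Fact p.Prime]
    (P : Sylow p G) (hP1 : (P : Subgroup G) ≠ ⊥) (hPn : (P : Subgroup G).Normal) :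
    ∃ K E : Subgroup G, K.Normal ∧ Subgroup.IsComplement' K E ∧ Cfsg.IsFrobeniusComplement E ∧
      (IsCyclic E ∨ ∃ C Q : Subgroup G, C ⊔ Q = E ∧ (∀ a ∈ C, ∀ b ∈ Q, a * b = b * a) ∧
        IsCyclic C ∧ Odd (Nat.card C) ∧ ∃ n : ℕ, Nonempty (↥Q ≃* QuaternionGroup (2 ^ n))) := by
  obtain ⟨hF1, hF2, ⟨E, hE, hEfrob, key⟩, -⟩ := Cfsg.Agent.S1474.result hCN hnn p P hP1 hPn
  set F := Cfsg.fittingHall G with hFdef
  have hFn : F.Normal := Cfsg.fittingHall_normal G
  have hFnil : Group.IsNilpotent F := fittingHall_nilpotent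
  have hFcop : (Nat.card F).Coprime F.index := fittingHall_coprime
  have hEcard : Nat.card E = F.index := hE.symm.index_eq_card.symm
  refine ⟨F, E, hFn, hE, hEfrob, ?_⟩
  -- the abelian normal subgroup `V = Z(F)`
  have hFnt : Nontrivial F := (Subgroup.nontrivial_iff_ne_bot F).mpr hF1
  have hcen := Group.IsNilpotent.center_ne_bot (G := F)
  set V := (Subgroup.center F).map F.subtype with hVdef
  have hVn : V.Normal := inferInstance
  have hVc : IsMulCommutative V := inferInstance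
  have hVF : V ≤ F := Subgroup.map_subtype_le _
  have hV1 : V ≠ ⊥ := by
    intro h
    apply hcen
    rw [hVdef] at h
    exact (Subgroup.map_eq_bot_iff_of_injective _ F.subtype_injective).mp h
  have hcop : (Nat.card V).Coprime (Nat.card E) := by
    rw [hEcard]
    exact Nat.Coprime.coprime_dvd_left (Subgroup.card_dvd_of_le hVF) hFcop
  have hfpf : ∀ e ∈ E, e ≠ 1 → V ⊓ Subgroup.centralizer ({e} : Set G) = ⊥ := by
    intro e he he1
    rw [eq_bot_iff, ← key e he he1]
    exact inf_le_inf_right _ hVF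
  have hEnil : Group.IsNilpotent E := by
    apply cn_fpf_nilpotent hCN V E hV1 _ hfpf
    rw [Subgroup.normalizer_eq_top]
    exact le_top
  by_cases hcomm2 : ∀ x ∈ E, ∀ y ∈ E, ∀ i j : ℕ, orderOf x = 2 ^ i → orderOf y = 2 ^ j →
      Commute x y
  · left
    exact fpf_cyclic V hV1 E hEnil hcop hfpf hcomm2
  · right
    have : Fact (2 : ℕ).Prime := ⟨Nat.prime_two⟩
    push Not at hcomm2
    obtain ⟨x, hxE, y, hyE, i, j, hxo, hyo, hxy⟩ := hcomm2
    -- `2` divides `|E|`
    have h2E : 2 ∣ Nat.card E := by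
      have hi : i ≠ 0 := by
        intro hi
        rw [hi, pow_zero, orderOf_eq_one_iff] at hxo
        rw [hxo] at hxy
        exact hxy (Commute.one_left y)
      have h1 : orderOf (⟨x, hxE⟩ : E) ∣ Nat.card E := orderOf_dvd_natCard _
      rw [Subgroup.orderOf_mk, hxo] at h1
      exact dvd_trans (dvd_pow_self 2 hi) h1
    have hcop2 : (Nat.card V).Coprime 2 := Nat.Coprime.coprime_dvd_right h2E hcop
    -- the Sylow `2`-subgroup `Q`
    set T₀ : Sylow 2 E := default with hT₀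
    have hT₀n : (T₀ : Subgroup E).Normal := inferInstance
    have hxQ : x ∈ sylowPart E 2 := mem_sylowPart hEnil hxE hxo
    have hyQ : y ∈ sylowPart E 2 := mem_sylowPart hEnil hyE hyo
    have hQE : sylowPart E 2 ≤ E := sylowPart_le E 2
    obtain ⟨n, hn⟩ : ∃ n : ℕ, Nonempty (↥(sylowPart E 2) ≃* QuaternionGroup (2 ^ n)) := by
      rcases fpf_cyclic_or_quat V hV1 (sylowPart E 2) 2 (sylowPart_isPGroup E 2) hcop2
        (fun b hb => hfpf b (hQE hb)) with hc | ⟨-, h⟩
      · exfalso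
        have hc' : IsMulCommutative (sylowPart E 2) := inferInstance
        exact hxy (congrArg Subtype.val (hc'.is_comm.comm ⟨x, hxQ⟩ ⟨y, hyQ⟩))
      · exact h
    -- the complement `C`
    obtain ⟨C₀, hC₀⟩ := Subgroup.exists_right_complement'_of_coprime
      (N := (T₀ : Subgroup E)) T₀.card_coprime_index
    have hC₀card : Nat.card C₀ = (T₀ : Subgroup E).index := hC₀.symm.index_eq_card.symm
    have hC₀odd : ¬ 2 ∣ Nat.card C₀ := by
      rw [hC₀card]
      exact T₀.not_dvd_index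
    set C := C₀.map E.subtype with hCdef
    have hCE : C ≤ E := Subgroup.map_subtype_le _
    have hCcard : Nat.card C = Nat.card C₀ :=
      Nat.card_congr (C₀.equivMapOfInjective E.subtype E.subtype_injective).symm.toEquiv
    have hCodd : ¬ 2 ∣ Nat.card C := by rw [hCcard]; exact hC₀odd
    refine ⟨C, sylowPart E 2, ?_, ?_, ?_, ?_, n, hn⟩
    · -- `C ⊔ Q = E`
      have h1 : (T₀ : Subgroup E) ⊔ C₀ = ⊤ := hC₀.sup_eq_top
      have h2 : ((T₀ : Subgroup E) ⊔ C₀).map E.subtype = E := by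
        rw [h1, ← MonoidHom.range_eq_map, Subgroup.range_subtype]
      rw [Subgroup.map_sup] at h2
      rw [sup_comm]
      exact h2
    · -- elementwise commuting
      rintro a ⟨a₀, ha₀, rfl⟩ b ⟨b₀, hb₀, rfl⟩
      obtain ⟨k, hk⟩ := (IsPGroup.iff_orderOf.mp T₀.isPGroup') ⟨b₀, hb₀⟩
      have hb₀o : orderOf b₀ = 2 ^ k := by
        rw [← hk]
        exact (Subgroup.orderOf_mk b₀ hb₀).symm
      have ha₀o : (orderOf a₀).Coprime 2 := by
        have h1 : orderOf (⟨a₀, ha₀⟩ : C₀) ∣ Nat.card C₀ := orderOf_dvd_natCard _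
        rw [Subgroup.orderOf_mk] at h1
        have h2 : (Nat.card C₀).Coprime 2 :=
          (Nat.coprime_comm.mp ((Nat.Prime.coprime_iff_not_dvd Nat.prime_two).mpr hC₀odd))
        exact Nat.Coprime.coprime_dvd_left h1 h2
      have := commute_of_coprime (K := E) Nat.prime_two hb₀o ha₀o
      exact (congrArg Subtype.val this.eq).symm
    · -- `C` is cyclic
      apply fpf_cyclic V hV1 C (nilpotent_of_le hEnil hCE)
        (Nat.Coprime.coprime_dvd_right (Subgroup.card_dvd_of_le hCE) hcop)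
        (fun b hb => hfpf b (hCE hb))
      intro a ha b hb i' j' hao hbo
      have h1 : orderOf (⟨a, ha⟩ : C) ∣ Nat.card C := orderOf_dvd_natCard _
      rw [Subgroup.orderOf_mk, hao] at h1
      have hi' : i' = 0 := by
        by_contra hi'
        exact hCodd (dvd_trans (dvd_pow_self 2 hi') h1)
      rw [hi', pow_zero, orderOf_eq_one_iff] at hao
      rw [hao]
      exact Commute.one_left b
    · exact Nat.odd_iff.mpr (Nat.two_dvd_ne_zero.mp hCodd)

end caseA

section frattini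

variable {G : Type u} [Group G] [Finite G]

open Cfsg.Agent.Helper70 in
/-- In a finite solvable group with `O_p(G) ≠ G` there is an abelian `q`-subgroup `Q₀ ≠ 1`
(`q ≠ p`) with `G = O_p(G) N_G(Q₀)` (Frattini argument on a Sylow `q`-subgroup of the preimage of
a minimal normal subgroup of `G / O_p(G)`). -/
theorem exists_frattini [Group.IsSolvable G] (p : ℕ) [Fact p.Prime]
    (hH : Cfsg.pCore p G ≠ ⊤) :
    ∃ q : ℕ, q.Prime ∧ q ≠ p ∧ ∃ Q₀ : Subgroup G, Q₀ ≠ ⊥ ∧ IsPGroup q Q₀ ∧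
      (∀ x ∈ Q₀, ∀ y ∈ Q₀, x * y = y * x) ∧
      Cfsg.pCore p G ⊔ Subgroup.normalizer (Q₀ : Set G) = ⊤ := by
  set H := Cfsg.pCore p G with hHdef
  have hHn : H.Normal := pCore_normal p G
  have hHp : IsPGroup p H := pCore_isPGroup
  have hnt : Nontrivial (G ⧸ H) := by
    by_contra h
    rw [not_nontrivial_iff_subsingleton] at h
    apply hH
    rw [eq_top_iff]
    intro g _
    have := Subsingleton.elim (QuotientGroup.mk g : G ⧸ H) 1
    exact (QuotientGroup.eq_one_iff g).mp this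
  have htop : (⊤ : Subgroup (G ⧸ H)) ≠ ⊥ := top_ne_bot
  have hsolv : Group.IsSolvable (⊤ : Subgroup (G ⧸ H)) := inferInstance
  obtain ⟨q, hq, N', hN'n, -, hN'1, hN'q⟩ :=
    Cfsg.Agent.S1473.exists_normal_pgroup (⊤ : Subgroup (G ⧸ H)) hsolv htop
  have : Fact q.Prime := ⟨hq⟩
  -- the center of `N'`
  set Z' := (Subgroup.center N').map N'.subtype with hZ'def
  have hZ'n : Z'.Normal := inferInstance
  have hZ'c : IsMulCommutative Z' := inferInstance
  have hZ'q : IsPGroup q Z' := (hN'q.to_subgroup (Subgroup.center N')).map _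
  have hZ'1 : Z' ≠ ⊥ := by
    intro h
    have hnt' : Nontrivial N' := (Subgroup.nontrivial_iff_ne_bot N').mpr hN'1
    have h1 := hN'q.center_nontrivial
    have h2 : Subgroup.center N' = ⊥ :=
      (Subgroup.map_eq_bot_iff_of_injective _ N'.subtype_injective).mp h
    rw [Subgroup.nontrivial_iff_ne_bot] at h1
    exact h1 h2
  set f := QuotientGroup.mk' H with hf
  have hfs : Function.Surjective f := QuotientGroup.mk'_surjective H
  have hker : f.ker = H := QuotientGroup.ker_mk' H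
  set M := Z'.comap f with hMdef
  have hMn : M.Normal := inferInstance
  have hHM : H ≤ M := QuotientGroup.le_comap_mk' H Z'
  have hmapM : M.map f = Z' := Subgroup.map_comap_eq_self_of_surjective hfs Z'
  have hmapH : H.map f = ⊥ := QuotientGroup.map_mk'_self H
  have hqp : q ≠ p := by
    intro hqp
    have hMp : IsPGroup p M := by
      apply IsPGroup.comap_of_ker_isPGroup (hqp ▸ hZ'q) f
      rw [hker]
      exact hHp
    have hMH : M ≤ H := le_pCore M hMp
    apply hZ'1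
    rw [← hmapM, eq_bot_iff, ← hmapH]
    exact Subgroup.map_mono hMH
  refine ⟨q, hq, hqp, ?_⟩
  set P₀ : Sylow q M := default with hP₀
  set Q₀ := (P₀ : Subgroup M).map M.subtype with hQ₀def
  have hfrat := Sylow.normalizer_sup_eq_top P₀
  have hQ₀q : IsPGroup q Q₀ := P₀.isPGroup'.map _
  have hQ₀M : Q₀ ≤ M := Subgroup.map_subtype_le _
  have hdisj : H ⊓ Q₀ = ⊥ := (IsPGroup.disjoint_of_ne p q (Ne.symm hqp) H Q₀ hHp hQ₀q).eq_bot
  -- `M = H Q₀`
  have hMJ : M ≤ H ⊔ Q₀ := by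
    rw [← Subgroup.relIndex_eq_one]
    have h1 : (H ⊔ Q₀).relIndex M ∣ H.relIndex M := Subgroup.relIndex_dvd_of_le_left M le_sup_left
    have h2 : (H ⊔ Q₀).relIndex M ∣ Q₀.relIndex M := Subgroup.relIndex_dvd_of_le_left M le_sup_right
    have h3 : H.relIndex M = Nat.card Z' := by
      have := Subgroup.relIndex_comap (⊥ : Subgroup (G ⧸ H)) f M
      rw [MonoidHom.comap_bot, hker, hmapM, Subgroup.relIndex_bot_left] at this
      exact this
    have h4 : Q₀.relIndex M = (P₀ : Subgroup M).index := by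
      have : Q₀.subgroupOf M = (P₀ : Subgroup M) := by
        rw [hQ₀def, Subgroup.subgroupOf]
        exact Subgroup.comap_map_eq_self_of_injective M.subtype_injective _
      rw [Subgroup.relIndex, this]
    obtain ⟨k, hk⟩ := IsPGroup.iff_card.mp hZ'q
    rw [h3, hk] at h1
    obtain ⟨j, -, hj⟩ := (Nat.dvd_prime_pow hq).mp h1
    rw [hj]
    by_cases hj0 : j = 0
    · rw [hj0, pow_zero]
    · exfalso
      apply P₀.not_dvd_index
      rw [← h4]
      exact dvd_trans (hj ▸ dvd_pow_self q hj0) h2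
  refine ⟨Q₀, ?_, hQ₀q, ?_, ?_⟩
  · intro h
    apply hZ'1
    rw [← hmapM, eq_bot_iff, ← hmapH]
    apply Subgroup.map_mono
    rw [h, sup_bot_eq] at hMJ
    exact hMJ
  · intro x hx y hy
    have hxM : f x ∈ Z' := hQ₀M hx
    have hyM : f y ∈ Z' := hQ₀M hy
    have hc : f x * f y = f y * f x :=
      congrArg Subtype.val (hZ'c.is_comm.comm ⟨f x, hxM⟩ ⟨f y, hyM⟩)
    have h1 : x * y * x⁻¹ * y⁻¹ ∈ H := by
      rw [← hker, MonoidHom.mem_ker, map_mul, map_mul, map_mul, map_inv, map_inv, hc]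
      group
    have h2 : x * y * x⁻¹ * y⁻¹ ∈ Q₀ :=
      Q₀.mul_mem (Q₀.mul_mem (Q₀.mul_mem hx hy) (Q₀.inv_mem hx)) (Q₀.inv_mem hy)
    have h3 : x * y * x⁻¹ * y⁻¹ ∈ H ⊓ Q₀ := Subgroup.mem_inf.mpr ⟨h1, h2⟩
    rw [hdisj, Subgroup.mem_bot] at h3
    calc x * y = (x * y * x⁻¹ * y⁻¹) * (y * x) := by group
      _ = y * x := by rw [h3, one_mul]
  · rw [eq_top_iff, ← hfrat]
    apply sup_le
    · exact le_sup_right
    · apply hMJ.trans
      apply sup_le le_sup_left
      exact le_trans Subgroup.le_normalizer le_sup_right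

end frattini

section caseB

variable {G : Type u} [Group G] [Finite G]

open Cfsg.Agent.Helper70

/-- no Sylow subgroup is normal and nontrivial. -/
def NoNormalSylow (G : Type u) [Group G] : Prop :=
  ∀ (r : ℕ) [Fact r.Prime] (R : Sylow r G), (R : Subgroup G).Normal → (R : Subgroup G) = ⊥

omit [Finite G] in
theorem pgroup_orderOf {p : ℕ} [Fact p.Prime] {H : Subgroup G} (hH : IsPGroup p H) {x : G}
    (hx : x ∈ H) : ∃ k : ℕ, orderOf x = p ^ k := by
  obtain ⟨k, hk⟩ := (IsPGroup.iff_orderOf.mp hH) ⟨x, hx⟩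
  exact ⟨k, by rw [← hk, Subgroup.orderOf_mk]⟩

/-- In a CN-group without nontrivial normal Sylow subgroups, at most one `O_p(G)` is nontrivial. -/
theorem pCore_eq_bot_of_ne (hCN : Cfsg.IsCNGroup G) (hns : NoNormalSylow G) {p : ℕ}
    [hp : Fact p.Prime] (hH1 : Cfsg.pCore p G ≠ ⊥) {r : ℕ} [hr : Fact r.Prime] (hrp : r ≠ p) :
    Cfsg.pCore r G = ⊥ := by
  by_contra hN1
  have hHn : (Cfsg.pCore p G).Normal := pCore_normal p G
  have hNn : (Cfsg.pCore r G).Normal := pCore_normal r G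
  have hHp : IsPGroup p (Cfsg.pCore p G) := pCore_isPGroup
  have hNr : IsPGroup r (Cfsg.pCore r G) := pCore_isPGroup
  obtain ⟨x, hxH, hx1⟩ := (Subgroup.bot_or_exists_ne_one _).resolve_left hH1
  obtain ⟨n₀, hn₀N, hn₀1⟩ := (Subgroup.bot_or_exists_ne_one _).resolve_left hN1
  set P : Sylow p G := default with hPdef
  have hHP : Cfsg.pCore p G ≤ P := pCore_le_sylow P
  have hP1 : (P : Subgroup G) ≠ ⊥ := fun h => hH1 (le_bot_iff.mp (h ▸ hHP))
  have hPnt : Nontrivial (P : Subgroup G) := (Subgroup.nontrivial_iff_ne_bot _).mpr hP1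
  have hPcen : Nontrivial (Subgroup.center (P : Subgroup G)) := P.isPGroup'.center_nontrivial
  obtain ⟨z₀, hz₀1⟩ := exists_ne (1 : Subgroup.center (P : Subgroup G))
  have hz1 : ((z₀ : (P : Subgroup G)) : G) ≠ 1 := by
    intro h
    apply hz₀1
    apply Subtype.ext
    apply Subtype.ext
    exact h
  have hzP : ((z₀ : (P : Subgroup G)) : G) ∈ (P : Subgroup G) := (z₀ : (P : Subgroup G)).2
  have hzc : ∀ y ∈ (P : Subgroup G), Commute y ((z₀ : (P : Subgroup G)) : G) := by
    intro y hy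
    have := Subgroup.mem_center_iff.mp z₀.2 ⟨y, hy⟩
    exact congrArg Subtype.val this
  have hdisj : Disjoint (Cfsg.pCore p G) (Cfsg.pCore r G) :=
    IsPGroup.disjoint_of_ne p r (Ne.symm hrp) _ _ hHp hNr
  have hxn : ∀ n ∈ Cfsg.pCore r G, Commute x n := fun n hn =>
    Subgroup.commute_of_normal_of_disjoint _ _ hHn hNn hdisj x n hxH hn
  have hNcop : ∀ n ∈ Cfsg.pCore r G, (orderOf n).Coprime p := by
    intro n hn
    obtain ⟨j, hj⟩ := pgroup_orderOf hNr hn
    rw [hj]
    exact Nat.Coprime.pow_left j ((Nat.coprime_primes hr.out hp.out).mpr hrp)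
  obtain ⟨kz, hkz⟩ := pgroup_orderOf P.isPGroup' hzP
  have hzn : ∀ n ∈ Cfsg.pCore r G, Commute ((z₀ : (P : Subgroup G)) : G) n := fun n hn =>
    cn_commute hCN hx1 (hzc x (hHP hxH)).symm (hxn n hn) hp.out hkz (hNcop n hn)
  have hyn : ∀ y ∈ (P : Subgroup G), ∀ n ∈ Cfsg.pCore r G, Commute y n := by
    intro y hy n hn
    obtain ⟨ky, hky⟩ := pgroup_orderOf P.isPGroup' hy
    exact cn_commute hCN hz1 (hzc y hy) (hzn n hn) hp.out hky (hNcop n hn)
  set C := Subgroup.centralizer ((Cfsg.pCore r G : Subgroup G) : Set G) with hCdef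
  have hCn : C.Normal := Subgroup.normal_centralizer
  have hPC : (P : Subgroup G) ≤ C := by
    intro y hy
    rw [hCdef, Subgroup.mem_centralizer_iff]
    intro n hn
    exact ((hyn y hy n hn).eq).symm
  have hCnil : Group.IsNilpotent C := by
    apply nilpotent_of_le (hCN n₀ hn₀1)
    intro c hc
    rw [Subgroup.mem_centralizer_singleton_iff]
    rw [hCdef, Subgroup.mem_centralizer_iff] at hc
    exact (hc _ hn₀N).symm
  exact hP1 (hns p P (sylow_normal_of_le P C hCn hCnil hPC))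

/-- In a CN-group without nontrivial normal Sylow subgroups and with `O_p(G) ≠ 1`, every
nilpotent normal subgroup lies in `O_p(G)`. -/
theorem le_pCore_of_normal_nilpotent (hCN : Cfsg.IsCNGroup G) (hns : NoNormalSylow G) {p : ℕ}
    [hp : Fact p.Prime] (hH1 : Cfsg.pCore p G ≠ ⊥) (C : Subgroup G) [hCn : C.Normal]
    [hnil : Group.IsNilpotent C] : C ≤ Cfsg.pCore p G := by
  have h1 := le_coreJoin_of_normal_nilpotent C
  apply h1.trans
  apply iSup_le
  intro r
  have : Fact (r : ℕ).Prime := ⟨Nat.prime_of_mem_primeFactors r.2⟩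
  by_cases hrp : (r : ℕ) = p
  · rw [hrp]
  · rw [pCore_eq_bot_of_ne hCN hns hH1 hrp]
    exact bot_le

/-- `p'`-elements act fixed-point-freely on `O_p(G)`. -/
theorem fpf_of_coprime (hCN : Cfsg.IsCNGroup G) (hns : NoNormalSylow G) {p : ℕ}
    [hp : Fact p.Prime] (hH1 : Cfsg.pCore p G ≠ ⊥) {w : G} (hw1 : w ≠ 1)
    (hw : (orderOf w).Coprime p) :
    Cfsg.pCore p G ⊓ Subgroup.centralizer ({w} : Set G) = ⊥ := by
  have hHn : (Cfsg.pCore p G).Normal := pCore_normal p G
  have hHp : IsPGroup p (Cfsg.pCore p G) := pCore_isPGroup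
  rw [Subgroup.eq_bot_iff_forall]
  intro x hx
  obtain ⟨hxH, hxC⟩ := Subgroup.mem_inf.mp hx
  by_contra hx1
  rw [Subgroup.mem_centralizer_singleton_iff] at hxC
  have hHnt : Nontrivial (Cfsg.pCore p G) := (Subgroup.nontrivial_iff_ne_bot _).mpr hH1
  have hcen : Nontrivial (Subgroup.center (Cfsg.pCore p G)) := hHp.center_nontrivial
  obtain ⟨z₀, hz₀1⟩ := exists_ne (1 : Subgroup.center (Cfsg.pCore p G))
  have hz1 : ((z₀ : Cfsg.pCore p G) : G) ≠ 1 := by
    intro h
    apply hz₀1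
    apply Subtype.ext
    apply Subtype.ext
    exact h
  have hzH : ((z₀ : Cfsg.pCore p G) : G) ∈ Cfsg.pCore p G := (z₀ : Cfsg.pCore p G).2
  have hzc : ∀ h ∈ Cfsg.pCore p G, Commute ((z₀ : Cfsg.pCore p G) : G) h := by
    intro h hh
    have := Subgroup.mem_center_iff.mp z₀.2 ⟨h, hh⟩
    exact (congrArg Subtype.val this).symm
  obtain ⟨kz, hkz⟩ := pgroup_orderOf hHp hzH
  have hzw : Commute ((z₀ : Cfsg.pCore p G) : G) w :=
    cn_commute hCN hx1 (hzc x hxH) hxC hp.out hkz hw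
  have hHw : ∀ h ∈ Cfsg.pCore p G, Commute h w := by
    intro h hh
    obtain ⟨kh, hkh⟩ := pgroup_orderOf hHp hh
    exact cn_commute hCN hz1 (hzc h hh).symm hzw hp.out hkh hw
  set C := Subgroup.centralizer ((Cfsg.pCore p G : Subgroup G) : Set G) with hCdef
  have hCn : C.Normal := Subgroup.normal_centralizer
  have hCnil : Group.IsNilpotent C := by
    apply nilpotent_of_le (hCN _ hz1)
    intro c hc
    rw [Subgroup.mem_centralizer_singleton_iff]
    rw [hCdef, Subgroup.mem_centralizer_iff] at hc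
    exact (hc _ hzH).symm
  have hwC : w ∈ C := by
    rw [hCdef, Subgroup.mem_centralizer_iff]
    intro h hh
    exact (hHw h hh).eq
  have hwH : w ∈ Cfsg.pCore p G := le_pCore_of_normal_nilpotent hCN hns hH1 C hwC
  obtain ⟨kw, hkw⟩ := pgroup_orderOf hHp hwH
  rw [hkw] at hw
  have hkw0 : kw = 0 := by
    by_contra h
    have := Nat.Coprime.eq_one_of_dvd hw.symm (dvd_pow_self p h)
    exact hp.out.one_lt.ne' this
  rw [hkw0, pow_zero, orderOf_eq_one_iff] at hkw
  exact hw1 hkw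

/-- a nonidentity `p`-element never commutes with a nonidentity `p'`-element. -/
theorem not_commute_of_coprime (hCN : Cfsg.IsCNGroup G) (hns : NoNormalSylow G) {p : ℕ}
    [hp : Fact p.Prime] (hH1 : Cfsg.pCore p G ≠ ⊥) {u w : G} (hu1 : u ≠ 1) {k : ℕ}
    (huo : orderOf u = p ^ k) (hw1 : w ≠ 1) (hw : (orderOf w).Coprime p) : ¬ Commute u w := by
  intro huw
  have hHn : (Cfsg.pCore p G).Normal := pCore_normal p G
  have hHp : IsPGroup p (Cfsg.pCore p G) := pCore_isPGroup
  obtain ⟨z, hzH, hz1, huz⟩ := Cfsg.Agent.S1473.exists_ne_one_commute hp.out (Cfsg.pCore p G) hHp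
    hH1 u ⟨k, by rw [← huo, pow_orderOf_eq_one]⟩ (fun t _ a ha => hHn.conj_mem a ha t)
  obtain ⟨kz, hkz⟩ := pgroup_orderOf hHp hzH
  have hzw : Commute z w := cn_commute hCN hu1 huz.symm huw hp.out hkz hw
  have hmem : z ∈ Cfsg.pCore p G ⊓ Subgroup.centralizer ({w} : Set G) := by
    refine Subgroup.mem_inf.mpr ⟨hzH, ?_⟩
    rw [Subgroup.mem_centralizer_singleton_iff]
    exact hzw.eq
  rw [fpf_of_coprime hCN hns hH1 hw1 hw, Subgroup.mem_bot] at hmem
  exact hz1 hmem

/-- Case B of the trichotomy: a non-nilpotent solvable CN-group without nontrivial normal Sylow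
subgroups is a three-step group. -/
theorem caseB [Group.IsSolvable G] (hCN : Cfsg.IsCNGroup G) (hnn : ¬ Group.IsNilpotent G)
    (hns : NoNormalSylow G) : ∃ p : ℕ, p.Prime ∧ Cfsg.IsThreeStepGroup p G := by
  have hGnt : Nontrivial G := by
    by_contra h
    rw [not_nontrivial_iff_subsingleton] at h
    exact hnn inferInstance
  have htop : (⊤ : Subgroup G) ≠ ⊥ := top_ne_bot
  obtain ⟨p, hp, N, hNn, -, hN1, hNp⟩ :=
    Cfsg.Agent.S1473.exists_normal_pgroup (⊤ : Subgroup G) inferInstance htop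
  have hpF : Fact p.Prime := ⟨hp⟩
  refine ⟨p, hp, ?_⟩
  set H := Cfsg.pCore p G with hHdef
  have hHn : H.Normal := pCore_normal p G
  have hHp : IsPGroup p H := pCore_isPGroup
  have hH1 : H ≠ ⊥ := fun h => hN1 (le_bot_iff.mp (h ▸ le_pCore N hNp))
  have hnotsyl : p ∣ H.index := by
    by_contra h
    have hn : ((hHp.toSylow h : Sylow p G) : Subgroup G).Normal := by
      rw [IsPGroup.toSylow_coe]
      exact hHn
    have h1 := hns p _ hn
    rw [IsPGroup.toSylow_coe] at h1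
    exact hH1 h1
  have hHtop : H ≠ ⊤ := by
    intro h
    rw [h, Subgroup.index_top] at hnotsyl
    exact hp.one_lt.ne' (Nat.dvd_one.mp hnotsyl)
  obtain ⟨q, hq, hqp, Q₀, hQ₀1, hQ₀q, hQ₀c, hfrat⟩ := exists_frattini p hHtop
  have hqF : Fact q.Prime := ⟨hq⟩
  set N₁ := Subgroup.normalizer (Q₀ : Set G) with hN₁def
  set A := Subgroup.centralizer (Q₀ : Set G) with hAdef
  have hfpfH : ∀ w : G, w ≠ 1 → (orderOf w).Coprime p →
      H ⊓ Subgroup.centralizer ({w} : Set G) = ⊥ :=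
    fun w hw1 hw => fpf_of_coprime hCN hns hH1 hw1 hw
  have hncomm : ∀ u w : G, u ≠ 1 → (∃ k, orderOf u = p ^ k) → w ≠ 1 → (orderOf w).Coprime p →
      ¬ Commute u w :=
    fun u w hu1 ⟨k, hk⟩ hw1 hw => not_commute_of_coprime hCN hns hH1 hu1 hk hw1 hw
  -- elements of `Q₀`
  obtain ⟨w₀, hw₀Q, hw₀1⟩ := (Subgroup.bot_or_exists_ne_one _).resolve_left hQ₀1
  have hqcop : ∀ j : ℕ, (q ^ j).Coprime p := fun j =>
    Nat.Coprime.pow_left j ((Nat.coprime_primes hq hp).mpr hqp)
  have hQ₀cop : ∀ w ∈ Q₀, (orderOf w).Coprime p := by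
    intro w hw
    obtain ⟨j, hj⟩ := pgroup_orderOf hQ₀q hw
    rw [hj]
    exact hqcop j
  -- product decomposition
  have hprod : ∀ g : G, ∃ h ∈ H, ∃ n ∈ N₁, g = h * n := by
    intro g
    have hg : g ∈ ((H ⊔ N₁ : Subgroup G) : Set G) := by
      rw [hfrat]
      trivial
    rw [Subgroup.normal_mul] at hg
    obtain ⟨h, hh, n, hn, rfl⟩ := Set.mem_mul.mp hg
    exact ⟨h, hh, n, hn, rfl⟩
  have hQ₀N₁ : Q₀ ≤ N₁ := Subgroup.le_normalizer
  -- `H ∩ N₁ = 1`
  have hHN₁ : H ⊓ N₁ = ⊥ := by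
    rw [Subgroup.eq_bot_iff_forall]
    intro x hx
    obtain ⟨hxH, hxN⟩ := Subgroup.mem_inf.mp hx
    have hcomm : x * w₀ * x⁻¹ * w₀⁻¹ ∈ H ⊓ Q₀ := by
      refine Subgroup.mem_inf.mpr ⟨?_, ?_⟩
      · have h1 : w₀ * x⁻¹ * w₀⁻¹ ∈ H := hHn.conj_mem _ (H.inv_mem hxH) w₀
        have h2 : x * w₀ * x⁻¹ * w₀⁻¹ = x * (w₀ * x⁻¹ * w₀⁻¹) := by group
        rw [h2]
        exact H.mul_mem hxH h1
      · have h1 : x * w₀ * x⁻¹ ∈ Q₀ := (Subgroup.mem_normalizer_iff.mp hxN w₀).mp hw₀Q
        exact Q₀.mul_mem h1 (Q₀.inv_mem hw₀Q)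
    have hdisj : H ⊓ Q₀ = ⊥ :=
      (IsPGroup.disjoint_of_ne p q (Ne.symm hqp) H Q₀ hHp hQ₀q).eq_bot
    rw [hdisj, Subgroup.mem_bot] at hcomm
    have hxw : x * w₀ = w₀ * x := by
      calc x * w₀ = (x * w₀ * x⁻¹ * w₀⁻¹) * (w₀ * x) := by group
        _ = w₀ * x := by rw [hcomm, one_mul]
    have hmem : x ∈ H ⊓ Subgroup.centralizer ({w₀} : Set G) := by
      refine Subgroup.mem_inf.mpr ⟨hxH, ?_⟩
      rw [Subgroup.mem_centralizer_singleton_iff]
      exact hxw
    rw [hfpfH w₀ hw₀1 (hQ₀cop w₀ hw₀Q), Subgroup.mem_bot] at hmem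
    exact hmem
  have hcompl : Subgroup.IsComplement' H N₁ := by
    apply Subgroup.isComplement'_of_disjoint_and_mul_eq_univ (disjoint_iff.mpr hHN₁)
    rw [← Subgroup.normal_mul, hfrat]
    rfl
  have hN₁card : Nat.card N₁ = H.index := hcompl.symm.index_eq_card.symm
  have hpN₁ : p ∣ Nat.card N₁ := by
    rw [hN₁card]
    exact hnotsyl
  -- the subgroup `A = C_G(Q₀)`
  have hQ₀A : Q₀ ≤ A := by
    intro x hx
    rw [hAdef, Subgroup.mem_centralizer_iff]
    intro y hy
    exact hQ₀c y hy x hx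
  have hAN₁ : A ≤ N₁ := Subgroup.centralizer_le_normalizer _
  have hAw : ∀ a ∈ A, ∀ w ∈ Q₀, Commute a w := by
    intro a ha w hw
    rw [hAdef, Subgroup.mem_centralizer_iff] at ha
    exact (ha w hw).symm
  have hA1 : A ≠ ⊥ := fun h => hQ₀1 (le_bot_iff.mp (h ▸ hQ₀A))
  have hAconj : ∀ n ∈ N₁, ∀ a ∈ A, n * a * n⁻¹ ∈ A := by
    intro n hn a ha
    rw [hAdef, Subgroup.mem_centralizer_iff]
    intro w hw
    have hw' : n⁻¹ * w * n ∈ Q₀ := (Subgroup.mem_normalizer_iff''.mp hn w).mp hw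
    have h1 : Commute a (n⁻¹ * w * n) := hAw a ha _ hw'
    calc w * (n * a * n⁻¹) = n * ((n⁻¹ * w * n) * a) * n⁻¹ := by group
      _ = n * (a * (n⁻¹ * w * n)) * n⁻¹ := by rw [h1.eq]
      _ = n * a * n⁻¹ * w := by group
  have hAp' : ∀ a ∈ A, (orderOf a).Coprime p := by
    intro a ha
    by_contra hcop
    have hpd : p ∣ orderOf a := by
      rw [Nat.Prime.dvd_iff_not_coprime hp]
      rwa [Nat.coprime_comm]
    have huo : orderOf (a ^ (orderOf a / p)) = p :=
      orderOf_pow_orderOf_div (orderOf_pos a).ne' hpd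
    have hu1 : a ^ (orderOf a / p) ≠ 1 := by
      intro h
      rw [h, orderOf_one] at huo
      exact hp.one_lt.ne huo
    have hcomm : Commute (a ^ (orderOf a / p)) w₀ := (hAw a ha w₀ hw₀Q).pow_left _
    exact hncomm _ w₀ hu1 ⟨1, by rw [huo, pow_one]⟩ hw₀1 (hQ₀cop w₀ hw₀Q) hcomm
  have hAfpf : ∀ a ∈ A, a ≠ 1 → H ⊓ Subgroup.centralizer ({a} : Set G) = ⊥ :=
    fun a ha ha1 => hfpfH a ha1 (hAp' a ha)
  have hAcop : (Nat.card A).Coprime p := by
    rw [Nat.coprime_comm, Nat.Prime.coprime_iff_not_dvd hp]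
    intro hpd
    obtain ⟨a, ha⟩ := exists_prime_orderOf_dvd_card' p hpd
    have h1 := hAp' (a : G) a.2
    rw [Subgroup.orderOf_coe, ha] at h1
    exact hp.one_lt.ne' ((Nat.coprime_self p).mp h1)
  have hAnil : Group.IsNilpotent A := by
    apply nilpotent_of_le (hCN w₀ hw₀1)
    intro a ha
    rw [Subgroup.mem_centralizer_singleton_iff]
    exact (hAw a ha w₀ hw₀Q).eq
  -- the abelian normal subgroup `V = Z(H)`
  have hHnt : Nontrivial H := (Subgroup.nontrivial_iff_ne_bot _).mpr hH1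
  have hcen : Nontrivial (Subgroup.center H) := hHp.center_nontrivial
  set V := (Subgroup.center H).map H.subtype with hVdef
  have hVn : V.Normal := inferInstance
  have hVc : IsMulCommutative V := inferInstance
  have hVH : V ≤ H := Subgroup.map_subtype_le _
  have hV1 : V ≠ ⊥ := by
    intro h
    rw [hVdef] at h
    have h2 := (Subgroup.map_eq_bot_iff_of_injective _ H.subtype_injective).mp h
    rw [Subgroup.nontrivial_iff_ne_bot] at hcen
    exact hcen h2
  obtain ⟨kV, hkV⟩ := IsPGroup.iff_card.mp (hHp.to_le hVH)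
  have hVcop : ∀ m : ℕ, m.Coprime p → (Nat.card V).Coprime m := by
    intro m hm
    rw [hkV]
    exact Nat.Coprime.pow_left kV hm.symm
  have hfpfV : ∀ B : Subgroup G, (Nat.card B).Coprime p → ∀ b ∈ B, b ≠ 1 →
      V ⊓ Subgroup.centralizer ({b} : Set G) = ⊥ := by
    intro B hB b hb hb1
    have hbo : (orderOf b).Coprime p := by
      have h1 : orderOf (⟨b, hb⟩ : B) ∣ Nat.card B := orderOf_dvd_natCard _
      rw [Subgroup.orderOf_mk] at h1
      exact Nat.Coprime.coprime_dvd_left h1 hB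
    rw [eq_bot_iff, ← hfpfH b hb1 hbo]
    exact inf_le_inf_right _ hVH
  have hnormV : ∀ B : Subgroup G, B ≤ Subgroup.normalizer (V : Set G) := by
    intro B
    rw [Subgroup.normalizer_eq_top]
    exact le_top
  -- `|A|` is odd
  have hAodd : ¬ 2 ∣ Nat.card A := by
    intro h2
    have h2F : Fact (2 : ℕ).Prime := ⟨Nat.prime_two⟩
    have hp2 : p ≠ 2 := by
      intro h
      have h3 : Nat.Coprime 2 (Nat.card A) := by
        rw [← h]
        exact hAcop.symm
      have := Nat.Coprime.eq_one_of_dvd h3 h2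
      omega
    have h2cop : (2 : ℕ).Coprime p := (Nat.coprime_primes Nat.prime_two hp).mpr (Ne.symm hp2)
    obtain ⟨t₀, ht₀⟩ := exists_prime_orderOf_dvd_card' 2 h2
    have htA : (t₀ : G) ∈ A := t₀.2
    have hto : orderOf (t₀ : G) = 2 := by rw [Subgroup.orderOf_coe, ht₀]
    have ht1 : (t₀ : G) ≠ 1 := by
      intro h
      rw [h, orderOf_one] at hto
      omega
    have htcop : (orderOf (t₀ : G)).Coprime p := by
      rw [hto]
      exact h2cop
    have hTfpf : ∀ b ∈ sylowPart A 2, b ≠ 1 → V ⊓ Subgroup.centralizer ({b} : Set G) = ⊥ :=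
      fun b hb => hfpfV A hAcop b (sylowPart_le A 2 hb)
    have hVcop2 : (Nat.card V).Coprime 2 := hVcop 2 h2cop
    have htc : ∀ n ∈ N₁, Commute n (t₀ : G) := by
      intro n hn
      have ht'A : n * (t₀ : G) * n⁻¹ ∈ A := hAconj n hn _ htA
      have ht'o : orderOf (n * (t₀ : G) * n⁻¹) = 2 := by
        rw [← hto, ← MulAut.conj_apply]
        exact MulEquiv.orderOf_eq _ _
      have htT : (t₀ : G) ∈ sylowPart A 2 :=
        mem_sylowPart hAnil htA (k := 1) (by rw [hto, pow_one])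
      have ht'T : n * (t₀ : G) * n⁻¹ ∈ sylowPart A 2 :=
        mem_sylowPart hAnil ht'A (k := 1) (by rw [ht'o, pow_one])
      have heq := fpf_mem_zpowers V hV1 (sylowPart A 2) 2 (sylowPart_isPGroup A 2) hVcop2 hTfpf
        (Subgroup.zpowers ⟨(t₀ : G), htT⟩) (Subgroup.zpowers ⟨n * (t₀ : G) * n⁻¹, ht'T⟩)
        (by rw [Nat.card_zpowers, Subgroup.orderOf_mk, hto])
        (by rw [Nat.card_zpowers, Subgroup.orderOf_mk, ht'o])
      have hmem : (⟨n * (t₀ : G) * n⁻¹, ht'T⟩ : sylowPart A 2) ∈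
          Subgroup.zpowers (⟨(t₀ : G), htT⟩ : sylowPart A 2) := by
        rw [heq]
        exact Subgroup.mem_zpowers _
      obtain ⟨k, hk⟩ := Subgroup.mem_zpowers_iff.mp hmem
      have hk' : (t₀ : G) ^ k = n * (t₀ : G) * n⁻¹ := by
        have := congrArg Subtype.val hk
        simpa using this
      have hcases : (t₀ : G) ^ k = 1 ∨ (t₀ : G) ^ k = (t₀ : G) := by
        have h0 := zpow_mod_orderOf (t₀ : G) k
        rw [hto] at h0
        have h0' : (t₀ : G) ^ (k % 2) = (t₀ : G) ^ k := by exact_mod_cast h0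
        have : k % 2 = 0 ∨ k % 2 = 1 := by omega
        rcases this with h | h
        · left
          rw [← h0', h, zpow_zero]
        · right
          rw [← h0', h, zpow_one]
      rcases hcases with h | h
      · exfalso
        rw [h] at hk'
        have h3 : n * (t₀ : G) * n⁻¹ = 1 := hk'.symm
        have : (t₀ : G) = 1 := by
          calc (t₀ : G) = n⁻¹ * (n * (t₀ : G) * n⁻¹) * n := by group
            _ = 1 := by rw [h3]; group
        exact ht1 this
      · rw [h] at hk'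
        show n * (t₀ : G) = (t₀ : G) * n
        calc n * (t₀ : G) = (n * (t₀ : G) * n⁻¹) * n := by group
          _ = (t₀ : G) * n := by rw [← hk']
    obtain ⟨u₀, hu₀⟩ := exists_prime_orderOf_dvd_card' p hpN₁
    have huo : orderOf (u₀ : G) = p := by rw [Subgroup.orderOf_coe, hu₀]
    have hu1 : (u₀ : G) ≠ 1 := by
      intro h
      rw [h, orderOf_one] at huo
      exact hp.one_lt.ne huo
    exact hncomm (u₀ : G) (t₀ : G) hu1 ⟨1, by rw [huo, pow_one]⟩ ht1 htcop (htc _ u₀.2)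
  -- `A` is cyclic
  have hAcyc : IsCyclic A := by
    apply fpf_cyclic V hV1 A hAnil (hVcop _ hAcop) (hfpfV A hAcop)
    intro a ha b hb i j hao hbo
    have h1 : orderOf (⟨a, ha⟩ : A) ∣ Nat.card A := orderOf_dvd_natCard _
    rw [Subgroup.orderOf_mk, hao] at h1
    have hi : i = 0 := by
      by_contra hi
      exact hAodd (dvd_trans (dvd_pow_self 2 hi) h1)
    rw [hi, pow_zero, orderOf_eq_one_iff] at hao
    rw [hao]
    exact Commute.one_left b
  have hq2 : q ≠ 2 := by
    intro h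
    apply hAodd
    obtain ⟨j, hj⟩ := pgroup_orderOf hQ₀q hw₀Q
    have hj0 : j ≠ 0 := by
      intro h0
      rw [h0, pow_zero, orderOf_eq_one_iff] at hj
      exact hw₀1 hj
    have h1 : orderOf (⟨w₀, hQ₀A hw₀Q⟩ : A) ∣ Nat.card A := orderOf_dvd_natCard _
    rw [Subgroup.orderOf_mk, hj, h] at h1
    exact dvd_trans (dvd_pow_self 2 hj0) h1
  -- `p'`-elements of prime power order of `N₁` lie in `A`
  have hB9 : ∀ u ∈ N₁, ∀ r : ℕ, r.Prime → r ≠ p → ∀ k : ℕ, orderOf u = r ^ k → u ∈ A := by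
    intro u hu r hr hrp k huo
    have hZN : Subgroup.zpowers u ≤ Subgroup.normalizer (Q₀ : Set G) := by
      rw [Subgroup.zpowers_le]
      exact hu
    have hBcard : Nat.card (Q₀ ⊔ Subgroup.zpowers u : Subgroup G) ∣
        Nat.card Q₀ * Nat.card (Subgroup.zpowers u) := card_sup_dvd Q₀ _ hZN
    obtain ⟨a, ha⟩ := IsPGroup.iff_card.mp hQ₀q
    rw [ha, Nat.card_zpowers, huo] at hBcard
    have hrcop : (r ^ k).Coprime p := Nat.Coprime.pow_left k ((Nat.coprime_primes hr hp).mpr hrp)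
    have hBcop : (Nat.card (Q₀ ⊔ Subgroup.zpowers u : Subgroup G)).Coprime p :=
      Nat.Coprime.coprime_dvd_left hBcard (Nat.Coprime.mul_left (hqcop a) hrcop)
    have hBfpf := hfpfV _ hBcop
    have hBnil : Group.IsNilpotent (Q₀ ⊔ Subgroup.zpowers u : Subgroup G) :=
      cn_fpf_nilpotent hCN V _ hV1 (hnormV _) hBfpf
    have huB : u ∈ Q₀ ⊔ Subgroup.zpowers u :=
      (le_sup_right : Subgroup.zpowers u ≤ Q₀ ⊔ Subgroup.zpowers u) (Subgroup.mem_zpowers u)
    rw [hAdef, Subgroup.mem_centralizer_iff]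
    intro w hw
    have hwB : w ∈ Q₀ ⊔ Subgroup.zpowers u := (le_sup_left : Q₀ ≤ Q₀ ⊔ Subgroup.zpowers u) hw
    obtain ⟨j, hj⟩ := pgroup_orderOf hQ₀q hw
    by_cases hrq : r = q
    · rw [hrq] at huo
      exact (fpf_commute_odd V hV1 _ hBnil q hq2 (hVcop q ((Nat.coprime_primes hq hp).mpr hqp))
        hBfpf hwB huB hj huo).eq
    · have := commute_of_pp (K := (Q₀ ⊔ Subgroup.zpowers u : Subgroup G)) hq hr (Ne.symm hrq)
        (x := ⟨w, hwB⟩) (y := ⟨u, huB⟩) (a := j) (b := k)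
        (by rw [Subgroup.orderOf_mk, hj]) (by rw [Subgroup.orderOf_mk, huo])
      exact congrArg Subtype.val this.eq
  -- `[N₁ : A]` is a power of `p`
  obtain ⟨m, hm⟩ : ∃ m : ℕ, A.relIndex N₁ = p ^ m := by
    refine ⟨_, Nat.eq_prime_pow_of_unique_prime_dvd ?_ ?_⟩
    · exact Subgroup.index_ne_zero_of_finite
    · intro r hr hrd
      by_contra hrp
      have hrF : Fact r.Prime := ⟨hr⟩
      have hRA : ((default : Sylow r N₁) : Subgroup N₁) ≤ A.subgroupOf N₁ := by
        intro y hy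
        rw [Subgroup.mem_subgroupOf]
        obtain ⟨k, hk⟩ := pgroup_orderOf (default : Sylow r N₁).isPGroup' hy
        exact hB9 (y : G) y.2 r hr hrp k (by rw [Subgroup.orderOf_coe, hk])
      have h1 : (A.subgroupOf N₁).index ∣ ((default : Sylow r N₁) : Subgroup N₁).index :=
        Subgroup.index_dvd_of_le hRA
      exact (default : Sylow r N₁).not_dvd_index (dvd_trans hrd h1)
  -- the subgroup `K = H A`
  have hHA : H ⊓ A = ⊥ := by
    rw [eq_bot_iff, ← hHN₁]
    exact inf_le_inf_left _ hAN₁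
  have hKidx : (H ⊔ A).index = p ^ m := by
    have h1 : H.relIndex (H ⊔ A) * (H ⊔ A).index = H.index :=
      Subgroup.relIndex_mul_index le_sup_left
    have h2 : H.relIndex (H ⊔ A) = Nat.card A := by
      rw [Subgroup.relIndex_sup_left, ← Subgroup.inf_relIndex_right, hHA,
        Subgroup.relIndex_bot_left]
    have h3 : Nat.card A * A.relIndex N₁ = Nat.card N₁ := by
      have := Subgroup.relIndex_mul_relIndex ⊥ A N₁ bot_le hAN₁
      rwa [Subgroup.relIndex_bot_left, Subgroup.relIndex_bot_left] at this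
    rw [h2, ← hN₁card, ← h3] at h1
    rw [← hm]
    exact Nat.eq_of_mul_eq_mul_left Nat.card_pos h1
  have hKn : (H ⊔ A).Normal := by
    have hN₁K : ∀ n ∈ N₁, ∀ k ∈ H ⊔ A, n * k * n⁻¹ ∈ H ⊔ A := by
      intro n hn k hk
      have hk' : k ∈ ((H ⊔ A : Subgroup G) : Set G) := hk
      rw [Subgroup.normal_mul] at hk'
      obtain ⟨h, hh, a, ha, rfl⟩ := Set.mem_mul.mp hk'
      have h1 : n * h * n⁻¹ ∈ H ⊔ A := (le_sup_left : H ≤ H ⊔ A) (hHn.conj_mem h hh n)
      have h2 : n * a * n⁻¹ ∈ H ⊔ A := (le_sup_right : A ≤ H ⊔ A) (hAconj n hn a ha)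
      have h3 : n * (h * a) * n⁻¹ = (n * h * n⁻¹) * (n * a * n⁻¹) := by group
      rw [h3]
      exact (H ⊔ A).mul_mem h1 h2
    constructor
    intro k hk g
    obtain ⟨h, hh, n, hn, rfl⟩ := hprod g
    have h1 := hN₁K n hn k hk
    have hhK : h ∈ H ⊔ A := (le_sup_left : H ≤ H ⊔ A) hh
    have h2 : h * n * k * (h * n)⁻¹ = h * (n * k * n⁻¹) * h⁻¹ := by group
    rw [h2]
    exact (H ⊔ A).mul_mem ((H ⊔ A).mul_mem hhK h1) ((H ⊔ A).inv_mem hhK)
  have hKtop : H ⊔ A ≠ ⊤ := by
    intro h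
    rw [h, Subgroup.index_top] at hKidx
    have h1 : A.relIndex N₁ = 1 := by rw [hm, ← hKidx]
    have h2 : N₁ ≤ A := Subgroup.relIndex_eq_one.mp h1
    have h3 : Nat.card N₁ ∣ Nat.card A := Subgroup.card_dvd_of_le h2
    have h4 : p ∣ Nat.card A := dvd_trans hpN₁ h3
    exact (Nat.Prime.coprime_iff_not_dvd hp).mp hAcop.symm h4
  -- the Frobenius property of `G / H`
  have hB11 : ∀ x : G, x ∉ H ⊔ A → ∀ a ∈ A, a ≠ 1 → x * a * x⁻¹ * a⁻¹ ∉ H := by
    intro x hx a ha ha1 hmem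
    obtain ⟨h, hh, n, hn, rfl⟩ := hprod x
    have hnA : n ∉ A := by
      intro hnA
      apply hx
      exact (H ⊔ A).mul_mem ((le_sup_left : H ≤ H ⊔ A) hh) ((le_sup_right : A ≤ H ⊔ A) hnA)
    have haN : a ∈ N₁ := hAN₁ ha
    have hc : n * a * n⁻¹ * a⁻¹ ∈ H ⊓ N₁ := by
      refine Subgroup.mem_inf.mpr ⟨?_, ?_⟩
      · have h1 : a * h * a⁻¹ ∈ H := hHn.conj_mem h hh a
        have h2 : n * a * n⁻¹ * a⁻¹ =
            h⁻¹ * (h * n * a * (h * n)⁻¹ * a⁻¹) * (a * h * a⁻¹) := by group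
        rw [h2]
        exact H.mul_mem (H.mul_mem (H.inv_mem hh) hmem) h1
      · exact N₁.mul_mem (N₁.mul_mem (N₁.mul_mem hn haN) (N₁.inv_mem hn)) (N₁.inv_mem haN)
    rw [hHN₁, Subgroup.mem_bot] at hc
    have hna : n * a = a * n := by
      calc n * a = (n * a * n⁻¹ * a⁻¹) * (a * n) := by group
        _ = a * n := by rw [hc, one_mul]
    have hL : N₁ ⊓ Subgroup.centralizer ({a} : Set G) ≤ A := by
      apply le_of_pp_mem
      rintro u hu ⟨r, k, hr, huo⟩
      obtain ⟨huN, huC⟩ := Subgroup.mem_inf.mp hu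
      by_cases hrp : r = p
      · by_cases hu1 : u = 1
        · rw [hu1]
          exact A.one_mem
        · exfalso
          rw [Subgroup.mem_centralizer_singleton_iff] at huC
          exact hncomm u a hu1 ⟨k, hrp ▸ huo⟩ ha1 (hAp' a ha) huC
      · exact hB9 u huN r hr hrp k huo
    apply hnA
    apply hL
    refine Subgroup.mem_inf.mpr ⟨hn, ?_⟩
    rw [Subgroup.mem_centralizer_singleton_iff]
    exact hna
  exact ⟨hH1, A, hA1, hAcyc, Nat.odd_iff.mpr (Nat.two_dvd_ne_zero.mp hAodd), hAcop, hKn, hKtop,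
    ⟨m, hKidx⟩, hAfpf, hB11⟩

end caseB

end Cfsg.Agent.Helper45.CNS
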