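import Mathlib
import Cfsg.Prelude.Def_OddOrderLocal
import Cfsg.Agent.Lib.Helper45.CNSolv
import Cfsg.Agent.S0015

/-!
# Three-step groups (helper45)

Structure facts on three-step groups (with respect to an arbitrary natural number `p`) inside
CN-groups: normal nilpotent subgroups lie in `O_p`, the quotient by `O_p` is not nilpotent, and
every solvable CN-overgroup of a three-step group is a three-step group for a prime.
-/

set_option autoImplicit false

namespace Cfsg.Agent.Helper45.TS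

open Cfsg.Agent.Helper45.CN Cfsg.Agent.Helper45.FH Cfsg.Agent.Helper45.Nilp
open Cfsg.Agent.Helper45.CNS Cfsg.Agent.Helper70
open scoped Pointwise

universe u

section abstract

variable {M : Type u} [Group M] [Finite M]

/-- the `p`-core is a `p`-group, for arbitrary `p`. -/
theorem pCore_isPGroup_gen (p : ℕ) : IsPGroup p (Cfsg.pCore p M) := by
  let S : Set (Subgroup M) := {N | N.Normal ∧ IsPGroup p N}
  have hbot : (⊥ : Subgroup M) ∈ S := ⟨inferInstance, IsPGroup.of_bot⟩
  obtain ⟨N₀, hN₀, hmax⟩ := Set.exists_max_image S (fun N => Nat.card N) (Set.toFinite S) ⟨⊥, hbot⟩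
  have hle : Cfsg.pCore p M ≤ N₀ := by
    apply sSup_le
    intro N hN
    have hn0 : N₀.Normal := hN₀.1
    have hn : N.Normal := hN.1
    have hmem : N₀ ⊔ N ∈ S := ⟨inferInstance, IsPGroup.to_sup_of_normal_right hN₀.2 hN.2⟩
    have h1 := hmax _ hmem
    have h2 : N₀ ⊔ N = N₀ := (Subgroup.eq_of_le_of_card_ge le_sup_left h1).symm
    rw [← h2]
    exact le_sup_right
  exact hN₀.2.to_le hle

omit [Finite M] in
/-- an element of prime power order `r ^ j` with `r ∤ p` in a `p`-group is trivial. -/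
theorem eq_one_of_isPGroup_of_not_dvd {p r : ℕ} (hr : r.Prime) (hrp : ¬ r ∣ p) {K : Subgroup M}
    (hK : IsPGroup p K) {c : M} (hcK : c ∈ K) {j : ℕ} (hc : orderOf c = r ^ j) : c = 1 := by
  obtain ⟨k, hk⟩ := hK ⟨c, hcK⟩
  have h1 : c ^ (p ^ k) = 1 := by
    have := congrArg Subtype.val hk
    simpa using this
  have h2 : orderOf c ∣ p ^ k := orderOf_dvd_of_pow_eq_one h1
  rw [hc] at h2
  have hcop : (r ^ j).Coprime (p ^ k) :=
    Nat.Coprime.pow _ _ ((Nat.Prime.coprime_iff_not_dvd hr).mpr hrp)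
  have := Nat.Coprime.eq_one_of_dvd hcop h2
  rw [← orderOf_eq_one_iff, hc, this]

omit [Finite M] in
/-- an element of prime power order `r ^ j`, `r ∤ p`, lies in every normal subgroup whose index is
a power of `p`. -/
theorem mem_of_index_pow {p r : ℕ} (hr : r.Prime) (hrp : ¬ r ∣ p) (L : Subgroup M) [L.Normal]
    {n : ℕ} (hn : L.index = p ^ n) {c : M} {j : ℕ} (hc : orderOf c = r ^ j) : c ∈ L := by
  rw [← QuotientGroup.eq_one_iff]
  have h1 : (QuotientGroup.mk c : M ⧸ L) ^ (r ^ j) = 1 := by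
    rw [← QuotientGroup.mk_pow, ← hc, pow_orderOf_eq_one]
    rfl
  have h2 : (QuotientGroup.mk c : M ⧸ L) ^ (p ^ n) = 1 := by
    rw [← hn, Subgroup.index_eq_card]
    exact pow_card_eq_one'
  have hcop : (r ^ j).Coprime (p ^ n) :=
    Nat.Coprime.pow _ _ ((Nat.Prime.coprime_iff_not_dvd hr).mpr hrp)
  have h3 := pow_gcd_eq_one.mpr ⟨h1, h2⟩
  rw [Nat.Coprime.gcd_eq_one hcop, pow_one] at h3
  exact h3

/-- in a three-step group (with respect to an arbitrary `p`), every normal nilpotent subgroup lies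
in `O_p`. -/
theorem normal_nilpotent_le {p : ℕ} (hts : Cfsg.IsThreeStepGroup p M) (N : Subgroup M)
    [hNn : N.Normal] (hN : Group.IsNilpotent N) : N ≤ Cfsg.pCore p M := by
  obtain ⟨hK1, A, hA1, hAc, hAodd, hAcop, hKAn, hKAtop, ⟨n, hn⟩, hfpf, hfrob⟩ := hts
  set K := Cfsg.pCore p M with hKdef
  have hKn : K.Normal := pCore_normal p M
  have hKp : IsPGroup p K := pCore_isPGroup_gen p
  apply le_of_pp_mem
  rintro x hxN ⟨r, k, hr, hxo⟩
  have : Fact r.Prime := ⟨hr⟩
  set R := sylowPart N r with hRdef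
  have hxR : x ∈ R := mem_sylowPart hN hxN hxo
  have hRp : IsPGroup r R := sylowPart_isPGroup N r
  have hRn : R.Normal := by
    constructor
    intro y hy g
    obtain ⟨j, hj⟩ := pgroup_orderOf hRp hy
    have hyN : y ∈ N := sylowPart_le N r hy
    have hord : orderOf (g * y * g⁻¹) = r ^ j := by
      rw [← hj, ← MulAut.conj_apply]
      exact MulEquiv.orderOf_eq _ _
    exact mem_sylowPart hN (hNn.conj_mem y hyN g) hord
  by_cases hrp : r ∣ p
  · have hRp' : IsPGroup p R := by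
      intro g
      obtain ⟨k, hk⟩ := hRp g
      refine ⟨k, ?_⟩
      obtain ⟨t, ht⟩ := pow_dvd_pow_of_dvd hrp k
      rw [ht, pow_mul, hk, one_pow]
    exact le_pCore R hRp' hxR
  · by_contra hxK
    have hx1 : x ≠ 1 := fun h => hxK (h ▸ K.one_mem)
    -- `R ∩ K = 1`
    have hRK : ∀ y ∈ R, y ∈ K → y = 1 := by
      intro y hyR hyK
      obtain ⟨j, hj⟩ := pgroup_orderOf hRp hyR
      exact eq_one_of_isPGroup_of_not_dvd hr hrp hKp hyK hj
    -- `R` centralizes `K`
    have hcent : ∀ c ∈ R, ∀ y ∈ K, c * y = y * c := by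
      intro c hc y hy
      have h1 : c * y * c⁻¹ * y⁻¹ ∈ R := by
        have := hRn.conj_mem c⁻¹ (R.inv_mem hc) y
        have h2 := R.mul_mem hc this
        have h3 : c * (y * c⁻¹ * y⁻¹) = c * y * c⁻¹ * y⁻¹ := by group
        rwa [h3] at h2
      have h2 : c * y * c⁻¹ * y⁻¹ ∈ K := K.mul_mem (hKn.conj_mem y hy c) (K.inv_mem hy)
      have h3 := hRK _ h1 h2
      calc c * y = (c * y * c⁻¹ * y⁻¹) * y * c := by group
        _ = y * c := by rw [h3, one_mul]
    -- `x ∈ K A`
    have hxKA : x ∈ K ⊔ A := mem_of_index_pow hr hrp (K ⊔ A) hn hxo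
    have hmul : ((K ⊔ A : Subgroup M) : Set M) = (K : Set M) * (A : Set M) := Subgroup.normal_mul K A
    have hxKA' : x ∈ (K : Set M) * (A : Set M) := by rw [← hmul]; exact hxKA
    obtain ⟨k₀, hk₀, a, ha, hka⟩ := Set.mem_mul.mp hxKA'
    have hk₀' : k₀ ∈ K := hk₀
    have ha' : a ∈ A := ha
    have ha1 : a ≠ 1 := by
      intro h
      apply hxK
      rw [← hka, h, mul_one]
      exact hk₀'
    -- `a` commutes with `k₀`
    have h1 := hcent x hxR k₀ hk₀'
    have h2 : k₀ * a = a * k₀ := by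
      rw [← hka] at h1
      have : k₀ * (a * k₀) = k₀ * (k₀ * a) := by rw [← mul_assoc]; exact h1
      exact (mul_left_cancel this).symm
    have h3 : k₀ ∈ K ⊓ Subgroup.centralizer ({a} : Set M) := by
      refine Subgroup.mem_inf.mpr ⟨hk₀', ?_⟩
      rw [Subgroup.mem_centralizer_singleton_iff]
      exact h2
    rw [hfpf a ha' ha1, Subgroup.mem_bot] at h3
    -- so `x = a` centralizes `K`
    have hxa : x = a := by rw [← hka, h3, one_mul]
    obtain ⟨y, hy1⟩ := (Subgroup.ne_bot_iff_exists_ne_one.mp hK1)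
    have hy1' : (y : M) ≠ 1 := fun h => hy1 (Subtype.ext h)
    have h4 : (y : M) ∈ K ⊓ Subgroup.centralizer ({a} : Set M) := by
      refine Subgroup.mem_inf.mpr ⟨y.2, ?_⟩
      rw [Subgroup.mem_centralizer_singleton_iff]
      have := hcent x hxR y y.2
      rw [hxa] at this
      exact this.symm
    rw [hfpf a ha' ha1, Subgroup.mem_bot] at h4
    exact hy1' h4

omit [Finite M] in
/-- in a three-step group, `A ∩ O_p = 1`. -/
theorem ts_inf_eq_one {p : ℕ} {A : Subgroup M}
    (hfpf : ∀ a ∈ A, a ≠ 1 → Cfsg.pCore p M ⊓ Subgroup.centralizer ({a} : Set M) = ⊥) :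
    ∀ a ∈ A, a ∈ Cfsg.pCore p M → a = 1 := by
  intro a ha haK
  by_contra ha1
  have : a ∈ Cfsg.pCore p M ⊓ Subgroup.centralizer ({a} : Set M) :=
    Subgroup.mem_inf.mpr ⟨haK, by rw [Subgroup.mem_centralizer_singleton_iff]⟩
  rw [hfpf a ha ha1, Subgroup.mem_bot] at this
  exact ha1 this

omit [Finite M] in
/-- the quotient of a three-step group by `O_p` is not nilpotent. -/
theorem quotient_not_nilpotent {p : ℕ} (hts : Cfsg.IsThreeStepGroup p M) :
    ¬ Group.IsNilpotent (M ⧸ Cfsg.pCore p M) := by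
  intro hnil
  obtain ⟨hK1, A, hA1, hAc, hAodd, hAcop, hKAn, hKAtop, ⟨n, hn⟩, hfpf, hfrob⟩ := hts
  have hAK := ts_inf_eq_one hfpf
  set K := Cfsg.pCore p M with hKdef
  have hKn : K.Normal := pCore_normal p M
  set Abar := (K ⊔ A).map (QuotientGroup.mk' K) with hAbar
  have hAbn : Abar.Normal := Subgroup.Normal.map hKAn _ (QuotientGroup.mk'_surjective K)
  have hAb1 : Abar ≠ ⊥ := by
    intro h
    obtain ⟨a, ha1⟩ := Subgroup.ne_bot_iff_exists_ne_one.mp hA1
    have : QuotientGroup.mk' K (a : M) ∈ Abar :=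
      Subgroup.mem_map_of_mem _ (Subgroup.mem_sup_right a.2)
    rw [h, Subgroup.mem_bot, QuotientGroup.mk'_apply, QuotientGroup.eq_one_iff] at this
    exact ha1 (Subtype.ext (hAK a a.2 this))
  have hz := Cfsg.Agent.S0015.normal_inf_center_ne_bot Abar hAb1
  obtain ⟨z, hz1⟩ := Subgroup.ne_bot_iff_exists_ne_one.mp hz
  have hz1' : (z : M ⧸ K) ≠ 1 := fun h => hz1 (Subtype.ext h)
  have hzmem := Subgroup.mem_inf.mp z.2
  obtain ⟨y, hyKA, hyz⟩ := Subgroup.mem_map.mp hzmem.1
  have hmul : ((K ⊔ A : Subgroup M) : Set M) = (K : Set M) * (A : Set M) := Subgroup.normal_mul K A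
  have hy' : y ∈ (K : Set M) * (A : Set M) := by rw [← hmul]; exact hyKA
  obtain ⟨k₀, hk₀, a, ha, hka⟩ := Set.mem_mul.mp hy'
  have hk₀' : k₀ ∈ K := hk₀
  have ha' : a ∈ A := ha
  have hza : (z : M ⧸ K) = QuotientGroup.mk' K a := by
    rw [← hyz, ← hka, map_mul]
    have : QuotientGroup.mk' K k₀ = 1 := by
      rw [QuotientGroup.mk'_apply, QuotientGroup.eq_one_iff]; exact hk₀'
    rw [this, one_mul]
  have ha1 : a ≠ 1 := by
    intro h
    apply hz1'
    rw [hza, h, map_one]
  obtain ⟨x, hx⟩ : ∃ x, x ∉ K ⊔ A := by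
    by_contra h
    push Not at h
    exact hKAtop (eq_top_iff.mpr fun x _ => h x)
  apply hfrob x hx a ha' ha1
  rw [← QuotientGroup.eq_one_iff]
  have hc := Subgroup.mem_center_iff.mp hzmem.2 (QuotientGroup.mk' K x)
  rw [hza] at hc
  have : ((x * a * x⁻¹ * a⁻¹ : M) : M ⧸ K) =
      QuotientGroup.mk' K x * QuotientGroup.mk' K a * (QuotientGroup.mk' K x)⁻¹ *
        (QuotientGroup.mk' K a)⁻¹ := by
    simp
  rw [this, hc]
  group

end abstract

section overgroup

theorem nilpotent_of_injective {A B : Type*} [Group A] [Group B] (f : A →* B)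
    (hf : Function.Injective f) (hB : Group.IsNilpotent B) : Group.IsNilpotent A := by
  apply Subgroup.isNilpotent_of_ker_le_center f
  rw [(MonoidHom.ker_eq_bot_iff f).mpr hf]
  exact bot_le

variable {G : Type u} [Group G] [Finite G]

/-- a three-step group is not nilpotent. -/
theorem not_nilpotent {M : Type u} [Group M] [Finite M] {p : ℕ}
    (hts : Cfsg.IsThreeStepGroup p M) : ¬ Group.IsNilpotent M := by
  intro h
  exact quotient_not_nilpotent hts inferInstance

/-- a three-step group has no normal subgroup `F` containing only... : if `M₀ ≤ M₁`, `M₀` is a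
three-step group and `F` is a nilpotent normal subgroup of `M₁`, then `M₁ / F` is not nilpotent. -/
theorem quotient_overgroup_not_nilpotent {M₀ M₁ : Subgroup G} (hle : M₀ ≤ M₁) {p₀ : ℕ}
    (hts : Cfsg.IsThreeStepGroup p₀ ↥M₀) (F : Subgroup ↥M₁) [hFn : F.Normal]
    (hF : Group.IsNilpotent F) : ¬ Group.IsNilpotent (↥M₁ ⧸ F) := by
  intro hnil
  let φ : ↥M₀ →* ↥M₁ ⧸ F := (QuotientGroup.mk' F).comp (Subgroup.inclusion hle)
  have hkn : Group.IsNilpotent φ.ker := by
    let f : φ.ker →* F :=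
      { toFun := fun y => ⟨Subgroup.inclusion hle (y : ↥M₀), by
          have := y.2
          rw [MonoidHom.mem_ker, MonoidHom.comp_apply, QuotientGroup.mk'_apply,
            QuotientGroup.eq_one_iff] at this
          exact this⟩
        map_one' := rfl
        map_mul' := fun _ _ => rfl }
    apply nilpotent_of_injective f _ hF
    intro y₁ y₂ h
    have h1 : Subgroup.inclusion hle (y₁ : ↥M₀) = Subgroup.inclusion hle (y₂ : ↥M₀) :=
      congrArg Subtype.val h
    exact Subtype.ext (Subgroup.inclusion_injective hle h1)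
  have hle' : φ.ker ≤ Cfsg.pCore p₀ ↥M₀ := normal_nilpotent_le hts φ.ker hkn
  have h1 : Group.IsNilpotent (↥M₀ ⧸ φ.ker) :=
    nilpotent_of_injective (QuotientGroup.kerLift φ) (QuotientGroup.kerLift_injective φ) hnil
  have h2 : Group.IsNilpotent (↥M₀ ⧸ Cfsg.pCore p₀ ↥M₀) := by
    apply Group.nilpotent_of_surjective (QuotientGroup.map φ.ker (Cfsg.pCore p₀ ↥M₀) (MonoidHom.id _) hle')
    intro y
    obtain ⟨x, rfl⟩ := QuotientGroup.mk_surjective y
    exact ⟨QuotientGroup.mk x, rfl⟩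
  exact quotient_not_nilpotent hts h2

/-- every solvable CN-overgroup of a three-step group is a three-step group with respect to a
prime. -/
theorem overgroup (hCN : Cfsg.IsCNGroup G) {M₀ M₁ : Subgroup G} (hle : M₀ ≤ M₁)
    [Group.IsSolvable ↥M₁] {p₀ : ℕ} (hts : Cfsg.IsThreeStepGroup p₀ ↥M₀) :
    ∃ p : ℕ, p.Prime ∧ Cfsg.IsThreeStepGroup p ↥M₁ := by
  have hCN₁ : Cfsg.IsCNGroup ↥M₁ := cn_subgroup hCN M₁
  have hnn : ¬ Group.IsNilpotent ↥M₁ := by
    intro h
    exact not_nilpotent hts (nilpotent_of_le (H := M₀) (K := M₁) h hle)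
  by_cases hns : NoNormalSylow ↥M₁
  · exact caseB hCN₁ hnn hns
  · exfalso
    unfold NoNormalSylow at hns
    push Not at hns
    obtain ⟨r, hr, R, hRn, hR1⟩ := hns
    obtain ⟨-, -, -, hq⟩ := Cfsg.Agent.S1474.result hCN₁ hnn r R hR1 hRn
    exact quotient_overgroup_not_nilpotent hle hts (Cfsg.fittingHall ↥M₁)
      fittingHall_nilpotent hq

end overgroup

end Cfsg.Agent.Helper45.TS
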