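import Mathlib
import Cfsg.Prelude.Def_Local
import Cfsg.Prelude.Def_OddOrderLocal
import Cfsg.Agent.Lib.Helper45.ThreeStep
import Cfsg.Agent.Lib.Helper45.NQ

/-!
# `p`-locals of CN-groups of odd order (helper45)

Let `X` be a solvable CN-group such that no non-identity `p`-element commutes with a non-identity
`p'`-element, and `O_p(X) ≠ 1`.  Then `O_{p'}(X) = 1`, `X` is `p`-constrained and (for `p` odd)
`p`-stable.
-/

set_option autoImplicit false

namespace Cfsg.Agent.Helper45.CNL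

open Cfsg.Agent.Helper45.CN Cfsg.Agent.Helper45.FH Cfsg.Agent.Helper45.Nilp
open Cfsg.Agent.Helper45.CNS Cfsg.Agent.Helper45.TS Cfsg.Agent.Helper70
open scoped commutatorElement

universe u

/-- no non-identity `p`-element commutes with a non-identity `p'`-element. -/
def PProp (p : ℕ) (X : Type*) [Group X] : Prop :=
  ∀ x y : X, x ≠ 1 → (∃ i : ℕ, orderOf x = p ^ i) → (orderOf y).Coprime p → Commute x y → y = 1

variable {X : Type u} [Group X] [Finite X] {p : ℕ} [hpF : Fact p.Prime]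

omit [Finite X] in
/-- an element of a normal `p`-subgroup and of a normal subgroup of order prime to `p`. -/
theorem eq_one_of_mem_of_coprime {K N : Subgroup X} (hKp : IsPGroup p K)
    (hN : (Nat.card N).Coprime p) {z : X} (hzK : z ∈ K) (hzN : z ∈ N) : z = 1 := by
  obtain ⟨i, hi⟩ := pgroup_orderOf hKp hzK
  have h1 : orderOf z ∣ Nat.card N := by
    have := orderOf_dvd_natCard (⟨z, hzN⟩ : N)
    rwa [Subgroup.orderOf_mk] at this
  rw [hi] at h1
  have h2 : (p ^ i).Coprime (Nat.card N) := Nat.Coprime.pow_left _ hN.symm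
  have := Nat.Coprime.eq_one_of_dvd h2 h1
  rw [← orderOf_eq_one_iff, hi, this]

theorem pPrimeCore_eq_bot (h3 : PProp p X) (hK1 : Cfsg.pCore p X ≠ ⊥) :
    Cfsg.pPrimeCore p X = ⊥ := by
  unfold Cfsg.pPrimeCore
  rw [sSup_eq_bot]
  rintro N ⟨hNn, hNcop⟩
  rw [Subgroup.eq_bot_iff_forall]
  intro y hy
  obtain ⟨k, hk1⟩ := Subgroup.ne_bot_iff_exists_ne_one.mp hK1
  have hk1' : (k : X) ≠ 1 := fun h => hk1 (Subtype.ext h)
  have hKn : (Cfsg.pCore p X).Normal := pCore_normal p X
  have hKp : IsPGroup p (Cfsg.pCore p X) := pCore_isPGroup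
  have hcomm : Commute (k : X) y := by
    have h1 : (k : X) * y * (k : X)⁻¹ * y⁻¹ ∈ Cfsg.pCore p X := by
      have := hKn.conj_mem _ (inv_mem k.2) y
      have h2 := mul_mem k.2 this
      have h3 : (k : X) * (y * (k : X)⁻¹ * y⁻¹) = (k : X) * y * (k : X)⁻¹ * y⁻¹ := by group
      rwa [h3] at h2
    have h2 : (k : X) * y * (k : X)⁻¹ * y⁻¹ ∈ N :=
      N.mul_mem (hNn.conj_mem y hy k) (N.inv_mem hy)
    have h3 := eq_one_of_mem_of_coprime hKp hNcop h1 h2
    show (k : X) * y = y * k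
    calc (k : X) * y = ((k : X) * y * (k : X)⁻¹ * y⁻¹) * y * k := by group
      _ = y * k := by rw [h3, one_mul]
  apply h3 k y hk1' (pgroup_orderOf hKp k.2) _ hcomm
  have h1 : orderOf y ∣ Nat.card N := by
    have := orderOf_dvd_natCard (⟨y, hy⟩ : N)
    rwa [Subgroup.orderOf_mk] at this
  exact Nat.Coprime.coprime_dvd_left h1 hNcop

/-- the centralizer of `O_p(X)` lies in `O_p(X)`. -/
theorem centralizer_pCore_le (h3 : PProp p X) (hK1 : Cfsg.pCore p X ≠ ⊥) :
    Subgroup.centralizer (Cfsg.pCore p X : Set X) ≤ Cfsg.pCore p X := by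
  have hKn : (Cfsg.pCore p X).Normal := pCore_normal p X
  have hKp : IsPGroup p (Cfsg.pCore p X) := pCore_isPGroup
  obtain ⟨k, hk1⟩ := Subgroup.ne_bot_iff_exists_ne_one.mp hK1
  have hk1' : (k : X) ≠ 1 := fun h => hk1 (Subtype.ext h)
  have hCp : IsPGroup p (Subgroup.centralizer (Cfsg.pCore p X : Set X)) := by
    rintro ⟨y, hy⟩
    have hy0 : orderOf y ≠ 0 := (orderOf_pos y).ne'
    obtain ⟨a, t, ht, hat⟩ := Nat.exists_eq_pow_mul_and_not_dvd hy0 p hpF.out.ne_one
    refine ⟨a, ?_⟩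
    apply Subtype.ext
    rw [Subgroup.coe_pow, Subgroup.coe_one]
    have hcomm : Commute (k : X) (y ^ (p ^ a)) := by
      have hc : Commute (k : X) y := (Subgroup.mem_centralizer_iff.mp hy) k k.2
      exact hc.pow_right _
    apply h3 k _ hk1' (pgroup_orderOf hKp k.2) _ hcomm
    have h1 : orderOf (y ^ (p ^ a)) = t := by
      rw [orderOf_pow' _ (pow_ne_zero a hpF.out.ne_zero), hat,
        Nat.gcd_eq_right (Dvd.intro _ rfl), Nat.mul_div_cancel_left _ (pow_pos hpF.out.pos a)]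
    rw [h1]
    exact ((Nat.Prime.coprime_iff_not_dvd hpF.out).mpr ht).symm
  exact le_pCore _ hCp

theorem pCore_le_pPrimePCore : Cfsg.pCore p X ≤ Cfsg.pPrimePCore p X := by
  unfold Cfsg.pPrimePCore
  rw [← Subgroup.map_le_iff_le_comap]
  have hKn : (Cfsg.pCore p X).Normal := pCore_normal p X
  have hn : ((Cfsg.pCore p X).map (QuotientGroup.mk' (Cfsg.pPrimeCore p X))).Normal :=
    Subgroup.Normal.map hKn _ (QuotientGroup.mk'_surjective _)
  exact le_pCore _ (pCore_isPGroup.map _)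

theorem pPrimePCore_isPGroup (hbot : Cfsg.pPrimeCore p X = ⊥) :
    IsPGroup p (Cfsg.pPrimePCore p X) := by
  unfold Cfsg.pPrimePCore
  apply IsPGroup.comap_of_ker_isPGroup pCore_isPGroup
  rw [QuotientGroup.ker_mk', hbot]
  exact IsPGroup.of_bot

theorem isPConstrained (h3 : PProp p X) (hK1 : Cfsg.pCore p X ≠ ⊥) :
    Cfsg.IsPConstrained p X := by
  have hbot := pPrimeCore_eq_bot h3 hK1
  intro P₁
  have hOp := pPrimePCore_isPGroup (X := X) (p := p) hbot
  have htop : (P₁ : Subgroup (Cfsg.pPrimePCore p X)) = ⊤ :=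
    (P₁.is_maximal' (hOp.to_subgroup ⊤) le_top).symm
  rw [htop, ← MonoidHom.range_eq_map, Subgroup.range_subtype]
  exact (Subgroup.centralizer_le pCore_le_pPrimePCore).trans
    ((centralizer_pCore_le h3 hK1).trans pCore_le_pPrimePCore)

omit [Finite X] hpF in
/-- the image in `N(P)/C(P)` of a subgroup of a normal `p`-subgroup lies in `O_p`. -/
theorem image_le_pCore (A S P : Subgroup X) [hS : S.Normal] (hSp : IsPGroup p S) (hAS : A ≤ S) :
    (A.subgroupOf (Subgroup.normalizer (P : Set X))).map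
      (QuotientGroup.mk' ((Subgroup.centralizer (P : Set X)).subgroupOf
        (Subgroup.normalizer (P : Set X)))) ≤ Cfsg.pCore p _ := by
  have h1 : A.subgroupOf (Subgroup.normalizer (P : Set X)) ≤
      S.subgroupOf (Subgroup.normalizer (P : Set X)) := Subgroup.comap_mono hAS
  refine (Subgroup.map_mono h1).trans ?_
  have hn : ((S.subgroupOf (Subgroup.normalizer (P : Set X))).map
      (QuotientGroup.mk' ((Subgroup.centralizer (P : Set X)).subgroupOf
        (Subgroup.normalizer (P : Set X))))).Normal :=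
    Subgroup.Normal.map inferInstance _ (QuotientGroup.mk'_surjective _)
  exact le_pCore _ ((hSp.comap_of_injective _ (Subgroup.subtype_injective _)).map _)

/-- a nontrivial normal subgroup `P` of `X` inside the `p`-group `K` meets `Ω₁(Z(K))`
nontrivially. -/
theorem inf_omegaCenter_ne_bot (K P : Subgroup X) (hKp : IsPGroup p K) (hPK : P ≤ K)
    [hPn : P.Normal] (hP1 : P ≠ ⊥) : P ⊓ omegaCenter K p ≠ ⊥ := by
  have hnil : Group.IsNilpotent K := hKp.isNilpotent
  have hQ1 : P.subgroupOf K ≠ ⊥ := by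
    obtain ⟨x, hx1⟩ := Subgroup.ne_bot_iff_exists_ne_one.mp hP1
    intro h
    have : (⟨x, hPK x.2⟩ : K) ∈ P.subgroupOf K := Subgroup.mem_subgroupOf.mpr x.2
    rw [h, Subgroup.mem_bot] at this
    exact hx1 (Subtype.ext (congrArg (fun y : K => (y : X)) this))
  have hz := Cfsg.Agent.S0015.normal_inf_center_ne_bot (P.subgroupOf K) hQ1
  obtain ⟨z, hz1⟩ := Subgroup.ne_bot_iff_exists_ne_one.mp hz
  have hzmem := Subgroup.mem_inf.mp z.2
  have hz1' : (z : K) ≠ 1 := fun h => hz1 (Subtype.ext h)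
  obtain ⟨j, hj⟩ := (IsPGroup.iff_orderOf.mp hKp) (z : K)
  have hj0 : j ≠ 0 := by
    intro h
    rw [h, pow_zero, orderOf_eq_one_iff] at hj
    exact hz1' hj
  obtain ⟨k, rfl⟩ := Nat.exists_eq_succ_of_ne_zero hj0
  set z' : K := (z : K) ^ (p ^ k) with hz'
  have hz'1 : z' ≠ 1 := by
    intro h
    have h1 : orderOf (z : K) ∣ p ^ k := orderOf_dvd_of_pow_eq_one h
    rw [hj] at h1
    have := (Nat.pow_dvd_pow_iff_le_right hpF.out.one_lt).mp h1
    omega
  have hz'p : z' ^ p = 1 := by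
    rw [hz', ← pow_mul, ← pow_succ, ← hj, pow_orderOf_eq_one]
  intro hbot
  have hmem : ((z' : K) : X) ∈ P ⊓ omegaCenter K p := by
    refine Subgroup.mem_inf.mpr ⟨?_, ?_⟩
    · have : z' ∈ P.subgroupOf K := Subgroup.pow_mem _ hzmem.1 _
      exact Subgroup.mem_subgroupOf.mp this
    · rw [mem_omegaCenter]
      refine ⟨z'.2, ?_, ?_⟩
      · intro x hx
        have hc : z' ∈ Subgroup.center K := Subgroup.pow_mem _ hzmem.2 _
        have := Subgroup.mem_center_iff.mp hc ⟨x, hx⟩
        exact (congrArg Subtype.val this).symm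
      · have := congrArg Subtype.val hz'p
        rwa [Subgroup.coe_pow, Subgroup.coe_one] at this
  rw [hbot, Subgroup.mem_bot] at hmem
  exact hz'1 (Subtype.ext hmem)

theorem isPStable [Group.IsSolvable X] (hCN : Cfsg.IsCNGroup X) (hodd : Odd (Nat.card X))
    (h3 : PProp p X) (hK1 : Cfsg.pCore p X ≠ ⊥) : Cfsg.IsPStable p X := by
  have hbot := pPrimeCore_eq_bot h3 hK1
  have hKn : (Cfsg.pCore p X).Normal := pCore_normal p X
  have hKp : IsPGroup p (Cfsg.pCore p X) := pCore_isPGroup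
  have hp2 : p ≠ 2 := by
    intro hp2
    obtain ⟨k, hk1⟩ := Subgroup.ne_bot_iff_exists_ne_one.mp hK1
    have hk1' : (k : X) ≠ 1 := fun h => hk1 (Subtype.ext h)
    obtain ⟨i, hi⟩ := pgroup_orderOf hKp k.2
    have hi0 : i ≠ 0 := by
      intro h
      rw [h, pow_zero, orderOf_eq_one_iff] at hi
      exact hk1' hi
    have h1 : p ∣ Nat.card X := by
      have h2 : p ∣ orderOf (k : X) := hi ▸ dvd_pow_self p hi0
      exact h2.trans (orderOf_dvd_natCard _)
    rw [hp2] at h1
    exact (Nat.not_even_iff_odd.mpr hodd) (even_iff_two_dvd.mpr h1)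
  refine ⟨hpF.out.odd_of_ne_two hp2, hK1, ?_⟩
  intro A P hAp hPp hAP hPO hPn hquad
  rw [hbot, bot_sup_eq] at hPn
  by_cases hP1 : P = ⊥
  · intro x hx
    obtain ⟨a, ha, rfl⟩ := Subgroup.mem_map.mp hx
    have : QuotientGroup.mk' ((Subgroup.centralizer (P : Set X)).subgroupOf
        (Subgroup.normalizer (P : Set X))) a = 1 := by
      rw [QuotientGroup.mk'_apply, QuotientGroup.eq_one_iff, Subgroup.mem_subgroupOf,
        Subgroup.mem_centralizer_iff]
      intro h hh
      rw [hP1, Subgroup.coe_bot, Set.mem_singleton_iff] at hh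
      rw [hh, one_mul, mul_one]
    rw [this]
    exact one_mem _
  by_cases hSyl : ∃ S₀ : Sylow p X, (S₀ : Subgroup X).Normal
  · obtain ⟨S₀, hS₀⟩ := hSyl
    apply image_le_pCore A S₀ P S₀.isPGroup'
    intro a ha
    obtain ⟨i, hi⟩ := pgroup_orderOf hAp ha
    exact mem_sylow_of_normal S₀ hS₀ hi
  · have hnn : ¬ Group.IsNilpotent X := by
      intro hnil
      exact hSyl ⟨default, inferInstance⟩
    have hns : NoNormalSylow X := by
      intro r hr R hRn
      by_cases hrp : r = p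
      · subst hrp
        exact absurd ⟨R, hRn⟩ hSyl
      · have hcop : (Nat.card (R : Subgroup X)).Coprime p := by
          obtain ⟨k, hk⟩ := IsPGroup.iff_card.mp R.isPGroup'
          rw [hk]
          exact Nat.Coprime.pow_left _ ((Nat.coprime_primes hr.out hpF.out).mpr hrp)
        have : (R : Subgroup X) ≤ Cfsg.pPrimeCore p X := le_sSup ⟨hRn, hcop⟩
        rw [hbot] at this
        exact le_bot_iff.mp this
    obtain ⟨r, hr, hts⟩ := caseB hCN hnn hns
    have hrp : r = p := by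
      by_contra hrp
      have : Fact r.Prime := ⟨hr⟩
      have hcop : (Nat.card (Cfsg.pCore r X)).Coprime p := by
        obtain ⟨k, hk⟩ := IsPGroup.iff_card.mp (pCore_isPGroup (G := X) (p := r))
        rw [hk]
        exact Nat.Coprime.pow_left _ ((Nat.coprime_primes hr hpF.out).mpr hrp)
      have : Cfsg.pCore r X ≤ Cfsg.pPrimeCore p X := le_sSup ⟨pCore_normal r X, hcop⟩
      rw [hbot] at this
      exact hts.1 (le_bot_iff.mp this)
    rw [hrp] at hts
    obtain ⟨-, A₀, hA1, hAc, hAodd, hAcop, hKAn, hKAtop, ⟨n, hn⟩, hfpf, hfrob⟩ := hts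
    apply image_le_pCore A (Cfsg.pCore p X) P hKp
    by_contra hAK
    obtain ⟨u, huA, huK⟩ := SetLike.not_le_iff_exists.mp hAK
    have hPK : P ≤ Cfsg.pCore p X := le_pCore P hPp
    have hOn : (omegaCenter (Cfsg.pCore p X) p).Normal := omegaCenter_normal _ p
    set V := P ⊓ omegaCenter (Cfsg.pCore p X) p with hV
    have hVn : V.Normal := inferInstance
    have hV1 : V ≠ ⊥ := inf_omegaCenter_ne_bot (Cfsg.pCore p X) P hKp hPK hP1
    apply hV1
    obtain ⟨i, hi⟩ := hAp ⟨u, huA⟩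
    have hi' : u ^ (p ^ i) = 1 := by
      have := congrArg Subtype.val hi
      rwa [Subgroup.coe_pow, Subgroup.coe_one] at this
    refine Cfsg.Agent.Helper45.NQ.nonquadratic hpF.out hp2 (Cfsg.pCore p X) A₀ V hKAn hAcop hA1
      hfpf hfrob ?_ ?_ ?_ u (i := i) hi' huK ?_
    · exact inf_le_right.trans (fun x hx => (mem_omegaCenter.mp hx).1)
    · intro k hk v hv
      exact ((mem_omegaCenter.mp (Subgroup.mem_inf.mp hv).2).2.1 k hk).symm
    · intro v hv
      exact (mem_omegaCenter.mp (Subgroup.mem_inf.mp hv).2).2.2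
    · intro v hv
      have h1 : ⁅v, u⁆ ∈ ⁅P, A⁆ :=
        Subgroup.commutator_mem_commutator (Subgroup.mem_inf.mp hv).1 huA
      have h2 : ⁅⁅v, u⁆, u⁆ ∈ ⁅⁅P, A⁆, A⁆ := Subgroup.commutator_mem_commutator h1 huA
      rw [hquad, Subgroup.mem_bot] at h2
      exact h2

end Cfsg.Agent.Helper45.CNL
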