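import Mathlib
import Cfsg.Prelude.Def_OddOrderLocal
import Cfsg.Prelude.Def_LieExceptional
import Cfsg.Agent.Lib.Helper45.CNLocal

/-!
# Minimal simple CN-groups of odd order: basic facts (helper45)
-/

set_option autoImplicit false

namespace Cfsg.Agent.Helper45.CNSimple

open Cfsg.Agent.Helper45.CN Cfsg.Agent.Helper45.FH Cfsg.Agent.Helper45.Nilp
open Cfsg.Agent.Helper45.CNS Cfsg.Agent.Helper45.TS Cfsg.Agent.Helper45.CNL Cfsg.Agent.Helper70
open scoped commutatorElement

universe u

variable {G : Type u} [Group G] [Finite G]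

omit [Finite G] in
theorem not_solvable (hG : Cfsg.IsMinSimpleOddOrder G) : ¬ Group.IsSolvable G := by
  intro h
  have := hG.2.1
  exact hG.2.2.1 ⟨⟨IsSimpleGroup.comm_iff_isSolvable.mpr h⟩⟩

theorem not_isPGroup (hG : Cfsg.IsMinSimpleOddOrder G) (p : ℕ) [Fact p.Prime] :
    ¬ IsPGroup p G := by
  intro h
  have : Group.IsNilpotent G := h.isNilpotent
  exact not_solvable hG inferInstance

omit [Finite G] in
theorem normal_eq_bot_or_top (hG : Cfsg.IsMinSimpleOddOrder G) (N : Subgroup G) (hN : N.Normal) :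
    N = ⊥ ∨ N = ⊤ := by
  have := hG.2.1
  exact hN.eq_bot_or_eq_top

theorem normalizer_ne_top (hG : Cfsg.IsMinSimpleOddOrder G) {p : ℕ} [Fact p.Prime]
    {Q : Subgroup G} (hQ : IsPGroup p Q) (hQ1 : Q ≠ ⊥) :
    Subgroup.normalizer (Q : Set G) ≠ ⊤ := by
  intro h
  have hn : Q.Normal := Subgroup.normalizer_eq_top_iff.mp h
  rcases normal_eq_bot_or_top hG Q hn with h1 | h1
  · exact hQ1 h1
  · apply not_isPGroup hG p
    rw [h1] at hQ
    intro g
    obtain ⟨k, hk⟩ := hQ ⟨g, Subgroup.mem_top g⟩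
    exact ⟨k, by simpa using congrArg Subtype.val hk⟩

omit [Finite G] in
theorem commutator_eq_top (hG : Cfsg.IsMinSimpleOddOrder G) : commutator G = ⊤ := by
  rcases normal_eq_bot_or_top hG (commutator G) inferInstance with h | h
  · exfalso
    apply hG.2.2.1
    refine ⟨⟨fun a b => ?_⟩⟩
    have h1 : ⁅a, b⁆ ∈ commutator G := by
      rw [commutator_def]
      exact Subgroup.commutator_mem_commutator (Subgroup.mem_top a) (Subgroup.mem_top b)
    rw [h, Subgroup.mem_bot] at h1
    exact (commutatorElement_eq_one_iff_commute.mp h1).eq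
  · exact h

omit [Finite G] in
theorem solvable_of_ne_top (hG : Cfsg.IsMinSimpleOddOrder G) {H : Subgroup G} (h : H ≠ ⊤) :
    Group.IsSolvable H := hG.2.2.2 H h

omit [Finite G] in
theorem odd_card_subgroup (hG : Cfsg.IsMinSimpleOddOrder G) (H : Subgroup G) :
    Odd (Nat.card H) := Odd.of_dvd_nat hG.1 (Subgroup.card_subgroup_dvd_card H)

end Cfsg.Agent.Helper45.CNSimple
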