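import Mathlib
import Cfsg.Prelude.Def_Amalgam

set_option autoImplicit false

namespace Cfsg.Agent.Helper45

open Cfsg

variable {X : Type*} [Group X] (M₁ M₂ : Subgroup X)

theorem smul_inl (g : X) (q : X ⧸ M₁) :
    g • (Sum.inl q : CosetVertex M₁ M₂) = Sum.inl (g • q) := rfl

theorem smul_inr (g : X) (q : X ⧸ M₂) :
    g • (Sum.inr q : CosetVertex M₁ M₂) = Sum.inr (g • q) := rfl

theorem adj_iff (a b : CosetVertex M₁ M₂) :
    (cosetGraph M₁ M₂).Adj a b ↔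
      ∃ x : X, (a = Sum.inl (x : X ⧸ M₁) ∧ b = Sum.inr (x : X ⧸ M₂)) ∨
        (a = Sum.inr (x : X ⧸ M₂) ∧ b = Sum.inl (x : X ⧸ M₁)) := by
  unfold cosetGraph
  rw [SimpleGraph.fromRel_adj]
  constructor
  · rintro ⟨_, ⟨x, h1, h2⟩ | ⟨x, h1, h2⟩⟩
    · exact ⟨x, Or.inl ⟨h1, h2⟩⟩
    · exact ⟨x, Or.inr ⟨h2, h1⟩⟩
  · rintro ⟨x, ⟨h1, h2⟩ | ⟨h1, h2⟩⟩
    · refine ⟨?_, Or.inl ⟨x, h1, h2⟩⟩
      rw [h1, h2]; exact Sum.inl_ne_inr
    · refine ⟨?_, Or.inr ⟨x, h2, h1⟩⟩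
      rw [h1, h2]; exact Sum.inr_ne_inl

theorem adj_inl_inr (x : X) :
    (cosetGraph M₁ M₂).Adj (Sum.inl (x : X ⧸ M₁)) (Sum.inr (x : X ⧸ M₂)) :=
  (adj_iff M₁ M₂ _ _).2 ⟨x, Or.inl ⟨rfl, rfl⟩⟩

theorem adj_smul {a b : CosetVertex M₁ M₂} (g : X) (h : (cosetGraph M₁ M₂).Adj a b) :
    (cosetGraph M₁ M₂).Adj (g • a) (g • b) := by
  rw [adj_iff] at h ⊢
  obtain ⟨x, ⟨h1, h2⟩ | ⟨h1, h2⟩⟩ := h
  · refine ⟨g * x, Or.inl ⟨?_, ?_⟩⟩
    · rw [h1]; rfl
    · rw [h2]; rfl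
  · refine ⟨g * x, Or.inr ⟨?_, ?_⟩⟩
    · rw [h1]; rfl
    · rw [h2]; rfl

theorem stab_inl (x : X) :
    MulAction.stabilizer X (Sum.inl (x : X ⧸ M₁) : CosetVertex M₁ M₂) =
      M₁.map (MulAut.conj x).toMonoidHom := by
  have h1 : MulAction.stabilizer X (Sum.inl (x : X ⧸ M₁) : CosetVertex M₁ M₂)
      = MulAction.stabilizer X (x : X ⧸ M₁) := by
    ext g
    simp only [MulAction.mem_stabilizer_iff]
    constructor
    · intro h
      have : (Sum.inl (g • (x : X ⧸ M₁)) : CosetVertex M₁ M₂) = Sum.inl (x : X ⧸ M₁) := h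
      exact Sum.inl_injective this
    · intro h
      show (Sum.inl (g • (x : X ⧸ M₁)) : CosetVertex M₁ M₂) = Sum.inl (x : X ⧸ M₁)
      rw [h]
  rw [h1]
  have h2 : (x : X ⧸ M₁) = x • ((1 : X) : X ⧸ M₁) := by
    rw [MulAction.Quotient.smul_mk, smul_eq_mul, mul_one]
  rw [h2, MulAction.stabilizer_smul_eq_stabilizer_map_conj, MulAction.stabilizer_quotient]

theorem stab_inr (x : X) :
    MulAction.stabilizer X (Sum.inr (x : X ⧸ M₂) : CosetVertex M₁ M₂) =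
      M₂.map (MulAut.conj x).toMonoidHom := by
  have h1 : MulAction.stabilizer X (Sum.inr (x : X ⧸ M₂) : CosetVertex M₁ M₂)
      = MulAction.stabilizer X (x : X ⧸ M₂) := by
    ext g
    simp only [MulAction.mem_stabilizer_iff]
    constructor
    · intro h
      have : (Sum.inr (g • (x : X ⧸ M₂)) : CosetVertex M₁ M₂) = Sum.inr (x : X ⧸ M₂) := h
      exact Sum.inr_injective this
    · intro h
      show (Sum.inr (g • (x : X ⧸ M₂)) : CosetVertex M₁ M₂) = Sum.inr (x : X ⧸ M₂)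
      rw [h]
  rw [h1]
  have h2 : (x : X ⧸ M₂) = x • ((1 : X) : X ⧸ M₂) := by
    rw [MulAction.Quotient.smul_mk, smul_eq_mul, mul_one]
  rw [h2, MulAction.stabilizer_smul_eq_stabilizer_map_conj, MulAction.stabilizer_quotient]

/-- Stabilizer transitive on neighbours. -/
theorem neighbours_transitive (δ μ μ' : CosetVertex M₁ M₂)
    (hμ : (cosetGraph M₁ M₂).Adj δ μ) (hμ' : (cosetGraph M₁ M₂).Adj δ μ') :
    ∃ g ∈ MulAction.stabilizer X δ, g • μ = μ' := by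
  rw [adj_iff] at hμ hμ'
  obtain ⟨x, ⟨h1, h2⟩ | ⟨h1, h2⟩⟩ := hμ
  · obtain ⟨y, ⟨h3, h4⟩ | ⟨h3, h4⟩⟩ := hμ'
    · refine ⟨y * x⁻¹, ?_, ?_⟩
      · rw [MulAction.mem_stabilizer_iff, h1]
        show (Sum.inl (((y * x⁻¹ * x : X) : X ⧸ M₁)) : CosetVertex M₁ M₂) = _
        rw [inv_mul_cancel_right, ← h3, h1]
      · rw [h2, h4]
        show (Sum.inr (((y * x⁻¹ * x : X) : X ⧸ M₂)) : CosetVertex M₁ M₂) = _
        rw [inv_mul_cancel_right]
    · rw [h1] at h3; exact absurd h3 Sum.inl_ne_inr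
  · obtain ⟨y, ⟨h3, h4⟩ | ⟨h3, h4⟩⟩ := hμ'
    · rw [h1] at h3; exact absurd h3 Sum.inr_ne_inl
    · refine ⟨y * x⁻¹, ?_, ?_⟩
      · rw [MulAction.mem_stabilizer_iff, h1]
        show (Sum.inr (((y * x⁻¹ * x : X) : X ⧸ M₂)) : CosetVertex M₁ M₂) = _
        rw [inv_mul_cancel_right, ← h3, h1]
      · rw [h2, h4]
        show (Sum.inl (((y * x⁻¹ * x : X) : X ⧸ M₁)) : CosetVertex M₁ M₂) = _
        rw [inv_mul_cancel_right]

theorem reachable_inl_of_mem (hgen : M₁ ⊔ M₂ = ⊤) (x : X) :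
    (cosetGraph M₁ M₂).Reachable (Sum.inl ((1 : X) : X ⧸ M₁)) (Sum.inl (x : X ⧸ M₁)) := by
  have hx : x ∈ Subgroup.closure ((M₁ : Set X) ∪ (M₂ : Set X)) := by
    rw [Subgroup.closure_union, Subgroup.closure_eq, Subgroup.closure_eq, hgen]
    exact Subgroup.mem_top x
  induction hx using Subgroup.closure_induction_right with
  | one => exact SimpleGraph.Reachable.refl _
  | mul_right x _ y hy ih =>
    rcases hy with hy | hy
    · have : ((x * y : X) : X ⧸ M₁) = (x : X ⧸ M₁) := by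
        rw [QuotientGroup.eq]; simpa using M₁.inv_mem hy
      rw [this]; exact ih
    · have e : ((x * y : X) : X ⧸ M₂) = (x : X ⧸ M₂) := by
        rw [QuotientGroup.eq]; simpa using M₂.inv_mem hy
      have a1 := adj_inl_inr M₁ M₂ x
      have a2 := adj_inl_inr M₁ M₂ (x * y)
      rw [e] at a2
      exact ih.trans (a1.reachable.trans a2.symm.reachable)
  | mul_inv_cancel x _ y hy ih =>
    rcases hy with hy | hy
    · have : ((x * y⁻¹ : X) : X ⧸ M₁) = (x : X ⧸ M₁) := by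
        rw [QuotientGroup.eq]; simpa using hy
      rw [this]; exact ih
    · have e : ((x * y⁻¹ : X) : X ⧸ M₂) = (x : X ⧸ M₂) := by
        rw [QuotientGroup.eq]; simpa using hy
      have a1 := adj_inl_inr M₁ M₂ x
      have a2 := adj_inl_inr M₁ M₂ (x * y⁻¹)
      rw [e] at a2
      exact ih.trans (a1.reachable.trans a2.symm.reachable)

theorem connected (hgen : M₁ ⊔ M₂ = ⊤) : (cosetGraph M₁ M₂).Connected := by
  have : Nonempty (CosetVertex M₁ M₂) := ⟨Sum.inl ((1 : X) : X ⧸ M₁)⟩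
  rw [SimpleGraph.connected_iff_exists_forall_reachable]
  refine ⟨Sum.inl ((1 : X) : X ⧸ M₁), ?_⟩
  rintro (q | q)
  · obtain ⟨x, rfl⟩ := QuotientGroup.mk_surjective q
    exact reachable_inl_of_mem M₁ M₂ hgen x
  · obtain ⟨x, rfl⟩ := QuotientGroup.mk_surjective q
    exact (reachable_inl_of_mem M₁ M₂ hgen x).trans (adj_inl_inr M₁ M₂ x).reachable

/-- A subgroup fixing every vertex, under the faithful hypothesis, is trivial. -/
theorem eq_bot_of_fixes_all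
    (h : ∀ N : Subgroup X, N ≤ M₁ ⊓ M₂ → N.Normal → N = ⊥) (T : Subgroup X)
    (hT : ∀ v : CosetVertex M₁ M₂, T ≤ MulAction.stabilizer X v) : T = ⊥ := by
  have hker : (MulAction.toPermHom X (CosetVertex M₁ M₂)).ker = ⊥ := by
    apply h
    · intro g hg
      rw [MonoidHom.mem_ker] at hg
      have h1 : g • (Sum.inl ((1 : X) : X ⧸ M₁) : CosetVertex M₁ M₂) = Sum.inl ((1 : X) : X ⧸ M₁) := by
        have := congrArg (fun f => f (Sum.inl ((1 : X) : X ⧸ M₁) : CosetVertex M₁ M₂)) hg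
        simpa using this
      have h2 : g • (Sum.inr ((1 : X) : X ⧸ M₂) : CosetVertex M₁ M₂) = Sum.inr ((1 : X) : X ⧸ M₂) := by
        have := congrArg (fun f => f (Sum.inr ((1 : X) : X ⧸ M₂) : CosetVertex M₁ M₂)) hg
        simpa using this
      have h1' : g ∈ MulAction.stabilizer X (Sum.inl ((1 : X) : X ⧸ M₁) : CosetVertex M₁ M₂) := h1
      have h2' : g ∈ MulAction.stabilizer X (Sum.inr ((1 : X) : X ⧸ M₂) : CosetVertex M₁ M₂) := h2
      rw [stab_inl] at h1'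
      rw [stab_inr] at h2'
      simp at h1' h2'
      exact ⟨h1', h2'⟩
    · infer_instance
  rw [eq_bot_iff]
  intro t ht
  have : t ∈ (MulAction.toPermHom X (CosetVertex M₁ M₂)).ker := by
    rw [MonoidHom.mem_ker]
    ext v
    have := hT v ht
    simpa using this
  rw [hker] at this
  exact this

theorem faithful (h : ∀ N : Subgroup X, N ≤ M₁ ⊓ M₂ → N.Normal → N = ⊥) :
    Function.Injective (MulAction.toPermHom X (CosetVertex M₁ M₂)) := by
  rw [← MonoidHom.ker_eq_bot_iff]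
  apply eq_bot_of_fixes_all M₁ M₂ h
  intro v g hg
  rw [MonoidHom.mem_ker] at hg
  rw [MulAction.mem_stabilizer_iff]
  have := congrArg (fun f => f v) hg
  simpa using this

end Cfsg.Agent.Helper45
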