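import Mathlib
import Cfsg.Prelude.Def_OddOrderLocal

/-!
# General tools for the Bender-Glauberman chain (helper45)

Conjugating `p`-subgroups into subgroups of `p'`-index, orders of products, etc.
-/

set_option autoImplicit false

namespace Cfsg.Agent.Helper45.BGTools

open Subgroup

variable {G : Type*} [Group G]

/-- shorthand for conjugation of subgroups as used in the frozen statements -/
abbrev cjm (g : G) (X : Subgroup G) : Subgroup G := X.map (MulAut.conj g).toMonoidHom

theorem mem_cjm {g x : G} {X : Subgroup G} : x ∈ cjm g X ↔ g⁻¹ * x * g ∈ X := by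
  constructor
  · rintro ⟨y, hy, rfl⟩
    have : g⁻¹ * ((MulAut.conj g).toMonoidHom y) * g = y := by
      simp [MulAut.conj_apply, mul_assoc]
    rw [this]; exact hy
  · intro h
    refine ⟨g⁻¹ * x * g, h, ?_⟩
    simp [MulAut.conj_apply, mul_assoc]

theorem conj_mem_cjm {g x : G} {X : Subgroup G} (hx : x ∈ X) : g * x * g⁻¹ ∈ cjm g X :=
  ⟨x, hx, by simp [MulAut.conj_apply]⟩

theorem cjm_eq_self_of_mem {M : Subgroup G} {g : G} (hg : g ∈ M) : cjm g M = M := by
  ext x
  rw [mem_cjm]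
  constructor
  · intro h
    have : x = g * (g⁻¹ * x * g) * g⁻¹ := by group
    rw [this]
    exact M.mul_mem (M.mul_mem hg h) (M.inv_mem hg)
  · intro h
    exact M.mul_mem (M.mul_mem (M.inv_mem hg) h) hg

theorem card_cjm [Finite G] (g : G) (X : Subgroup G) : Nat.card (cjm g X) = Nat.card X :=
  Subgroup.card_map_of_injective (MulAut.conj g).injective

/-- A subgroup of index prime to `p` contains a Sylow `p`-subgroup. -/
theorem exists_sylow_le_of_not_dvd_index [Finite G] {p : ℕ} [hp : Fact p.Prime]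
    (H : Subgroup G) (hpi : ¬ p ∣ H.index) : ∃ P : Sylow p G, (P : Subgroup G) ≤ H := by
  obtain ⟨P₀⟩ : Nonempty (Sylow p H) := inferInstance
  have hcard : Nat.card ((P₀ : Subgroup H).map H.subtype) = p ^ (Nat.card G).factorization p := by
    rw [Subgroup.card_map_of_injective H.subtype_injective, P₀.card_eq_multiplicity]
    congr 1
    rw [← H.card_mul_index, Nat.factorization_mul Nat.card_pos.ne' (Subgroup.index_ne_zero_of_finite),
      Finsupp.add_apply, Nat.factorization_eq_zero_of_not_dvd hpi, add_zero]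
  exact ⟨Sylow.ofCard _ hcard, Subgroup.map_subtype_le _⟩

/-- A `p`-subgroup `X` of `M` is `M`-conjugate into any `K ≤ M` with `|M : K|` prime to `p`. -/
theorem exists_conj_le [Finite G] {p : ℕ} [Fact p.Prime] {M K X : Subgroup G}
    (hidx : ¬ p ∣ K.relIndex M) (hXM : X ≤ M) (hX : IsPGroup p X) :
    ∃ m ∈ M, cjm m X ≤ K := by
  -- work in the group `M`
  obtain ⟨P, hP⟩ := exists_sylow_le_of_not_dvd_index (K.subgroupOf M) hidx
  have hX' : IsPGroup p (X.subgroupOf M) := hX.comap_subtype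
  obtain ⟨Q, hQ⟩ := hX'.exists_le_sylow
  obtain ⟨g, hg⟩ := MulAction.exists_smul_eq M Q P
  refine ⟨g.1, g.2, ?_⟩
  intro y hy
  rw [mem_cjm] at hy
  have hyM : g.1⁻¹ * y * g.1 ∈ M := hXM hy
  have hyM' : y ∈ M := by
    have : y = g.1 * (g.1⁻¹ * y * g.1) * g.1⁻¹ := by group
    rw [this]
    exact M.mul_mem (M.mul_mem g.2 hyM) (M.inv_mem g.2)
  -- element of `M`
  have h1 : (⟨g.1⁻¹ * y * g.1, hyM⟩ : M) ∈ (Q : Subgroup M) := hQ (by
    show (⟨g.1⁻¹ * y * g.1, hyM⟩ : M) ∈ X.subgroupOf M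
    rw [Subgroup.mem_subgroupOf]; exact hy)
  have h2 : (⟨y, hyM'⟩ : M) ∈ (P : Subgroup M) := by
    rw [← hg, Sylow.coe_subgroup_smul, Subgroup.mem_pointwise_smul_iff_inv_smul_mem]
    have : (MulAut.conj g)⁻¹ • (⟨y, hyM'⟩ : M) = ⟨g.1⁻¹ * y * g.1, hyM⟩ := by
      apply Subtype.ext
      simp [MulAut.smul_def, MulAut.conj_symm_apply]
    rw [this]; exact h1
  have h3 := hP h2
  rw [Subgroup.mem_subgroupOf] at h3
  exact h3

/-- element form -/
theorem exists_conj_mem [Finite G] {p : ℕ} [Fact p.Prime] {M K : Subgroup G}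
    (hidx : ¬ p ∣ K.relIndex M) {k : G} (hkM : k ∈ M) (hk : IsPGroup p (zpowers k)) :
    ∃ m ∈ M, m * k * m⁻¹ ∈ K := by
  obtain ⟨m, hm, h⟩ := exists_conj_le (X := zpowers k) hidx
    ((zpowers_le).mpr hkM) hk
  exact ⟨m, hm, h (conj_mem_cjm (mem_zpowers k))⟩

/-- the order of `H ⊔ N` divides `|H| |N|` when `H` and `N` commute elementwise -/
theorem card_sup_dvd_mul [Finite G] {H N : Subgroup G} (hHN : ∀ a ∈ H, ∀ b ∈ N, a * b = b * a) :
    Nat.card (H ⊔ N : Subgroup G) ∣ Nat.card H * Nat.card N := by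
  have hc : ∀ (m : H) (n : N), Commute (H.subtype m) (N.subtype n) :=
    fun a b => hHN a.1 a.2 b.1 b.2
  have hr : (MonoidHom.noncommCoprod H.subtype N.subtype hc).range = H ⊔ N := by
    rw [MonoidHom.noncommCoprod_range, Subgroup.range_subtype, Subgroup.range_subtype]
  rw [← hr, ← Nat.card_prod]
  exact Subgroup.card_range_dvd _

end Cfsg.Agent.Helper45.BGTools
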