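import Mathlib
import Cfsg.Prelude.Def_OddOrderLocal
import Cfsg.Agent.Lib.Helper45.BGTools
import Cfsg.Agent.Lib.Helper55.BGHall
import Cfsg.Agent.Lib.Helper55.BGBasic
import Cfsg.Agent.Lib.Helper55.BGFit
import Cfsg.Agent.Lib.Helper55.BGDecomp
import Cfsg.Agent.Lib.Helper69.PiParts
import Cfsg.Agent.Lib.Helper52.CoprimeHall
import Cfsg.Agent.Lib.Helper34.BG10d
import Cfsg.Agent.Lib.Helper23.FittingHall

/-!
# Bender-Glauberman Lemma 14.3 (helper45), parametrised by the earlier results it uses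
-/

set_option autoImplicit false
set_option linter.style.haveILetI false
set_option linter.unusedSectionVars false

namespace Cfsg.Agent.Helper45.BG143

open Subgroup Cfsg Cfsg.Agent.Helper45.BGTools

variable {G : Type*} [Group G] [Finite G]

/-! ### generalities -/

/-- Hall subgroups exist in solvable subgroups. -/
theorem exists_hall (π : Set ℕ) (M : Subgroup G) (hs : Group.IsSolvable M) :
    ∃ K : Subgroup G, Cfsg.IsPiHallOf π K M := by
  classical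
  have hM0 : Nat.card M ≠ 0 := Nat.card_pos.ne'
  have hmn := Cfsg.Agent.Helper69.piNat_mul_compl π hM0
  obtain ⟨Q, hQM, hQc⟩ := Cfsg.Agent.Helper52.hall_exists_internal M hs
    (Cfsg.Agent.Helper69.piNat π (Nat.card M)) (Cfsg.Agent.Helper69.piNat πᶜ (Nat.card M))
    hmn.symm (Cfsg.Agent.Helper69.piNat_coprime π _)
  refine ⟨Q, hQM, ?_, ?_⟩
  · intro p hp hpQ
    rw [hQc] at hpQ
    exact Cfsg.Agent.Helper69.prime_mem_of_dvd_piNat π _ p hp hpQ
  · intro p hp hpπ hdvd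
    have h1 : Nat.card Q * Q.relIndex M = Nat.card M := by
      exact Cfsg.Agent.Helper55.BGB.card_mul_relIndex hQM
    have h2 : Q.relIndex M = Cfsg.Agent.Helper69.piNat πᶜ (Nat.card M) := by
      have hQ0 : Nat.card Q ≠ 0 := Nat.card_pos.ne'
      have : Nat.card Q * Q.relIndex M = Nat.card Q * Cfsg.Agent.Helper69.piNat πᶜ (Nat.card M) := by
        rw [h1, hQc, hmn]
      exact Nat.eq_of_mul_eq_mul_left (Nat.pos_of_ne_zero hQ0) this
    rw [h2] at hdvd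
    exact Cfsg.Agent.Helper69.prime_mem_of_dvd_piNat πᶜ _ p hp hdvd hpπ

/-- an elementary abelian subgroup of order `r ^ 2` in `L` witnesses `¬ PRankLE r 1 L` -/
theorem not_pRankLE_one_of_elemAb {r : ℕ} (hr : r.Prime) {L A : Subgroup G} (hAL : A ≤ L)
    (hAe : Cfsg.IsElementaryAbelian r A) (hAc : Nat.card A = r ^ 2) : ¬ Cfsg.PRankLE r 1 L := by
  intro h
  have h1 := h (A.subgroupOf L) ?_ ?_
  · have hc : Nat.card (A.subgroupOf L) = Nat.card A :=
      Nat.card_congr (Subgroup.subgroupOfEquivOfLe hAL).toEquiv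
    rw [hc, hAc, pow_one] at h1
    have : r < r ^ 2 := by
      have := hr.one_lt
      nlinarith
    omega
  · refine ⟨⟨?_⟩⟩
    rintro ⟨a, ha⟩ ⟨b, hb⟩
    apply Subtype.ext
    apply Subtype.ext
    have hab := hAe.1.is_comm.comm (⟨a.1, ha⟩ : A) ⟨b.1, hb⟩
    have h2 : a.1 * b.1 = b.1 * a.1 := congrArg Subtype.val hab
    simpa using h2
  · intro a ha
    apply Subtype.ext
    have := hAe.2 a.1 ha
    simpa using this

/-- A prime in `κ(M)` has `p`-rank at most one in `M`. -/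
theorem pRankLE_one_of_kappa {M : Subgroup G} {p : ℕ} (hpκ : p ∈ Cfsg.kappa M) :
    Cfsg.PRankLE p 1 M := by
  obtain ⟨hp, hpM, hpσ, hcyc⟩ := hpκ
  haveI : Fact p.Prime := ⟨hp⟩
  intro A hAc hAp
  -- `A` is a `p`-group, so lies in a (cyclic) Sylow subgroup
  have hA : IsPGroup p A := by
    intro a
    refine ⟨1, ?_⟩
    rw [pow_one]
    apply Subtype.ext
    have := hAp a.1 a.2
    simpa using this
  obtain ⟨P, hP⟩ := hA.exists_le_sylow
  haveI hPc : IsCyclic (P : Subgroup M) := (hcyc P).1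
  -- the subgroup `A' = A` inside `P` is cyclic
  haveI : IsCyclic A := by
    have : IsCyclic (A.subgroupOf (P : Subgroup M)) := Subgroup.isCyclic _
    exact isCyclic_of_surjective (Subgroup.subgroupOfEquivOfLe hP).toMonoidHom
      (Subgroup.subgroupOfEquivOfLe hP).surjective
  obtain ⟨g, hg⟩ := IsCyclic.exists_generator (α := A)
  have hcard : Nat.card A = orderOf g := by
    rw [← Nat.card_zpowers]
    have : zpowers g = ⊤ := (Subgroup.eq_top_iff' _).mpr hg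
    rw [this, Subgroup.card_top]
  rw [hcard, pow_one]
  have hgp : g ^ p = 1 := by
    apply Subtype.ext
    have := hAp g.1 g.2
    simpa using this
  exact Nat.le_of_dvd hp.pos (orderOf_dvd_of_pow_eq_one hgp)

/-- For `r ∈ τ₂(M)` and a complement `E` of `M_σ`, `E` contains an elementary abelian subgroup of
order `r ^ 2`. -/
theorem exists_elemAb_in_compl {M E : Subgroup G} {r : ℕ} (hr : r ∈ Cfsg.tau2 M)
    (hE : Cfsg.IsComplIn E (Cfsg.sigmaCore M) M) :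
    ∃ A : Subgroup G, A ≤ E ∧ Cfsg.IsElementaryAbelian r A ∧ Nat.card A = r ^ 2 := by
  obtain ⟨hrp, hrσ, hr2, hr1⟩ := hr
  haveI : Fact r.Prime := ⟨hrp⟩
  unfold Cfsg.PRankLE at hr1
  push Not at hr1
  obtain ⟨B, hBc, hBp, hBcard⟩ := hr1
  rw [pow_one] at hBcard
  -- `B` is an `r`-group of order `> r`, hence has a subgroup of order `r ^ 2`
  have hB : IsPGroup r B := by
    intro a
    refine ⟨1, ?_⟩
    rw [pow_one]
    apply Subtype.ext
    have := hBp a.1 a.2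
    simpa using this
  obtain ⟨n, hn⟩ := hB.exists_card_eq
  have hn2 : 2 ≤ n := by
    by_contra hlt
    have hn1 : n ≤ 1 := by omega
    have : r ^ n ≤ r ^ 1 := Nat.pow_le_pow_right hrp.pos hn1
    rw [pow_one, ← hn] at this
    omega
  have hdvd : r ^ 2 ∣ Nat.card B := by
    rw [hn]; exact pow_dvd_pow r hn2
  obtain ⟨B₂, hB₂⟩ := Sylow.exists_subgroup_card_pow_prime r hdvd
  -- the image in `G`
  set A' : Subgroup G := (B₂.map B.subtype).map M.subtype with hA'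
  have hA'M : A' ≤ M := Subgroup.map_subtype_le _
  have hA'card : Nat.card A' = r ^ 2 := by
    rw [hA', Subgroup.card_map_of_injective M.subtype_injective,
      Subgroup.card_map_of_injective B.subtype_injective, hB₂]
  have hA'mem : ∀ a ∈ A', ∃ b : B, (b : M).1 = a := by
    rintro a ⟨m, ⟨b, hb, rfl⟩, rfl⟩
    exact ⟨b, rfl⟩
  have hA'e : Cfsg.IsElementaryAbelian r A' := by
    refine ⟨⟨⟨?_⟩⟩, ?_⟩
    · rintro ⟨a, ha⟩ ⟨b, hb⟩
      obtain ⟨a', rfl⟩ := hA'mem a ha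
      obtain ⟨b', rfl⟩ := hA'mem b hb
      apply Subtype.ext
      have := hBc.is_comm.comm a' b'
      have h2 := congrArg (fun z : B => ((z : M) : G)) this
      simpa using h2
    · intro a ha
      obtain ⟨a', rfl⟩ := hA'mem a ha
      have := hBp a'.1 a'.2
      have h2 := congrArg (fun z : M => (z : G)) this
      simpa using h2
  -- conjugate into `E`
  have hcardM := Cfsg.Agent.Helper23.card_of_isComplIn hE
  have hidx : ¬ r ∣ E.relIndex M := by
    have h1 := Cfsg.Agent.Helper55.BGB.card_mul_relIndex hE.1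
    have h2 : E.relIndex M = Nat.card (Cfsg.sigmaCore M) := by
      have hE0 : 0 < Nat.card E := Nat.card_pos
      have : Nat.card E * E.relIndex M = Nat.card E * Nat.card (Cfsg.sigmaCore M) := by
        rw [h1, hcardM]
      exact Nat.eq_of_mul_eq_mul_left hE0 this
    rw [h2]
    intro hdvd
    exact hrσ (Cfsg.Agent.Helper55.BGB.isPi_sigmaCore M r hrp hdvd)
  obtain ⟨m, hm, hmA⟩ := exists_conj_le hidx hA'M (IsPGroup.of_card hA'card)
  refine ⟨cjm m A', hmA, ?_, ?_⟩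
  · refine ⟨⟨⟨?_⟩⟩, ?_⟩
    · rintro ⟨a, ha⟩ ⟨b, hb⟩
      apply Subtype.ext
      obtain ⟨a', ha', rfl⟩ := ha
      obtain ⟨b', hb', rfl⟩ := hb
      have := hA'e.1.is_comm.comm ⟨a', ha'⟩ ⟨b', hb'⟩
      have h2 : a' * b' = b' * a' := congrArg Subtype.val this
      show (MulAut.conj m).toMonoidHom a' * (MulAut.conj m).toMonoidHom b' =
        (MulAut.conj m).toMonoidHom b' * (MulAut.conj m).toMonoidHom a'
      rw [← map_mul, ← map_mul, h2]
    · rintro a ⟨a', ha', rfl⟩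
      rw [← map_pow, hA'e.2 a' ha', map_one]
  · rw [card_cjm, hA'card]

/-! ### the hypotheses (earlier rows of the chain) -/

/-- S1350 (first clause) -/
def HHall (G : Type*) [Group G] : Prop :=
  ∀ L : Subgroup G, IsCoatom L → Cfsg.IsPiHallOf (Cfsg.sigma L) (Cfsg.sigmaCore L) L

/-- S1405 (clauses 1 and 3) -/
def HAlpha (G : Type*) [Group G] : Prop :=
  ∀ L : Subgroup G, IsCoatom L →
    Cfsg.IsPiHallOf (Cfsg.alpha L) (Cfsg.alphaCore L) L ∧ Cfsg.alphaCore L ≤ Cfsg.sigmaCore L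

/-- S1417 (e) -/
def H17e (G : Type*) [Group G] : Prop :=
  ∀ L : Subgroup G, IsCoatom L → ∀ (r : ℕ) [Fact r.Prime], r ∈ Cfsg.tau2 L → ∀ A : Subgroup G,
    (A ≤ L ∧ Cfsg.IsElementaryAbelian r A ∧ Nat.card A = r ^ 2) →
    ∀ Mstar : Subgroup G, IsCoatom Mstar → Mstar ≠ L → A ≤ Mstar → Cfsg.sigmaCore L ⊓ Mstar = ⊥

/-- S1418 (parts) -/
def H18 (G : Type*) [Group G] : Prop :=
  ∀ L : Subgroup G, IsCoatom L → ∀ E : Subgroup G, Cfsg.IsComplIn E (Cfsg.sigmaCore L) L →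
    ∀ (r : ℕ) [Fact r.Prime], r ∈ Cfsg.tau2 L → ∀ A : Subgroup G,
    (A ≤ E ∧ Cfsg.IsElementaryAbelian r A ∧ Nat.card A = r ^ 2) →
    E ≤ normalizer (A : Set G) ∧ ¬ normalizer (A : Set G) ≤ L

/-- S1420 (d) -/
def H20d (G : Type*) [Group G] : Prop :=
  ∀ L : Subgroup G, IsCoatom L → ∀ x ∈ L, x ≠ 1 →
    (∀ p : ℕ, p.Prime → p ∣ orderOf x → p ∈ Cfsg.tau2 L) → x ∈ Cfsg.sigmaHat L →
    centralizer ({x} : Set G) ≤ L ∧
      ∀ L' : Subgroup G, IsCoatom L' → centralizer ({x} : Set G) ≤ L' → L' = L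

/-- S1430 (a), (c first part) -/
def H30 (G : Type*) [Group G] : Prop :=
  ∀ L K : Subgroup G, IsCoatom L → Cfsg.IsPiHallOf (Cfsg.kappa L) K L → K ≠ ⊥ →
    (∀ k ∈ K, k ≠ 1 → Cfsg.sigmaCore L ⊓ centralizer ({k} : Set G) =
        Cfsg.sigmaCore L ⊓ centralizer (K : Set G)) ∧
    (∀ X : Subgroup G, X ≤ K → (Nat.card X).Prime →
      L ⊓ normalizer (X : Set G) = K ⊔ (Cfsg.sigmaCore L ⊓ centralizer (K : Set G)))

/-- S1431 (a) -/
def H31a (G : Type*) [Group G] : Prop :=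
  ∀ L K : Subgroup G, IsCoatom L → Cfsg.IsPiHallOf (Cfsg.kappa L) K L → K ≠ ⊥ →
    ∀ g : G, g ∉ L → (Cfsg.sigmaCore L ⊓ centralizer (K : Set G)) ⊓ cjm g L = ⊥

/-! ### Step 1: the primes of a `σ(M)'`-element of `C_M(x)` are in `κ(M) ∪ τ₂(M)` -/

theorem odd_prime_of_dvd (hG : Cfsg.IsMinSimpleOddOrder G) {M : Subgroup G} {p : ℕ}
    (hpM : p ∣ Nat.card M) : p ≠ 2 := by
  rintro rfl
  have h1 : 2 ∣ Nat.card G := hpM.trans (Subgroup.card_subgroup_dvd_card M)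
  have h2 := hG.1
  rw [Nat.odd_iff] at h2
  omega

theorem conj_mem_sigmaCore {M : Subgroup G} {m y : G} (hm : m ∈ M) (hy : y ∈ Cfsg.sigmaCore M) :
    m * y * m⁻¹ ∈ Cfsg.sigmaCore M :=
  ((Subgroup.mem_normalizer_iff.mp (Cfsg.Agent.Helper55.BGB.le_normalizer_sigmaCore M hm)) y).mp hy

theorem prime_cases (hG : Cfsg.IsMinSimpleOddOrder G) (hα : HAlpha G)
    {M : Subgroup G} (hM : IsCoatom M) {x k : G} (hx : x ∈ Cfsg.sigmaCore M) (hx1 : x ≠ 1)
    (hkM : k ∈ M) (hkx : k * x = x * k) {p : ℕ} (hp : p.Prime) (hk : orderOf k = p)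
    (hpσ : p ∉ Cfsg.sigma M) : p ∈ Cfsg.kappa M ∨ p ∈ Cfsg.tau2 M := by
  haveI : Fact p.Prime := ⟨hp⟩
  have hpM : p ∣ Nat.card M := by
    rw [← hk]; exact Subgroup.orderOf_dvd_natCard M hkM
  have hr2 : Cfsg.PRankLE p 2 M :=
    Cfsg.Agent.Helper55.BGB.prankLE_two_of_not_mem_sigma hp (hα M hM).1 (hα M hM).2 hpσ
  by_cases h1 : Cfsg.PRankLE p 1 M
  · left
    refine ⟨hp, hpM, hpσ, fun P => ⟨?_, ?_⟩⟩
    · refine Cfsg.Agent.Helper34.BG.isCyclic_of_pRankLE_one (odd_prime_of_dvd hG hpM) P.isPGroup' ?_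
      exact Cfsg.Agent.Helper55.BGB.prankLE_of_injective (P : Subgroup M).subtype
        (Subgroup.subtype_injective _) h1
    · -- conjugate `k` into `P`
      have hidx : ¬ p ∣ ((P : Subgroup M).map M.subtype).relIndex M := by
        have : ((P : Subgroup M).map M.subtype).relIndex M = (P : Subgroup M).index := by
          unfold Subgroup.relIndex
          congr 1
          exact Subgroup.comap_map_eq_self_of_injective M.subtype_injective _
        rw [this]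
        exact P.not_dvd_index
      have hkp : IsPGroup p (zpowers k) := by
        apply IsPGroup.of_card (n := 1)
        rw [Nat.card_zpowers, hk, pow_one]
      obtain ⟨m, hm, hmk⟩ := exists_conj_mem hidx hkM hkp
      obtain ⟨x₀, hx₀P, hx₀⟩ := hmk
      refine ⟨x₀, hx₀P, ?_, m * x * m⁻¹, conj_mem_sigmaCore hm hx, ?_, ?_⟩
      · intro h
        rw [h] at hx₀
        have h2 : m * k * m⁻¹ = 1 := by rw [← hx₀]; rfl
        have h3 : k = 1 := by
          have : k = m⁻¹ * (m * k * m⁻¹) * m := by group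
          rw [this, h2]; group
        rw [h3, orderOf_one] at hk
        exact hp.one_lt.ne hk
      · intro h
        apply hx1
        have : x = m⁻¹ * (m * x * m⁻¹) * m := by group
        rw [this, h]; group
      · have h2 : (x₀ : G) = m * k * m⁻¹ := hx₀
        rw [h2]
        have e1 : m * k * m⁻¹ * (m * x * m⁻¹) = m * (k * x) * m⁻¹ := by group
        have e2 : m * x * m⁻¹ * (m * k * m⁻¹) = m * (x * k) * m⁻¹ := by group
        rw [e1, e2, hkx]
  · right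
    exact ⟨hp, hpσ, hr2, h1⟩

/-! ### Step 2: a `κ`-element of prime order commutes with no `τ₂`-element of prime order -/

theorem orderOf_conj' (m k : G) : orderOf (m * k * m⁻¹) = orderOf k := by
  rw [← MulAut.conj_apply]; exact MulEquiv.orderOf_eq _ _

theorem isPGroup_zpowers_of_orderOf {k : G} {p : ℕ} (hk : orderOf k = p) :
    IsPGroup p (zpowers k) := by
  apply IsPGroup.of_card (n := 1)
  rw [Nat.card_zpowers, hk, pow_one]

theorem hall_ne_bot {M K : Subgroup G} {π : Set ℕ} (hK : Cfsg.IsPiHallOf π K M) {p : ℕ}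
    (hp : p.Prime) (hpπ : p ∈ π) (hpM : p ∣ Nat.card M) : K ≠ ⊥ := by
  rintro rfl
  have h1 := Cfsg.Agent.Helper55.BGB.card_mul_relIndex hK.1
  rw [Subgroup.card_bot, one_mul] at h1
  exact hK.2.2 p hp hpπ (h1 ▸ hpM)

theorem no_mix (h30 : H30 G) {M K : Subgroup G} (hM : IsCoatom M)
    (hK : Cfsg.IsPiHallOf (Cfsg.kappa M) K M) {k t : G} (hkM : k ∈ M) (htM : t ∈ M)
    (hkt : k * t = t * k) {p r : ℕ} (hp : p.Prime) (hr : r.Prime) (hk : orderOf k = p)
    (ht : orderOf t = r) (hpκ : p ∈ Cfsg.kappa M) (hrτ : r ∈ Cfsg.tau2 M) : False := by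
  haveI : Fact p.Prime := ⟨hp⟩
  have hpM : p ∣ Nat.card M := hpκ.2.1
  have hK1 : K ≠ ⊥ := hall_ne_bot hK hp hpκ hpM
  obtain ⟨m, hm, hmk⟩ := exists_conj_mem (hK.2.2 p hp hpκ) hkM (isPGroup_zpowers_of_orderOf hk)
  set k' := m * k * m⁻¹ with hk'
  set t' := m * t * m⁻¹ with ht'
  have hk't' : k' * t' = t' * k' := by
    have e1 : k' * t' = m * (k * t) * m⁻¹ := by rw [hk', ht']; group
    have e2 : t' * k' = m * (t * k) * m⁻¹ := by rw [hk', ht']; group
    rw [e1, e2, hkt]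
  have hok' : orderOf k' = p := by
    rw [hk', ← hk]
    exact orderOf_conj' m k
  have hot' : orderOf t' = r := by
    rw [ht', ← ht]
    exact orderOf_conj' m t
  have hX : zpowers k' ≤ K := (zpowers_le).mpr hmk
  have hXc : (Nat.card (zpowers k')).Prime := by
    rw [Nat.card_zpowers, hok']; exact hp
  have h3 := (h30 M K hM hK hK1).2 (zpowers k') hX hXc
  have ht'M : t' ∈ M := M.mul_mem (M.mul_mem hm htM) (M.inv_mem hm)
  have ht'N : t' ∈ normalizer ((zpowers k' : Subgroup G) : Set G) := by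
    apply Subgroup.centralizer_le_normalizer
    rw [Subgroup.mem_centralizer_iff]
    intro h hh
    obtain ⟨n, rfl⟩ := Subgroup.mem_zpowers_iff.mp hh
    have : Commute k' t' := hk't'
    exact (this.zpow_left n).eq
  have ht'mem : t' ∈ K ⊔ (Cfsg.sigmaCore M ⊓ centralizer (K : Set G)) := by
    rw [← h3]; exact ⟨ht'M, ht'N⟩
  -- order considerations
  have hcomm : ∀ a ∈ K, ∀ b ∈ Cfsg.sigmaCore M ⊓ centralizer (K : Set G), a * b = b * a := by
    intro a ha b hb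
    exact (Subgroup.mem_centralizer_iff.mp hb.2 a ha)
  have hdvd := card_sup_dvd_mul hcomm
  have hr_dvd : r ∣ Nat.card (K ⊔ (Cfsg.sigmaCore M ⊓ centralizer (K : Set G)) : Subgroup G) := by
    rw [← hot']
    exact Subgroup.orderOf_dvd_natCard _ ht'mem
  have := (Nat.Prime.dvd_mul hr).mp (hr_dvd.trans hdvd)
  rcases this with h | h
  · -- `r ∈ κ(M)`: rank one, contradiction
    have hrκ : r ∈ Cfsg.kappa M := hK.2.1 r hr h
    exact hrτ.2.2.2 (pRankLE_one_of_kappa hrκ)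
  · have h2 : r ∣ Nat.card (Cfsg.sigmaCore M) :=
      h.trans (Subgroup.card_dvd_of_le inf_le_left)
    exact hrτ.2.1 (Cfsg.Agent.Helper55.BGB.isPi_sigmaCore M r hr h2)

/-! ### Step 3: the `κ` case -/

theorem kappa_case (hG : Cfsg.IsMinSimpleOddOrder G) (h30 : H30 G) (h31 : H31a G)
    {M : Subgroup G} (hM : IsCoatom M) {x k : G} (hx : x ∈ Cfsg.sigmaCore M) (hx1 : x ≠ 1)
    (hkM : k ∈ M) (hkx : k * x = x * k) {p : ℕ} (hp : p.Prime) (hk : orderOf k = p)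
    (hpκ : p ∈ Cfsg.kappa M) : centralizer ({x} : Set G) ≤ M := by
  haveI : Fact p.Prime := ⟨hp⟩
  have hMne : M ≠ ⊤ := hM.1
  obtain ⟨K, hK⟩ := exists_hall (Cfsg.kappa M) M (hG.2.2.2 M hMne)
  have hpM : p ∣ Nat.card M := hpκ.2.1
  have hK1 : K ≠ ⊥ := hall_ne_bot hK hp hpκ hpM
  obtain ⟨m, hm, hmk⟩ := exists_conj_mem (hK.2.2 p hp hpκ) hkM (isPGroup_zpowers_of_orderOf hk)
  set k' := m * k * m⁻¹ with hk'
  set x₁ := m * x * m⁻¹ with hx₁
  have hk'1 : k' ≠ 1 := by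
    intro h
    have h3 : k = 1 := by
      have : k = m⁻¹ * k' * m := by rw [hk']; group
      rw [this, h]; group
    rw [h3, orderOf_one] at hk
    exact hp.one_lt.ne hk
  have hx₁1 : x₁ ≠ 1 := by
    intro h
    apply hx1
    have : x = m⁻¹ * x₁ * m := by rw [hx₁]; group
    rw [this, h]; group
  have hx₁σ : x₁ ∈ Cfsg.sigmaCore M := conj_mem_sigmaCore hm hx
  have hk'x₁ : k' * x₁ = x₁ * k' := by
    have e1 : k' * x₁ = m * (k * x) * m⁻¹ := by rw [hk', hx₁]; group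
    have e2 : x₁ * k' = m * (x * k) * m⁻¹ := by rw [hk', hx₁]; group
    rw [e1, e2, hkx]
  have hx₁K : x₁ ∈ Cfsg.sigmaCore M ⊓ centralizer (K : Set G) := by
    rw [← (h30 M K hM hK hK1).1 k' hmk hk'1]
    refine ⟨hx₁σ, ?_⟩
    show x₁ ∈ centralizer ({k'} : Set G)
    rw [Subgroup.mem_centralizer_iff]
    intro h hh
    rw [Set.mem_singleton_iff] at hh
    rw [hh]; exact hk'x₁
  intro c hc
  have hcx : x * c = c * x := Subgroup.mem_centralizer_iff.mp hc x (Set.mem_singleton x)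
  set c₁ := m * c * m⁻¹ with hc₁
  have hc₁x₁ : c₁ * x₁ * c₁⁻¹ = x₁ := by
    have e1 : c₁ * x₁ * c₁⁻¹ = m * (c * x * c⁻¹) * m⁻¹ := by rw [hc₁, hx₁]; group
    rw [e1, ← hcx]
    rw [hx₁]; group
  have hc₁M : c₁ ∈ M := by
    by_contra hnot
    have h := h31 M K hM hK hK1 c₁ hnot
    have hmem : x₁ ∈ (Cfsg.sigmaCore M ⊓ centralizer (K : Set G)) ⊓ cjm c₁ M := by
      refine ⟨hx₁K, ?_⟩
      rw [← hc₁x₁]
      exact conj_mem_cjm (Cfsg.Agent.Helper55.BGB.sigmaCore_le M hx₁σ)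
    rw [h, Subgroup.mem_bot] at hmem
    exact hx₁1 hmem
  have : c = m⁻¹ * c₁ * m := by rw [hc₁]; group
  rw [this]
  exact M.mul_mem (M.mul_mem (M.inv_mem hm) hc₁M) hm

/-! ### Step 4: the `τ₂` case: one maximal subgroup `L` with all primes in `σ(L)` -/

theorem tau2_of_elemAb (hα : HAlpha G) {L A : Subgroup G} (hL : IsCoatom L) {r : ℕ}
    (hr : r.Prime) (hrσ : r ∉ Cfsg.sigma L) (hAL : A ≤ L)
    (hAe : Cfsg.IsElementaryAbelian r A) (hAc : Nat.card A = r ^ 2) : r ∈ Cfsg.tau2 L :=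
  ⟨hr, hrσ, Cfsg.Agent.Helper55.BGB.prankLE_two_of_not_mem_sigma hr (hα L hL).1 (hα L hL).2 hrσ,
    not_pRankLE_one_of_elemAb hr hAL hAe hAc⟩

theorem isElementaryAbelian_cjm {r : ℕ} {A : Subgroup G} (m : G)
    (hAe : Cfsg.IsElementaryAbelian r A) : Cfsg.IsElementaryAbelian r (cjm m A) := by
  refine ⟨⟨⟨?_⟩⟩, ?_⟩
  · rintro ⟨a, ha⟩ ⟨b, hb⟩
    apply Subtype.ext
    obtain ⟨a', ha', rfl⟩ := ha
    obtain ⟨b', hb', rfl⟩ := hb
    have := hAe.1.is_comm.comm ⟨a', ha'⟩ ⟨b', hb'⟩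
    have h2 : a' * b' = b' * a' := congrArg Subtype.val this
    show (MulAut.conj m).toMonoidHom a' * (MulAut.conj m).toMonoidHom b' =
      (MulAut.conj m).toMonoidHom b' * (MulAut.conj m).toMonoidHom a'
    rw [← map_mul, ← map_mul, h2]
  · rintro a ⟨a', ha', rfl⟩
    rw [← map_pow, hAe.2 a' ha', map_one]

theorem normalizer_cjm_le {L A : Subgroup G} {l : G} (hl : l ∈ L)
    (h : normalizer (A : Set G) ≤ L) : normalizer ((cjm l A : Subgroup G) : Set G) ≤ L := by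
  intro g hg
  have h1 : l⁻¹ * g * l ∈ normalizer (A : Set G) := by
    rw [Subgroup.mem_normalizer_iff]
    intro a
    have h2 := (Subgroup.mem_normalizer_iff.mp hg) (l * a * l⁻¹)
    rw [mem_cjm, mem_cjm] at h2
    have e1 : l⁻¹ * (l * a * l⁻¹) * l = a := by group
    have e2 : l⁻¹ * (g * (l * a * l⁻¹) * g⁻¹) * l = l⁻¹ * g * l * a * (l⁻¹ * g * l)⁻¹ := by group
    rw [e1, e2] at h2
    exact h2
  have h3 := h h1
  have : g = l * (l⁻¹ * g * l) * l⁻¹ := by group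
  rw [this]
  exact L.mul_mem (L.mul_mem hl h3) (L.inv_mem hl)

theorem exists_sigma_maximal (hG : Cfsg.IsMinSimpleOddOrder G) (hH : HHall G) (hα : HAlpha G)
    (h17 : H17e G) (h18 : H18 G) {M : Subgroup G} (hM : IsCoatom M) {n : ℕ} (hn : n ≠ 1)
    (hτ : ∀ p : ℕ, p.Prime → p ∣ n → p ∈ Cfsg.tau2 M) :
    ∃ L : Subgroup G, IsCoatom L ∧ ∀ p : ℕ, p.Prime → p ∣ n → p ∈ Cfsg.sigma L := by
  haveI : IsSimpleGroup G := hG.2.1
  obtain ⟨r₀, hr₀, hr₀n⟩ := Nat.exists_prime_and_dvd hn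
  haveI : Fact r₀.Prime := ⟨hr₀⟩
  have hr₀τ := hτ r₀ hr₀ hr₀n
  obtain ⟨E, hE⟩ := Cfsg.Agent.Helper55.BGB.exists_compl_sigmaCore (hH M hM)
  obtain ⟨A₀, hA₀E, hA₀e, hA₀c⟩ := exists_elemAb_in_compl hr₀τ hE
  obtain ⟨hEN, hNM⟩ := h18 M hM E hE r₀ hr₀τ A₀ ⟨hA₀E, hA₀e, hA₀c⟩
  have hA₀M : A₀ ≤ M := hA₀E.trans hE.1
  have hA₀1 : A₀ ≠ ⊥ := by
    rintro rfl
    rw [Subgroup.card_bot] at hA₀c
    have := hr₀.one_lt
    have : 1 < r₀ ^ 2 := by nlinarith
    omega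
  have hNne : normalizer (A₀ : Set G) ≠ ⊤ := by
    intro h
    have hn : A₀.Normal := Subgroup.normalizer_eq_top_iff.mp h
    rcases hn.eq_bot_or_eq_top with h1 | h1
    · exact hA₀1 h1
    · exact hM.1 (top_le_iff.mp (h1 ▸ hA₀M))
  obtain ⟨L, hL, hNL⟩ := (eq_top_or_exists_le_coatom (normalizer (A₀ : Set G))).resolve_left hNne
  have hLM : L ≠ M := fun h => hNM (h ▸ hNL)
  have hEL : E ≤ L := hEN.trans hNL
  have hA₀L : A₀ ≤ L := hA₀E.trans hEL
  -- `r₀ ∈ σ(L)`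
  have hr₀L : r₀ ∈ Cfsg.sigma L := by
    by_contra hnot
    have hτL := tau2_of_elemAb hα hL hr₀ hnot hA₀L hA₀e hA₀c
    obtain ⟨EL, hEL'⟩ := Cfsg.Agent.Helper55.BGB.exists_compl_sigmaCore (hH L hL)
    -- conjugate `A₀` into `EL`
    have hcardL := Cfsg.Agent.Helper23.card_of_isComplIn hEL'
    have hidx : ¬ r₀ ∣ EL.relIndex L := by
      have h1 := Cfsg.Agent.Helper55.BGB.card_mul_relIndex hEL'.1
      have h2 : EL.relIndex L = Nat.card (Cfsg.sigmaCore L) := by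
        have hE0 : 0 < Nat.card EL := Nat.card_pos
        have : Nat.card EL * EL.relIndex L = Nat.card EL * Nat.card (Cfsg.sigmaCore L) := by
          rw [h1, hcardL]
        exact Nat.eq_of_mul_eq_mul_left hE0 this
      rw [h2]
      intro hdvd
      exact hnot (Cfsg.Agent.Helper55.BGB.isPi_sigmaCore L r₀ hr₀ hdvd)
    obtain ⟨l, hl, hlA⟩ := exists_conj_le hidx hA₀L (IsPGroup.of_card hA₀c)
    have h2 := (h18 L hL EL hEL' r₀ hτL (cjm l A₀)
      ⟨hlA, isElementaryAbelian_cjm l hA₀e, by rw [card_cjm, hA₀c]⟩).2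
    exact h2 (normalizer_cjm_le hl hNL)
  refine ⟨L, hL, ?_⟩
  intro r hr hrn
  by_contra hnot
  haveI : Fact r.Prime := ⟨hr⟩
  have hrτ := hτ r hr hrn
  obtain ⟨A, hAE, hAe, hAc⟩ := exists_elemAb_in_compl hrτ hE
  have hAL : A ≤ L := hAE.trans hEL
  have hτL := tau2_of_elemAb hα hL hr hnot hAL hAe hAc
  have h := h17 L hL r hτL A ⟨hAL, hAe, hAc⟩ M hM hLM.symm (hAE.trans hE.1)
  have hA₀σ : A₀ ≤ Cfsg.sigmaCore L :=
    Cfsg.Agent.Helper55.BGB.le_sigmaCore_of_isPGroup hr₀ (hH L hL) hr₀L hA₀L (IsPGroup.of_card hA₀c)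
  apply hA₀1
  rw [eq_bot_iff, ← h]
  exact le_inf hA₀σ hA₀M

/-! ### The main theorem (BG 14.3) -/

theorem bg143 (hG : Cfsg.IsMinSimpleOddOrder G) (hH : HHall G) (hα : HAlpha G)
    (h17 : H17e G) (h18 : H18 G) (h20 : H20d G) (h30 : H30 G) (h31 : H31a G)
    (M : Subgroup G) (hM : IsCoatom M) (x : G) (hx : x ∈ Cfsg.sigmaCore M) (hx1 : x ≠ 1) (x' : G)
    (hx' : x' ∈ M ⊓ Subgroup.centralizer ({x} : Set G)) (hx'1 : x' ≠ 1)
    (hσ : ∀ p : ℕ, p.Prime → p ∣ orderOf x' → p ∉ Cfsg.sigma M) :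
    ((∀ p : ℕ, p.Prime → p ∣ orderOf x' → p ∈ Cfsg.kappa M) ∧
        Subgroup.centralizer ({x} : Set G) ≤ M) ∨
      ((∀ p : ℕ, p.Prime → p ∣ orderOf x' → p ∈ Cfsg.tau2 M) ∧
        (∃ L : Subgroup G, IsCoatom L ∧ ∀ p : ℕ, p.Prime → p ∣ orderOf x' → p ∈ Cfsg.sigma L) ∧
        (Subgroup.centralizer ({x'} : Set G) ≤ M ∧ ∀ L : Subgroup G, IsCoatom L →
          Subgroup.centralizer ({x'} : Set G) ≤ L → L = M)) := by
  have hx'M : x' ∈ M := hx'.1
  have hxx' : x * x' = x' * x :=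
    Subgroup.mem_centralizer_iff.mp hx'.2 x (Set.mem_singleton x)
  have hn0 : orderOf x' ≠ 0 := (orderOf_pos x').ne'
  have hn1 : orderOf x' ≠ 1 := fun h => hx'1 (orderOf_eq_one_iff.mp h)
  -- the element of order `p`
  have key : ∀ p : ℕ, p.Prime → p ∣ orderOf x' →
      ∃ k : G, k ∈ M ∧ k * x = x * k ∧ orderOf k = p ∧ ∃ j : ℕ, k = x' ^ j := by
    intro p hp hpn
    refine ⟨x' ^ (orderOf x' / p), M.pow_mem hx'M _, ?_, orderOf_pow_orderOf_div hn0 hpn, _, rfl⟩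
    have : Commute x' x := hxx'.symm
    exact (this.pow_left _).eq
  have hcases : ∀ p : ℕ, p.Prime → p ∣ orderOf x' → p ∈ Cfsg.kappa M ∨ p ∈ Cfsg.tau2 M := by
    intro p hp hpn
    obtain ⟨k, hkM, hkx, hk, -⟩ := key p hp hpn
    exact prime_cases hG hα hM hx hx1 hkM hkx hp hk (hσ p hp hpn)
  have hMne : M ≠ ⊤ := hM.1
  obtain ⟨K, hK⟩ := exists_hall (Cfsg.kappa M) M (hG.2.2.2 M hMne)
  by_cases hall : ∀ p : ℕ, p.Prime → p ∣ orderOf x' → p ∈ Cfsg.kappa M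
  · left
    refine ⟨hall, ?_⟩
    obtain ⟨p, hp, hpn⟩ := Nat.exists_prime_and_dvd hn1
    obtain ⟨k, hkM, hkx, hk, -⟩ := key p hp hpn
    exact kappa_case hG h30 h31 hM hx hx1 hkM hkx hp hk (hall p hp hpn)
  · right
    push Not at hall
    obtain ⟨r, hr, hrn, hrκ⟩ := hall
    have hrτ : r ∈ Cfsg.tau2 M := (hcases r hr hrn).resolve_left hrκ
    have hτ : ∀ p : ℕ, p.Prime → p ∣ orderOf x' → p ∈ Cfsg.tau2 M := by
      intro p hp hpn
      rcases hcases p hp hpn with h | h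
      · exfalso
        obtain ⟨k, hkM, hkx, hk, j, hj⟩ := key p hp hpn
        obtain ⟨t, htM, htx, ht, i, hi⟩ := key r hr hrn
        have hkt : k * t = t * k := by
          rw [hj, hi, ← pow_add, ← pow_add, add_comm]
        exact no_mix h30 hM hK hkM htM hkt hp hr hk ht h hrτ
      · exact h
    refine ⟨hτ, exists_sigma_maximal hG hH hα h17 h18 hM hn1 hτ, ?_⟩
    exact h20 M hM x' hx'M hx'1 hτ ⟨hx'M, x, hx, hx1, hxx'.symm⟩

end Cfsg.Agent.Helper45.BG143
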