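import Mathlib
import Cfsg.Prelude.Def_Solvable

/-!
# Group-theoretic lemmas for the Brauer–Leonard project (abelian Sylow `p`-subgroup `P` with
`C_G(y) ∩ N_G(P) = C_G(P)` for all `1 ≠ y ∈ P`)

Requested by helper46 (board message 1742): L1 `centralizer_pnilpotent`, L2 `char_stabilizer`,
L3 `rel_equivalence`, `rel_one`, `one_rel`, `card_rel_class`, `card_hom_sylow`.
-/

set_option autoImplicit false
set_option linter.unusedSectionVars false
set_option linter.style.haveILetI false
set_option linter.unusedVariables false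

namespace Cfsg.Agent.Helper45.BLGT

universe u

variable {G : Type u} [Group G] [Finite G] (p : ℕ) [Fact p.Prime] (P : Sylow p G)

/-- the relation "conjugate under `N_G(P)`" on linear characters of `P` -/
abbrev Rel (ψ ψ' : ↥(P : Subgroup G) →* ℂˣ) : Prop :=
  ∃ n : G, n ∈ Subgroup.normalizer ((P : Subgroup G) : Set G) ∧
    ∀ w w' : ↥(P : Subgroup G), (w' : G) = n * w * n⁻¹ → ψ' w' = ψ w

/-- conjugation by an element of `N_G(P)` as an endomorphism of `P` -/
def conjHom (n : ↥(Subgroup.normalizer ((P : Subgroup G) : Set G))) :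
    ↥(P : Subgroup G) →* ↥(P : Subgroup G) where
  toFun w := ⟨(n : G) * w * (n : G)⁻¹, (Subgroup.mem_normalizer_iff.mp n.2 (w : G)).mp w.2⟩
  map_one' := by
    apply Subtype.ext
    simp
  map_mul' a b := by
    apply Subtype.ext
    simp only [Subgroup.coe_mul]
    group

theorem conjHom_coe (n : ↥(Subgroup.normalizer ((P : Subgroup G) : Set G)))
    (w : ↥(P : Subgroup G)) : ((conjHom p P n w : ↥(P : Subgroup G)) : G) = (n : G) * w * (n : G)⁻¹ :=
  rfl

/-- the action of `N_G(P)` on the linear characters of `P` -/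
@[reducible] def act : MulAction ↥(Subgroup.normalizer ((P : Subgroup G) : Set G)) (↥(P : Subgroup G) →* ℂˣ) where
  smul n ψ := ψ.comp (conjHom p P n⁻¹)
  one_smul ψ := by
    ext w
    show ((ψ.comp (conjHom p P (1 : ↥(Subgroup.normalizer ((P : Subgroup G) : Set G)))⁻¹)) w : ℂ) = ψ w
    have : conjHom p P (1 : ↥(Subgroup.normalizer ((P : Subgroup G) : Set G)))⁻¹ w = w := by
      apply Subtype.ext
      rw [conjHom_coe]
      simp
    rw [MonoidHom.comp_apply, this]
  mul_smul a b ψ := by
    ext w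
    show ((ψ.comp (conjHom p P (a * b)⁻¹)) w : ℂ) =
      ((ψ.comp (conjHom p P b⁻¹)).comp (conjHom p P a⁻¹)) w
    have : conjHom p P (a * b)⁻¹ w = conjHom p P b⁻¹ (conjHom p P a⁻¹ w) := by
      apply Subtype.ext
      rw [conjHom_coe, conjHom_coe, conjHom_coe]
      simp only [Subgroup.coe_inv, Subgroup.coe_mul]
      group
    rw [MonoidHom.comp_apply, MonoidHom.comp_apply, MonoidHom.comp_apply, this]

attribute [local instance] act

section L1

variable (hab : IsMulCommutative P)
  (hfrob : ∀ y : G, y ∈ (P : Subgroup G) → y ≠ 1 →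
    Subgroup.centralizer ({y} : Set G) ⊓ Subgroup.normalizer ((P : Subgroup G) : Set G) =
      Subgroup.centralizer ((P : Subgroup G) : Set G))

include hab hfrob

/-- L1: for `1 ≠ y ∈ P` the centralizer `C_G(y)` is `p`-nilpotent with Sylow `p`-subgroup `P`. -/
theorem centralizer_pnilpotent (y : G) (hy : y ∈ (P : Subgroup G)) (hy1 : y ≠ 1) :
    (∃ k : ℕ, (Cfsg.pPrimeCore p (Subgroup.centralizer ({y} : Set G))).index = p ^ k) ∧
      (Nat.card (Subgroup.centralizer ({y} : Set G))).factorization p =
        (Nat.card G).factorization p := by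
  classical
  have hp : p.Prime := Fact.out
  set C : Subgroup G := Subgroup.centralizer ({y} : Set G) with hC
  have hcommP : ∀ a ∈ (P : Subgroup G), ∀ b ∈ (P : Subgroup G), a * b = b * a := by
    intro a ha b hb
    have := hab.is_comm.comm (⟨a, ha⟩ : ↥P) ⟨b, hb⟩
    exact congrArg Subtype.val this
  have hPC : (P : Subgroup G) ≤ C := by
    intro x hx
    rw [hC, Subgroup.mem_centralizer_iff]
    intro h hh
    rw [Set.mem_singleton_iff.mp hh]
    exact hcommP y hy x hx
  -- the Sylow subgroup of `C`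
  set Q : Sylow p C := P.subtype hPC with hQ
  have hQmem : ∀ c : C, c ∈ (Q : Subgroup C) ↔ (c : G) ∈ (P : Subgroup G) := by
    intro c
    rw [hQ, Sylow.coe_subtype, Subgroup.mem_subgroupOf]
  have hcardQ : Nat.card (Q : Subgroup C) = Nat.card (P : Subgroup G) := by
    have h1 : ((Q : Subgroup C)) = (P : Subgroup G).subgroupOf C := by
      ext c
      rw [hQmem, Subgroup.mem_subgroupOf]
    rw [h1]
    exact Nat.card_congr (Subgroup.subgroupOfEquivOfLe hPC).toEquiv
  -- the factorization statement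
  have hfact : (Nat.card C).factorization p = (Nat.card G).factorization p := by
    have h1 := Sylow.card_eq_multiplicity Q
    have h2 := Sylow.card_eq_multiplicity P
    rw [hcardQ, h2] at h1
    exact (Nat.pow_right_injective hp.two_le h1).symm
  -- Burnside
  have hcent : Subgroup.normalizer ((Q : Subgroup C) : Set C) ≤
      Subgroup.centralizer ((Q : Subgroup C) : Set C) := by
    intro c hc
    have hcN : (c : G) ∈ Subgroup.normalizer ((P : Subgroup G) : Set G) := by
      rw [Subgroup.mem_normalizer_iff]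
      intro h
      rw [Subgroup.mem_normalizer_iff] at hc
      constructor
      · intro hh
        have h1 := (hc ⟨h, hPC hh⟩).mp ((hQmem _).mpr hh)
        have := (hQmem _).mp h1
        simpa using this
      · intro hh
        have hhC : h ∈ C := by
          have h1 : (c : G)⁻¹ * ((c : G) * h * (c : G)⁻¹) * (c : G) = h := by group
          rw [← h1]
          exact C.mul_mem (C.mul_mem (C.inv_mem c.2) (hPC hh)) c.2
        have h2 : c * ⟨h, hhC⟩ * c⁻¹ ∈ (Q : Subgroup C) := by
          rw [hQmem]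
          simpa using hh
        have h3 := (hc ⟨h, hhC⟩).mpr h2
        exact (hQmem _).mp h3
    have hcC : (c : G) ∈ Subgroup.centralizer ((P : Subgroup G) : Set G) := by
      rw [← hfrob y hy hy1]
      exact ⟨c.2, hcN⟩
    rw [Subgroup.mem_centralizer_iff]
    intro x hx
    apply Subtype.ext
    rw [Subgroup.mem_centralizer_iff] at hcC
    have := hcC (x : G) ((hQmem x).mp hx)
    simpa using this
  have hcompl := MonoidHom.ker_transferSylow_isComplement' Q hcent
  have hnd := MonoidHom.not_dvd_card_ker_transferSylow Q hcent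
  set K : Subgroup C := (MonoidHom.transferSylow Q hcent).ker with hK
  have hKn : K.Normal := MonoidHom.normal_ker _
  have hKcop : (Nat.card K).Coprime p := by
    rw [Nat.coprime_comm]
    exact (Nat.Prime.coprime_iff_not_dvd hp).mpr hnd
  have hKle : K ≤ Cfsg.pPrimeCore p C := le_sSup ⟨hKn, hKcop⟩
  have hidx : K.index = p ^ (Nat.card G).factorization p := by
    have h1 := hcompl.symm.index_eq_card
    rw [h1, hcardQ]
    exact Sylow.card_eq_multiplicity P
  refine ⟨?_, hfact⟩
  have h1 : (Cfsg.pPrimeCore p C).index ∣ K.index := Subgroup.index_dvd_of_le hKle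
  rw [hidx] at h1
  obtain ⟨k, -, hk⟩ := (Nat.dvd_prime_pow hp).mp h1
  exact ⟨k, hk⟩

/-- L2: the stabilizer in `N_G(P)` of a nontrivial linear character of `P` is `C_G(P)`. -/
theorem char_stabilizer (ψ : ↥(P : Subgroup G) →* ℂˣ) (hψ : ψ ≠ 1) (n : G)
    (hn : n ∈ Subgroup.normalizer ((P : Subgroup G) : Set G))
    (hfix : ∀ w w' : ↥(P : Subgroup G), (w' : G) = n * w * n⁻¹ → ψ w' = ψ w) :
    n ∈ Subgroup.centralizer ((P : Subgroup G) : Set G) := by
  classical
  by_contra hnC
  have hcommP : ∀ a b : ↥(P : Subgroup G), a * b = b * a := fun a b => hab.is_comm.comm a b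
  have hconj : ∀ w : ↥(P : Subgroup G), n * (w : G) * n⁻¹ ∈ (P : Subgroup G) := by
    intro w
    exact (Subgroup.mem_normalizer_iff.mp hn (w : G)).mp w.2
  let c : ↥(P : Subgroup G) → ↥(P : Subgroup G) := fun w => ⟨n * (w : G) * n⁻¹, hconj w⟩
  have hc_mul : ∀ a b, c (a * b) = c a * c b := by
    intro a b
    apply Subtype.ext
    simp only [c, Subgroup.coe_mul]
    group
  have hc_inv : ∀ a, c a⁻¹ = (c a)⁻¹ := by
    intro a
    apply Subtype.ext
    simp only [c, Subgroup.coe_inv]
    group
  have hfixed : ∀ v : ↥(P : Subgroup G), c v = v → v = 1 := by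
    intro v hv
    by_contra hv1
    have hv1' : (v : G) ≠ 1 := fun h => hv1 (Subtype.ext h)
    apply hnC
    rw [← hfrob (v : G) v.2 hv1']
    refine ⟨?_, hn⟩
    show n ∈ Subgroup.centralizer ({(v : G)} : Set G)
    rw [Subgroup.mem_centralizer_iff]
    intro h hh
    rw [Set.mem_singleton_iff.mp hh]
    have h1 : n * (v : G) * n⁻¹ = (v : G) := congrArg Subtype.val hv
    calc (v : G) * n = (n * (v : G) * n⁻¹) * n := by rw [h1]
      _ = n * (v : G) := by group
  let f : ↥(P : Subgroup G) → ↥(P : Subgroup G) := fun w => w⁻¹ * c w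
  have hf_inj : Function.Injective f := by
    intro w1 w2 h12
    simp only [f] at h12
    -- w2 * w1⁻¹ is fixed by c
    have h1 : c (w2 * w1⁻¹) = w2 * w1⁻¹ := by
      rw [hc_mul, hc_inv]
      have h2 : c w2 = w2 * (w1⁻¹ * c w1) := by
        rw [h12]; group
      rw [h2]
      group
    have h3 := hfixed _ h1
    have h4 : w2 = (w2 * w1⁻¹) * w1 := by group
    rw [h3, one_mul] at h4
    exact h4.symm
  have hf_surj : Function.Surjective f := Finite.injective_iff_surjective.mp hf_inj
  apply hψ
  ext w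
  obtain ⟨v, rfl⟩ := hf_surj w
  simp only [f]
  rw [map_mul, map_inv, hfix v (c v) rfl]
  simp

/-- L3 (a): conjugacy under `N_G(P)` is an equivalence relation on linear characters of `P`. -/
theorem rel_equivalence : Equivalence (Rel p P) := by
  refine ⟨?_, ?_, ?_⟩
  · intro ψ
    refine ⟨1, Subgroup.one_mem _, ?_⟩
    intro w w' h
    have : w' = w := Subtype.ext (by simpa using h)
    rw [this]
  · intro ψ ψ' ⟨n, hn, h⟩
    refine ⟨n⁻¹, Subgroup.inv_mem _ hn, ?_⟩
    intro w w' hw
    have h1 : (w : G) = n * w' * n⁻¹ := by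
      rw [hw]; group
    exact (h w' w h1).symm
  · intro ψ ψ' ψ'' ⟨n, hn, h⟩ ⟨n', hn', h'⟩
    refine ⟨n' * n, Subgroup.mul_mem _ hn' hn, ?_⟩
    intro w w'' hw
    have hmid : n * (w : G) * n⁻¹ ∈ (P : Subgroup G) :=
      (Subgroup.mem_normalizer_iff.mp hn (w : G)).mp w.2
    have h1 := h w ⟨n * (w : G) * n⁻¹, hmid⟩ rfl
    have h2 := h' ⟨n * (w : G) * n⁻¹, hmid⟩ w'' (by rw [hw]; group)
    rw [h2, h1]

/-- L3 (b): only the trivial character is conjugate to the trivial character. -/
theorem rel_one (ψ : ↥(P : Subgroup G) →* ℂˣ) : Rel p P ψ 1 ↔ ψ = 1 := by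
  constructor
  · rintro ⟨n, hn, h⟩
    ext w
    have hmid : n * (w : G) * n⁻¹ ∈ (P : Subgroup G) :=
      (Subgroup.mem_normalizer_iff.mp hn (w : G)).mp w.2
    have := h w ⟨n * (w : G) * n⁻¹, hmid⟩ rfl
    simp only [MonoidHom.one_apply] at this ⊢
    rw [← this]
  · rintro rfl
    exact (rel_equivalence p P hab hfrob).refl 1

/-- L3 (b'): only the trivial character is conjugate to the trivial character. -/
theorem one_rel (ψ : ↥(P : Subgroup G) →* ℂˣ) : Rel p P 1 ψ ↔ ψ = 1 := by
  constructor
  · intro h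
    exact (rel_one p P hab hfrob ψ).mp ((rel_equivalence p P hab hfrob).symm h)
  · rintro rfl
    exact (rel_equivalence p P hab hfrob).refl 1

/-- L3 (c): the `N_G(P)`-class of a nontrivial linear character has `|N_G(P) : C_G(P)|` members. -/
theorem card_rel_class (m : ℕ)
    (hCN : (Subgroup.centralizer ((P : Subgroup G) : Set G)).relIndex
      (Subgroup.normalizer ((P : Subgroup G) : Set G)) = m)
    (ψ : ↥(P : Subgroup G) →* ℂˣ) (hψ : ψ ≠ 1) :
    Nat.card {ψ' : ↥(P : Subgroup G) →* ℂˣ // Rel p P ψ ψ'} = m := by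
  classical
  set N : Subgroup G := Subgroup.normalizer ((P : Subgroup G) : Set G) with hN
  have hsmul : ∀ (n : ↥N) (χ : ↥(P : Subgroup G) →* ℂˣ) (w : ↥(P : Subgroup G)),
      (n • χ) w = χ (conjHom p P n⁻¹ w) := fun n χ w => rfl
  -- the key translation
  have hkey : ∀ (n : ↥N) (ψ' : ↥(P : Subgroup G) →* ℂˣ), n • ψ = ψ' ↔
      ∀ w w' : ↥(P : Subgroup G), (w' : G) = (n : G) * w * (n : G)⁻¹ → ψ' w' = ψ w := by
    intro n ψ'
    constructor
    · rintro rfl w w' hw
      rw [hsmul]
      congr 1
      apply Subtype.ext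
      rw [conjHom_coe, hw]
      simp only [Subgroup.coe_inv]
      group
    · intro h
      ext w'
      rw [hsmul]
      have := h (conjHom p P n⁻¹ w') w' (by
        rw [conjHom_coe]
        simp only [Subgroup.coe_inv]
        group)
      rw [this]
  have horb : {ψ' : ↥(P : Subgroup G) →* ℂˣ | Rel p P ψ ψ'} = MulAction.orbit ↥N ψ := by
    ext ψ'
    simp only [Set.mem_ofPred_eq, MulAction.mem_orbit_iff]
    constructor
    · rintro ⟨n, hn, h⟩
      exact ⟨⟨n, hn⟩, (hkey ⟨n, hn⟩ ψ').mpr h⟩
    · rintro ⟨n, hn⟩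
      exact ⟨(n : G), n.2, (hkey n ψ').mp hn⟩
  have hstab : MulAction.stabilizer ↥N ψ =
      (Subgroup.centralizer ((P : Subgroup G) : Set G)).subgroupOf N := by
    ext n
    rw [MulAction.mem_stabilizer_iff, Subgroup.mem_subgroupOf, hkey]
    constructor
    · intro h
      exact char_stabilizer p P hab hfrob ψ hψ (n : G) n.2 h
    · intro hc w w' hw
      have : w' = w := by
        apply Subtype.ext
        rw [hw]
        rw [Subgroup.mem_centralizer_iff] at hc
        have := hc (w : G) w.2
        calc (n : G) * (w : G) * (n : G)⁻¹ = ((w : G) * (n : G)) * (n : G)⁻¹ := by rw [this]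
          _ = (w : G) := by group
      rw [this]
  have h1 : Nat.card {ψ' : ↥(P : Subgroup G) →* ℂˣ // Rel p P ψ ψ'} =
      (MulAction.orbit ↥N ψ).ncard := by
    rw [← horb]
    exact Nat.card_coe_set_eq _
  rw [h1, ← MulAction.index_stabilizer, hstab]
  exact hCN

/-- L3 (d): an abelian Sylow subgroup has `|P|` linear characters. -/
theorem card_hom_sylow : Nat.card (↥(P : Subgroup G) →* ℂˣ) = Nat.card P := by
  classical
  letI : CommGroup ↥(P : Subgroup G) :=
    { (inferInstance : Group ↥(P : Subgroup G)) with mul_comm := hab.is_comm.comm }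
  haveI : NeZero (Monoid.exponent ↥(P : Subgroup G)) := ⟨Monoid.exponent_ne_zero_of_finite⟩
  exact CommGroup.card_monoidHom_of_hasEnoughRootsOfUnity ↥(P : Subgroup G) ℂ

end L1

end Cfsg.Agent.Helper45.BLGT
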