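import Mathlib
import Cfsg.Prelude.Def_Involutions

/-!
# Strongly embedded subgroups: basic counting / dihedral lemmas (helper45)
-/

set_option autoImplicit false

namespace Cfsg.Agent.Helper45.SE

variable {G : Type*} [Group G]

theorem inv_self {t : G} (ht : orderOf t = 2) : t⁻¹ = t := by
  have h : t ^ 2 = 1 := by rw [← ht]; exact pow_orderOf_eq_one t
  rw [inv_eq_iff_mul_eq_one, ← pow_two, h]

theorem mul_self' {t : G} (ht : orderOf t = 2) : t * t = 1 := by
  have h : t ^ 2 = 1 := by rw [← ht]; exact pow_orderOf_eq_one t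
  rwa [pow_two] at h

theorem ne_one' {t : G} (ht : orderOf t = 2) : t ≠ 1 := by
  intro h; rw [h, orderOf_one] at ht; omega

theorem orderOf_two_of {t : G} (h1 : t * t = 1) (h2 : t ≠ 1) : orderOf t = 2 := by
  have : Fact (Nat.Prime 2) := ⟨Nat.prime_two⟩
  exact orderOf_eq_prime (by rw [pow_two, h1]) h2

theorem orderOf_conj' (g t : G) : orderOf (g * t * g⁻¹) = orderOf t :=
  (MulAut.conj g).orderOf_eq t

theorem mem_conj_map (H : Subgroup G) (g a : G) :
    a ∈ H.map (MulAut.conj g).toMonoidHom ↔ g⁻¹ * a * g ∈ H := by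
  constructor
  · rintro ⟨b, hb, rfl⟩
    simp only [MulEquiv.coe_toMonoidHom, MulAut.conj_apply]
    have : g⁻¹ * (g * b * g⁻¹) * g = b := by group
    rw [this]; exact hb
  · intro h
    refine ⟨g⁻¹ * a * g, h, ?_⟩
    simp only [MulEquiv.coe_toMonoidHom, MulAut.conj_apply]
    group

/-! ### dihedral lemmas -/

section dihedral
variable {t s : G}

/-- `t` inverts `t*s`. -/
theorem dih_inv (ht : orderOf t = 2) (hs : orderOf s = 2) (k : ℕ) :
    t * (t * s) ^ k * t = ((t * s) ^ k)⁻¹ := by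
  have ht' := mul_self' ht
  have hs' := mul_self' hs
  induction k with
  | zero => simp [ht']
  | succ k ih =>
    have h1 : t * (t * s) ^ (k + 1) * t = (t * (t * s) ^ k * t) * (t * (t * s) * t) := by
      rw [pow_succ]
      calc t * ((t * s) ^ k * (t * s)) * t = t * (t * s) ^ k * (1 * (t * s)) * t := by
            rw [one_mul]; group
        _ = t * (t * s) ^ k * ((t * t) * (t * s)) * t := by rw [ht']
        _ = _ := by group
    have h2 : t * (t * s) * t = (t * s)⁻¹ := by
      rw [eq_inv_iff_mul_eq_one]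
      calc t * (t * s) * t * (t * s) = (t * t) * s * (t * t) * s := by group
        _ = 1 := by rw [ht', one_mul, mul_one, hs']
    rw [h1, ih, h2, pow_succ', ← mul_inv_rev]

/-- `s` inverts `t*s`. -/
theorem dih_inv' (ht : orderOf t = 2) (hs : orderOf s = 2) (k : ℕ) :
    s * (t * s) ^ k * s = ((t * s) ^ k)⁻¹ := by
  have ht' := mul_self' ht
  have hs' := mul_self' hs
  have h := dih_inv ht hs k
  have e : s = t * (t * s) := by rw [← mul_assoc, ht', one_mul]
  have e2 : s = (t * s)⁻¹ * t := by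
    rw [mul_inv_rev, inv_self ht, inv_self hs, mul_assoc, ht', mul_one]
  calc s * (t * s) ^ k * s = ((t * s)⁻¹ * t) * (t * s) ^ k * (t * (t * s)) := by
        nth_rewrite 1 [e2]; nth_rewrite 3 [e]; rfl
    _ = (t * s)⁻¹ * (t * (t * s) ^ k * t) * (t * s) := by group
    _ = (t * s)⁻¹ * ((t * s) ^ k)⁻¹ * (t * s) := by rw [h]
    _ = ((t * s) ^ k)⁻¹ := by
        rw [← mul_inv_rev, ← pow_succ, pow_succ', mul_inv_rev, inv_mul_cancel_right]

/-- If `t*s` has even order `2k`, the involution `(t*s)^k` commutes with `t` and `s`. -/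
theorem dih_even (ht : orderOf t = 2) (hs : orderOf s = 2) {k : ℕ} (hk : orderOf (t * s) = 2 * k)
    (hk0 : 0 < k) :
    orderOf ((t * s) ^ k) = 2 ∧ Commute ((t * s) ^ k) t ∧ Commute ((t * s) ^ k) s := by
  have hz2 : (t * s) ^ k * (t * s) ^ k = 1 := by
    rw [← pow_add, ← two_mul, ← hk]; exact pow_orderOf_eq_one _
  have hz1 : (t * s) ^ k ≠ 1 := by
    intro h
    have := orderOf_dvd_of_pow_eq_one h
    rw [hk] at this
    have := Nat.le_of_dvd hk0 this
    omega
  have hzinv : ((t * s) ^ k)⁻¹ = (t * s) ^ k := inv_eq_of_mul_eq_one_left hz2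
  refine ⟨orderOf_two_of hz2 hz1, ?_, ?_⟩
  · have h := dih_inv ht hs k
    rw [hzinv] at h
    show (t * s) ^ k * t = t * (t * s) ^ k
    calc (t * s) ^ k * t = (t * (t * s) ^ k * t) * t := by rw [h]
      _ = t * (t * s) ^ k * (t * t) := by group
      _ = t * (t * s) ^ k := by rw [mul_self' ht, mul_one]
  · have h := dih_inv' ht hs k
    rw [hzinv] at h
    show (t * s) ^ k * s = s * (t * s) ^ k
    calc (t * s) ^ k * s = (s * (t * s) ^ k * s) * s := by rw [h]
      _ = s * (t * s) ^ k * (s * s) := by group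
      _ = s * (t * s) ^ k := by rw [mul_self' hs, mul_one]

/-- If `t*s` has odd order `2k+1`, then `i = t * (t*s)^(k+1)` satisfies `i*i = 1` and
`i * t * i = s`. -/
theorem dih_odd (ht : orderOf t = 2) (hs : orderOf s = 2) {k : ℕ}
    (hk : orderOf (t * s) = 2 * k + 1) :
    (t * (t * s) ^ (k + 1)) * (t * (t * s) ^ (k + 1)) = 1 ∧
    (t * (t * s) ^ (k + 1)) * t * (t * (t * s) ^ (k + 1)) = s := by
  have h := dih_inv ht hs (k + 1)
  have ht' := mul_self' ht
  have hr : (t * s) ^ (2 * k + 1) = 1 := by rw [← hk]; exact pow_orderOf_eq_one _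
  constructor
  · calc t * (t * s) ^ (k + 1) * (t * (t * s) ^ (k + 1))
        = (t * (t * s) ^ (k + 1) * t) * (t * s) ^ (k + 1) := by group
      _ = 1 := by rw [h, inv_mul_cancel]
  · calc t * (t * s) ^ (k + 1) * t * (t * (t * s) ^ (k + 1))
        = t * (t * s) ^ (k + 1) * (t * t) * (t * s) ^ (k + 1) := by group
      _ = t * ((t * s) ^ (k + 1) * (t * s) ^ (k + 1)) := by rw [ht', mul_one, mul_assoc]
      _ = t * ((t * s) ^ (2 * k + 1) * (t * s)) := by
          rw [← pow_add, ← pow_succ]; congr 2; ring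
      _ = s := by rw [hr, one_mul, ← mul_assoc, ht', one_mul]

end dihedral

section SE
variable [Finite G] {H : Subgroup G}

omit [Finite G] in
theorem even_card_of_mem (K : Subgroup G) {s : G} (hs : orderOf s = 2) (hsK : s ∈ K) :
    Even (Nat.card K) := by
  rw [even_iff_two_dvd]
  have h : orderOf (⟨s, hsK⟩ : K) = 2 := by rw [Subgroup.orderOf_mk, hs]
  rw [← h]
  exact orderOf_dvd_natCard _

theorem exists_invol_of_even (K : Subgroup G) (h : Even (Nat.card K)) :
    ∃ s : G, s ∈ K ∧ orderOf s = 2 := by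
  have : Fact (Nat.Prime 2) := ⟨Nat.prime_two⟩
  obtain ⟨s, hs⟩ := exists_prime_orderOf_dvd_card' (G := K) 2 (even_iff_two_dvd.mp h)
  exact ⟨s.1, s.2, by rw [Subgroup.orderOf_coe, hs]⟩

omit [Finite G] in
/-- The basic property of a strongly embedded subgroup. -/
theorem key (hH : Cfsg.IsStronglyEmbedded H) {g s : G} (hs : orderOf s = 2) (hsH : s ∈ H)
    (hg : g⁻¹ * s * g ∈ H) : g ∈ H := by
  by_contra hgH
  have hodd := hH.2.2 g hgH
  have hmem : s ∈ H ⊓ H.map (MulAut.conj g).toMonoidHom := ⟨hsH, (mem_conj_map H g s).mpr hg⟩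
  exact (Nat.not_even_iff_odd.mpr hodd) (even_card_of_mem _ hs hmem)

omit [Finite G] in
theorem smul_mk_eq_iff (H : Subgroup G) (t g : G) :
    t • (QuotientGroup.mk g : G ⧸ H) = QuotientGroup.mk g ↔ g⁻¹ * t * g ∈ H := by
  rw [MulAction.Quotient.smul_mk, eq_comm, QuotientGroup.eq, smul_eq_mul, mul_assoc]

omit [Finite G] in
theorem smul_mk_one_iff (H : Subgroup G) (t : G) :
    t • (QuotientGroup.mk 1 : G ⧸ H) = QuotientGroup.mk 1 ↔ t ∈ H := by
  rw [smul_mk_eq_iff]; simp

omit [Finite G] in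
/-- An involution fixes at most one coset of a strongly embedded subgroup. -/
theorem fix_unique (hH : Cfsg.IsStronglyEmbedded H) {t : G} (ht : orderOf t = 2) {x y : G ⧸ H}
    (hx : t • x = x) (hy : t • y = y) : x = y := by
  induction x using QuotientGroup.induction_on with
  | H a =>
    induction y using QuotientGroup.induction_on with
    | H b =>
      rw [smul_mk_eq_iff] at hx hy
      rw [QuotientGroup.eq]
      have hs : orderOf (a⁻¹ * t * a) = 2 := by
        have := orderOf_conj' a⁻¹ t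
        rw [inv_inv] at this
        rw [this, ht]
      apply key hH hs hx
      have : (a⁻¹ * b)⁻¹ * (a⁻¹ * t * a) * (a⁻¹ * b) = b⁻¹ * t * b := by group
      rw [this]; exact hy

/-- Every involution fixes some coset of a strongly embedded subgroup. -/
theorem exists_fix (hH : Cfsg.IsStronglyEmbedded H) {t : G} (ht : orderOf t = 2) :
    ∃ x : G ⧸ H, t • x = x := by
  obtain ⟨s, hsH, hs⟩ := exists_invol_of_even H hH.2.1
  have hpos : 0 < orderOf (t * s) := orderOf_pos _
  rcases Nat.even_or_odd' (orderOf (t * s)) with ⟨k, hk | hk⟩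
  · have hk0 : 0 < k := by omega
    obtain ⟨hz, hzt, hzs⟩ := dih_even ht hs hk hk0
    have hzH : (t * s) ^ k ∈ H := by
      apply key hH hs hsH
      have : ((t * s) ^ k)⁻¹ * s * (t * s) ^ k = s := by
        rw [mul_assoc, ← hzs.eq, ← mul_assoc, inv_mul_cancel, one_mul]
      rw [this]; exact hsH
    have htH : t ∈ H := by
      apply key hH hz hzH
      have : t⁻¹ * (t * s) ^ k * t = (t * s) ^ k := by
        rw [mul_assoc, hzt.eq, ← mul_assoc, inv_mul_cancel, one_mul]
      rw [this]; exact hzH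
    exact ⟨QuotientGroup.mk 1, (smul_mk_one_iff H t).mpr htH⟩
  · obtain ⟨hi2, hi⟩ := dih_odd ht hs hk
    refine ⟨QuotientGroup.mk (t * (t * s) ^ (k + 1)), ?_⟩
    rw [smul_mk_eq_iff]
    have hinv : (t * (t * s) ^ (k + 1))⁻¹ = t * (t * s) ^ (k + 1) := inv_eq_of_mul_eq_one_left hi2
    have : (t * (t * s) ^ (k + 1))⁻¹ * t * (t * (t * s) ^ (k + 1)) = s := by rw [hinv, hi]
    rw [this]; exact hsH

/-- Involutions fixing different points have a product of odd order. -/
theorem odd_of_fix_ne (hH : Cfsg.IsStronglyEmbedded H) {t s : G} (ht : orderOf t = 2)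
    (hs : orderOf s = 2) {x y : G ⧸ H} (hx : t • x = x) (hy : s • y = y) (hxy : x ≠ y) :
    Odd (orderOf (t * s)) := by
  have hpos : 0 < orderOf (t * s) := orderOf_pos _
  rcases Nat.even_or_odd' (orderOf (t * s)) with ⟨k, hk | hk⟩
  · exfalso
    have hk0 : 0 < k := by omega
    obtain ⟨hz, hzt, hzs⟩ := dih_even ht hs hk hk0
    have h1 : (t * s) ^ k • x = x := by
      apply fix_unique hH ht _ hx
      rw [← mul_smul, ← hzt.eq, mul_smul, hx]
    have h2 : (t * s) ^ k • y = y := by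
      apply fix_unique hH hs _ hy
      rw [← mul_smul, ← hzs.eq, mul_smul, hy]
    exact hxy (fix_unique hH hz h1 h2)
  · exact ⟨k, hk⟩

/-- Involutions fixing different points are conjugate by an involution swapping the points. -/
theorem exists_swap (hH : Cfsg.IsStronglyEmbedded H) {t s : G} (ht : orderOf t = 2)
    (hs : orderOf s = 2) {x y : G ⧸ H} (hx : t • x = x) (hy : s • y = y) (hxy : x ≠ y) :
    ∃ i : G, orderOf i = 2 ∧ i * t * i⁻¹ = s ∧ i • x = y ∧ i • y = x := by
  obtain ⟨k, hk⟩ := odd_of_fix_ne hH ht hs hx hy hxy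
  obtain ⟨hi2, hi⟩ := dih_odd ht hs hk
  set i := t * (t * s) ^ (k + 1) with hidef
  have hinv : i⁻¹ = i := inv_eq_of_mul_eq_one_left hi2
  have hix : i • x = y := by
    apply fix_unique hH hs _ hy
    rw [← hi, mul_smul, mul_smul, ← mul_smul i i, hi2, one_smul, hx]
  have hi1 : i ≠ 1 := by
    intro h; rw [h, one_smul] at hix; exact hxy hix
  refine ⟨i, orderOf_two_of hi2 hi1, by rw [hinv, hi], hix, ?_⟩
  rw [← hix, ← mul_smul, hi2, one_smul]

/-- All involutions of a group with a strongly embedded subgroup are conjugate. -/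
theorem isConj_invol (hH : Cfsg.IsStronglyEmbedded H) {a b : G} (ha : orderOf a = 2)
    (hb : orderOf b = 2) : IsConj a b := by
  obtain ⟨x, hx⟩ := exists_fix hH ha
  obtain ⟨y, hy⟩ := exists_fix hH hb
  by_cases hxy : x = y
  · -- find a third involution fixing another point
    obtain ⟨g, hg⟩ : ∃ g : G, g • x ≠ x := by
      by_contra hcon
      push Not at hcon
      apply hH.1
      rw [eq_top_iff]
      intro g _
      induction x using QuotientGroup.induction_on with
      | H a0 =>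
        have h1 := hcon (a0 * g * a0⁻¹)
        rw [smul_mk_eq_iff] at h1
        have : a0⁻¹ * (a0 * g * a0⁻¹) * a0 = g := by group
        rwa [this] at h1
    have hc : orderOf (g * a * g⁻¹) = 2 := by rw [orderOf_conj', ha]
    have hcz : (g * a * g⁻¹) • (g • x) = g • x := by
      rw [← mul_smul, inv_mul_cancel_right, mul_smul, hx]
    obtain ⟨i, -, hi, -, -⟩ := exists_swap hH ha hc hx hcz (Ne.symm hg)
    have hy' : b • x = x := by rw [hxy]; exact hy
    obtain ⟨j, -, hj, -, -⟩ := exists_swap hH hc hb hcz hy' hg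
    rw [isConj_iff]
    refine ⟨j * i, ?_⟩
    rw [← hj, ← hi]; group
  · obtain ⟨i, -, hi, -, -⟩ := exists_swap hH ha hb hx hy hxy
    exact isConj_iff.mpr ⟨i, hi⟩

/-! ### counting -/

/-- the number of involutions of `H`. -/
noncomputable def numInv (H : Subgroup G) : ℕ := Nat.card {t : G // orderOf t = 2 ∧ t ∈ H}

theorem numInv_pos (hH : Cfsg.IsStronglyEmbedded H) : 0 < numInv H := by
  obtain ⟨s, hsH, hs⟩ := exists_invol_of_even H hH.2.1
  have : Nonempty {t : G // orderOf t = 2 ∧ t ∈ H} := ⟨⟨s, hs, hsH⟩⟩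
  exact Nat.card_pos

omit [Finite G] in
/-- every point stabiliser has the same number of involutions. -/
theorem card_fix (H : Subgroup G) (z : G ⧸ H) :
    Nat.card {t : G // orderOf t = 2 ∧ t • z = z} = numInv H := by
  induction z using QuotientGroup.induction_on with
  | H g =>
    apply Nat.card_congr
    refine ⟨fun t => ⟨g⁻¹ * t.1 * g, ?_, ?_⟩, fun t => ⟨g * t.1 * g⁻¹, ?_, ?_⟩, ?_, ?_⟩
    · have := orderOf_conj' g⁻¹ t.1
      rw [inv_inv] at this
      rw [this, t.2.1]
    · exact (smul_mk_eq_iff H t.1 g).mp t.2.2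
    · rw [orderOf_conj', t.2.1]
    · rw [smul_mk_eq_iff]
      have : g⁻¹ * (g * t.1 * g⁻¹) * g = t.1 := by group
      rw [this]; exact t.2.2
    · intro t; apply Subtype.ext; simp only; group
    · intro t; apply Subtype.ext; simp only; group

/-- `|I| = |G:H| * m`. -/
theorem card_invol (hH : Cfsg.IsStronglyEmbedded H) :
    Nat.card {t : G // orderOf t = 2} = Nat.card (G ⧸ H) * numInv H := by
  have e : (Σ z : G ⧸ H, {t : G // orderOf t = 2 ∧ t • z = z}) ≃ {t : G // orderOf t = 2} := by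
    refine Equiv.ofBijective (fun p => ⟨p.2.1, p.2.2.1⟩) ⟨?_, ?_⟩
    · rintro ⟨z, t, ht, htz⟩ ⟨z', t', ht', htz'⟩ h
      simp only [Subtype.mk.injEq] at h
      subst h
      have : z = z' := fix_unique hH ht htz htz'
      subst this
      rfl
    · rintro ⟨t, ht⟩
      obtain ⟨z, hz⟩ := exists_fix hH ht
      exact ⟨⟨z, t, ht, hz⟩, rfl⟩
  have : Fintype (G ⧸ H) := Fintype.ofFinite _
  rw [← Nat.card_congr e, Nat.card_sigma]
  simp only [card_fix, Finset.sum_const, Finset.card_univ, smul_eq_mul, Nat.card_eq_fintype_card]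

omit [Finite G] in
theorem card_invol_sigma (H : Subgroup G) (x : G ⧸ H) :
    Nat.card (Σ y : G ⧸ H, {i : G // orderOf i = 2 ∧ i • x = y}) =
      Nat.card {t : G // orderOf t = 2} := by
  apply Nat.card_congr
  refine ⟨fun p => ⟨p.2.1, p.2.2.1⟩, fun t => ⟨t.1 • x, t.1, t.2, rfl⟩, ?_, ?_⟩
  · rintro ⟨y, i, hi, hxy⟩
    subst hxy
    rfl
  · rintro ⟨t, ht⟩; rfl

/-- lower bound for the number of involutions moving `x` to `y`. -/
theorem numInv_le (hH : Cfsg.IsStronglyEmbedded H) (x y : G ⧸ H) :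
    numInv H ≤ Nat.card {i : G // orderOf i = 2 ∧ i • x = y} := by
  by_cases hxy : x = y
  · subst hxy
    exact (card_fix H x).ge
  · have hm := numInv_pos hH
    -- surjection I_x × S(x,y) → I_x × I_y
    let f : {t : G // orderOf t = 2 ∧ t • x = x} × {i : G // orderOf i = 2 ∧ i • x = y} →
        {t : G // orderOf t = 2 ∧ t • x = x} × {s : G // orderOf s = 2 ∧ s • y = y} :=
      fun p => (p.1, ⟨p.2.1 * p.1.1 * p.2.1⁻¹, by rw [orderOf_conj', p.1.2.1], by
        have h1 : p.2.1⁻¹ • y = x := inv_smul_eq_iff.mpr p.2.2.2.symm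
        rw [mul_smul, mul_smul, h1, p.1.2.2, p.2.2.2]⟩)
    have hf : Function.Surjective f := by
      rintro ⟨⟨t, ht, htx⟩, ⟨s, hs, hsy⟩⟩
      obtain ⟨i, hi, hits, hix, -⟩ := exists_swap hH ht hs htx hsy hxy
      refine ⟨(⟨t, ht, htx⟩, ⟨i, hi, hix⟩), ?_⟩
      simp only [f]
      congr 1
      exact Subtype.ext hits
    have h := Nat.card_le_card_of_surjective f hf
    rw [Nat.card_prod, Nat.card_prod, card_fix, card_fix] at h
    exact Nat.le_of_mul_le_mul_left h hm

/-- **Main count**: for `x ≠ y` exactly `m` involutions move `x` to `y` (also true for `x = y`). -/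
theorem card_swap (hH : Cfsg.IsStronglyEmbedded H) (x y : G ⧸ H) :
    Nat.card {i : G // orderOf i = 2 ∧ i • x = y} = numInv H := by
  have : Fintype (G ⧸ H) := Fintype.ofFinite _
  have h1 := card_invol_sigma H x
  rw [Nat.card_sigma, card_invol hH] at h1
  have h2 : ∑ _y : G ⧸ H, numInv H = Nat.card (G ⧸ H) * numInv H := by
    simp only [Finset.sum_const, Finset.card_univ, smul_eq_mul, Nat.card_eq_fintype_card]
  have h3 := (Finset.sum_eq_sum_iff_of_le (s := Finset.univ)
    (f := fun _ : G ⧸ H => numInv H)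
    (g := fun y : G ⧸ H => Nat.card {i : G // orderOf i = 2 ∧ i • x = y})
    (fun y _ => numInv_le hH x y)).mp (by rw [h2, h1])
  exact (h3 y (Finset.mem_univ y)).symm

omit [Finite G] in
theorem swap_back {j : G} (hj : orderOf j = 2) {a b : G ⧸ H} (h : j • a = b) : j • b = a := by
  rw [← h, ← mul_smul, mul_self' hj, one_smul]

theorem exists_invol_fix (hH : Cfsg.IsStronglyEmbedded H) (w : G ⧸ H) :
    ∃ t : G, orderOf t = 2 ∧ t • w = w := by
  have h := card_fix H w
  have hpos := numInv_pos hH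
  rw [← h] at hpos
  obtain ⟨t⟩ := (Nat.card_pos_iff.mp hpos).1
  exact ⟨t.1, t.2.1, t.2.2⟩

theorem exists_swap_pt (hH : Cfsg.IsStronglyEmbedded H) (x y : G ⧸ H) :
    ∃ i : G, orderOf i = 2 ∧ i • x = y := by
  have h := card_swap hH x y
  have hpos := numInv_pos hH
  rw [← h] at hpos
  obtain ⟨t⟩ := (Nat.card_pos_iff.mp hpos).1
  exact ⟨t.1, t.2.1, t.2.2⟩

/-- the two point stabiliser `H ∩ G_w` is transitive on the involutions of `H`. -/
theorem exists_conj_fix (hH : Cfsg.IsStronglyEmbedded H) {x w : G ⧸ H} (hxw : x ≠ w) {s t : G}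
    (hs : orderOf s = 2) (hsx : s • x = x) (ht : orderOf t = 2) (htx : t • x = x) :
    ∃ d : G, d • x = x ∧ d • w = w ∧ d * s * d⁻¹ = t := by
  obtain ⟨t', ht', ht'w⟩ := exists_invol_fix hH w
  obtain ⟨i1, -, hi1, hi1x, hi1w⟩ := exists_swap hH hs ht' hsx ht'w hxw
  obtain ⟨i2, -, hi2, hi2x, hi2w⟩ := exists_swap hH ht ht' htx ht'w hxw
  refine ⟨i2⁻¹ * i1, ?_, ?_, ?_⟩
  · rw [mul_smul, hi1x, inv_smul_eq_iff, hi2x]
  · rw [mul_smul, hi1w, inv_smul_eq_iff, hi2w]
  · calc i2⁻¹ * i1 * s * (i2⁻¹ * i1)⁻¹ = i2⁻¹ * (i1 * s * i1⁻¹) * i2 := by group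
      _ = i2⁻¹ * (i2 * t * i2⁻¹) * i2 := by rw [hi1, hi2]
      _ = t := by group

end SE

end Cfsg.Agent.Helper45.SE
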