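import Mathlib
import Cfsg.Prelude.Def_Involutions
import Cfsg.Agent.Lib.Helper45.StronglyEmbedded
import Cfsg.Agent.S0002

/-!
# Groups in which involution centralizers are elementary abelian 2-groups (helper45)

`T` a noncyclic, non-normal Sylow 2-subgroup, `C_G(t)` elementary abelian for all involutions `t`.
`H = N_G(T)` is strongly embedded, a Frobenius group `T ⋊ D` of order `q(q-1)`.
-/

set_option autoImplicit false

namespace Cfsg.Agent.Helper45.CIT

open Cfsg.Agent.Helper45.SE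
open Pointwise

variable {G : Type*} [Group G]

/-- The hypotheses. -/
structure Hyp (T : Sylow 2 G) : Prop where
  nc : ¬ IsCyclic (T : Subgroup G)
  nn : ¬ (T : Subgroup G).Normal
  cent : ∀ t : G, orderOf t = 2 → IsMulCommutative (Subgroup.centralizer ({t} : Set G)) ∧
    ∀ c ∈ Subgroup.centralizer ({t} : Set G), c ^ 2 = 1

/-- the normalizer of `T`. -/
abbrev NT (T : Sylow 2 G) : Subgroup G := Subgroup.normalizer ((T : Subgroup G) : Set G)

theorem isPGroup_of_sq (K : Subgroup G) (h : ∀ c ∈ K, c ^ 2 = 1) : IsPGroup 2 K := by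
  intro c
  refine ⟨1, ?_⟩
  apply Subtype.ext
  rw [pow_one, Subgroup.coe_pow, h c.1 c.2, Subgroup.coe_one]

/-- an involution normalizing a Sylow 2-subgroup lies in it -/
theorem mem_of_mem_normalizer (T : Sylow 2 G) {s : G} (hs : orderOf s = 2)
    (hsN : s ∈ NT T) : s ∈ (T : Subgroup G) := by
  have hz : IsPGroup 2 (Subgroup.zpowers s) := by
    intro c
    refine ⟨1, ?_⟩
    obtain ⟨c, k, rfl⟩ := c
    apply Subtype.ext
    simp only [pow_one, Subgroup.coe_pow, Subgroup.coe_one]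
    rw [← zpow_natCast, ← zpow_mul, mul_comm, zpow_mul, zpow_natCast]
    have : s ^ 2 = 1 := by rw [← hs]; exact pow_orderOf_eq_one s
    rw [this, one_zpow]
  have hle : Subgroup.zpowers s ≤ Subgroup.normalizer ((T : Subgroup G) : Set G) := by
    rw [Subgroup.zpowers_le]; exact hsN
  have hsup := IsPGroup.to_sup_of_normal_left' T.isPGroup' hz hle
  have := T.is_maximal' hsup le_sup_left
  have h2 : Subgroup.zpowers s ≤ (T : Subgroup G) := by
    rw [← this]; exact le_sup_right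
  exact h2 (Subgroup.mem_zpowers s)

section
variable [Finite G] {T : Sylow 2 G}

/-- there is an involution `z ∈ T` with `C(z) = T`. -/
theorem Hyp.exists_central (h : Hyp T) :
    ∃ z : G, orderOf z = 2 ∧ z ∈ (T : Subgroup G) ∧
      Subgroup.centralizer ({z} : Set G) = (T : Subgroup G) := by
  have : Fact (Nat.Prime 2) := ⟨Nat.prime_two⟩
  have hTnt : Nontrivial (T : Subgroup G) := by
    by_contra h'
    rw [not_nontrivial_iff_subsingleton] at h'
    exact h.nc inferInstance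
  have hcen : Nontrivial (Subgroup.center (T : Subgroup G)) := T.isPGroup'.center_nontrivial
  have hceven : Even (Nat.card (Subgroup.center (T : Subgroup G))) := by
    have hp : IsPGroup 2 (Subgroup.center (T : Subgroup G)) :=
      T.isPGroup'.to_subgroup _
    obtain ⟨n, hn⟩ := IsPGroup.iff_card.mp hp
    rw [hn]
    have hn0 : n ≠ 0 := by
      intro h0
      rw [h0, pow_zero] at hn
      have := (Nat.card_eq_one_iff_unique.mp hn).1
      exact not_subsingleton _ this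
    exact (Nat.even_pow.mpr ⟨even_two, hn0⟩)
  have h2dvd : 2 ∣ Nat.card (Subgroup.center (T : Subgroup G)) := even_iff_two_dvd.mp hceven
  obtain ⟨z, hz⟩ := exists_prime_orderOf_dvd_card' (G := Subgroup.center (T : Subgroup G)) 2 h2dvd
  have hzG : orderOf ((z : (T : Subgroup G)) : G) = 2 := by
    rw [Subgroup.orderOf_coe, Subgroup.orderOf_coe, hz]
  have hzT : ((z : (T : Subgroup G)) : G) ∈ (T : Subgroup G) := (z : (T : Subgroup G)).2
  have hTz : (T : Subgroup G) ≤ Subgroup.centralizer ({((z : (T : Subgroup G)) : G)} : Set G) := by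
    intro n hn
    rw [Subgroup.mem_centralizer_singleton_iff]
    have := Subgroup.mem_center_iff.mp z.2 ⟨n, hn⟩
    have h2 := congrArg (Subtype.val) this
    simpa using h2
  exact ⟨_, hzG, hzT, T.is_maximal' (isPGroup_of_sq _ (h.cent _ hzG).2) hTz⟩

theorem Hyp.comm (h : Hyp T) : ∀ a ∈ (T : Subgroup G), ∀ b ∈ (T : Subgroup G), a * b = b * a := by
  obtain ⟨z, hz, -, hCz⟩ := h.exists_central
  intro a ha b hb
  have hc := (h.cent _ hz).1
  rw [hCz] at hc
  have := hc.is_comm.comm (⟨a, ha⟩ : (T : Subgroup G)) ⟨b, hb⟩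
  exact congrArg Subtype.val this

theorem Hyp.sq (h : Hyp T) : ∀ a ∈ (T : Subgroup G), a * a = 1 := by
  obtain ⟨z, hz, -, hCz⟩ := h.exists_central
  intro a ha
  have := (h.cent _ hz).2 a (by rw [hCz]; exact ha)
  rwa [pow_two] at this

theorem Hyp.orderOf_eq_two (h : Hyp T) {a : G} (ha : a ∈ (T : Subgroup G)) (ha1 : a ≠ 1) :
    orderOf a = 2 := orderOf_two_of (h.sq a ha) ha1

/-- `C(s) = T` for every nonidentity element of `T`. -/
theorem Hyp.centralizer_eq (h : Hyp T) {s : G} (hsT : s ∈ (T : Subgroup G)) (hs1 : s ≠ 1) :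
    Subgroup.centralizer ({s} : Set G) = (T : Subgroup G) := by
  have hs := h.orderOf_eq_two hsT hs1
  apply T.is_maximal' (isPGroup_of_sq _ (h.cent _ hs).2)
  intro n hn
  rw [Subgroup.mem_centralizer_singleton_iff]
  exact h.comm n hn s hsT

theorem Hyp.mem_of_commute (h : Hyp T) {s c : G} (hsT : s ∈ (T : Subgroup G)) (hs1 : s ≠ 1)
    (hc : c * s = s * c) : c ∈ (T : Subgroup G) := by
  rw [← h.centralizer_eq hsT hs1, Subgroup.mem_centralizer_singleton_iff]; exact hc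

omit [Finite G] in
theorem Hyp.le_NT (_h : Hyp T) : (T : Subgroup G) ≤ NT T := Subgroup.le_normalizer

/-- `N_G(T)` is strongly embedded. -/
theorem Hyp.se (h : Hyp T) : Cfsg.IsStronglyEmbedded (NT T) := by
  obtain ⟨z, hzG, hzT, -⟩ := h.exists_central
  refine ⟨?_, ?_, ?_⟩
  · intro h'
    exact h.nn (Subgroup.normalizer_eq_top_iff.mp h')
  · exact even_card_of_mem _ hzG (Subgroup.le_normalizer hzT)
  · intro g hg
    rw [← Nat.not_even_iff_odd]
    intro hev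
    apply hg
    obtain ⟨s, hsmem, hs⟩ := exists_invol_of_even _ hev
    have hsT : s ∈ (T : Subgroup G) := mem_of_mem_normalizer T hs hsmem.1
    have hs' : orderOf (g⁻¹ * s * g) = 2 := by
      have := orderOf_conj' g⁻¹ s
      rw [inv_inv] at this
      rw [this, hs]
    have hs'T : g⁻¹ * s * g ∈ (T : Subgroup G) :=
      mem_of_mem_normalizer T hs' ((mem_conj_map _ g s).mp hsmem.2)
    have h1 := h.centralizer_eq hsT (ne_one' hs)
    have h2 := h.centralizer_eq hs'T (ne_one' hs')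
    rw [Subgroup.mem_normalizer_iff]
    intro n
    have e1 : g * n * g⁻¹ ∈ (T : Subgroup G) ↔ g * n * g⁻¹ * s = s * (g * n * g⁻¹) := by
      rw [← h1, Subgroup.mem_centralizer_singleton_iff]
    have e2 : n ∈ (T : Subgroup G) ↔ n * (g⁻¹ * s * g) = (g⁻¹ * s * g) * n := by
      rw [← h2, Subgroup.mem_centralizer_singleton_iff]
    rw [e1, e2]
    constructor
    · intro h
      have : g * n * g⁻¹ * s = g * (n * (g⁻¹ * s * g)) * g⁻¹ := by group
      rw [this, h]; group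
    · intro h
      have : n * (g⁻¹ * s * g) = g⁻¹ * (g * n * g⁻¹ * s) * g := by group
      rw [this, h]; group

omit [Finite G] in
/-- conjugating by an element of `N(T)` preserves `T`. -/
theorem conj_mem_T {h t : G} (hh : h ∈ NT T) (ht : t ∈ (T : Subgroup G)) :
    h * t * h⁻¹ ∈ (T : Subgroup G) :=
  (Subgroup.mem_normalizer_iff.mp hh t).mp ht

/-- the number of involutions of `N(T)` is `q - 1`. -/
theorem Hyp.numInv_eq (h : Hyp T) : numInv (NT T) = Nat.card (T : Subgroup G) - 1 := by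
  have e : {t : G // orderOf t = 2 ∧ t ∈ NT T} ≃ {t : (T : Subgroup G) // t ≠ 1} := by
    refine ⟨fun t => ⟨⟨t.1, mem_of_mem_normalizer T t.2.1 t.2.2⟩, ?_⟩,
      fun t => ⟨t.1.1, h.orderOf_eq_two t.1.2 ?_, h.le_NT t.1.2⟩, ?_, ?_⟩
    · intro h1
      have := congrArg Subtype.val h1
      exact ne_one' t.2.1 this
    · intro h1
      exact t.2 (Subtype.ext h1)
    · intro t; rfl
    · intro t; rfl
  unfold numInv
  rw [Nat.card_congr e]
  have : Fintype (T : Subgroup G) := Fintype.ofFinite _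
  classical
  rw [Nat.card_eq_fintype_card, Fintype.card_subtype_compl, Nat.card_eq_fintype_card]
  simp

theorem card_ne_one (K : Subgroup G) : Nat.card {t : K // t ≠ 1} = Nat.card K - 1 := by
  have : Fintype K := Fintype.ofFinite _
  classical
  rw [Nat.card_eq_fintype_card, Fintype.card_subtype_compl, Nat.card_eq_fintype_card]
  simp

theorem Hyp.two_lt_card (h : Hyp T) : 2 < Nat.card (T : Subgroup G) := by
  have hpos : 0 < Nat.card (T : Subgroup G) := Nat.card_pos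
  by_contra hle
  push Not at hle
  apply h.nc
  rcases Nat.lt_or_ge (Nat.card (T : Subgroup G)) 2 with h1 | h1
  · have : Nat.card (T : Subgroup G) = 1 := by omega
    have := (Nat.card_eq_one_iff_unique.mp this).1
    infer_instance
  · have h2 : Nat.card (T : Subgroup G) = 2 := by omega
    have : Fact (Nat.Prime 2) := ⟨Nat.prime_two⟩
    exact isCyclic_of_prime_card h2

/-- base point of `G ⧸ N(T)`. -/
abbrev pt0 (T : Sylow 2 G) : G ⧸ NT T := QuotientGroup.mk 1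

/-- two point stabiliser `N(T) ∩ G_w`. -/
def Dw (T : Sylow 2 G) (w : G ⧸ NT T) : Subgroup G := NT T ⊓ MulAction.stabilizer G w

omit [Finite G] in
theorem mem_Dw {d : G} {w : G ⧸ NT T} : d ∈ Dw T w ↔ d ∈ NT T ∧ d • w = w := by
  rw [Dw, Subgroup.mem_inf, MulAction.mem_stabilizer_iff]

omit [Finite G] in
theorem mem_NT_iff {d : G} : d ∈ NT T ↔ d • pt0 T = pt0 T := (smul_mk_one_iff _ d).symm

omit [Finite G] in
theorem fix_pt0 {s : G} (hs : s ∈ (T : Subgroup G)) : s • pt0 T = pt0 T :=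
  mem_NT_iff.mp (Subgroup.le_normalizer hs)

theorem Hyp.Dw_inf_T (h : Hyp T) {w : G ⧸ NT T} (hw : pt0 T ≠ w) {d : G} (hd : d ∈ Dw T w)
    (hdT : d ∈ (T : Subgroup G)) : d = 1 := by
  by_contra hd1
  have ho := h.orderOf_eq_two hdT hd1
  exact hw (fix_unique h.se ho (fix_pt0 hdT) (mem_Dw.mp hd).2)

theorem Hyp.exists_conj_Dw (h : Hyp T) {w : G ⧸ NT T} (hw : pt0 T ≠ w) {s t : G}
    (hs : s ∈ (T : Subgroup G)) (hs1 : s ≠ 1) (ht : t ∈ (T : Subgroup G)) (ht1 : t ≠ 1) :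
    ∃ d ∈ Dw T w, d * s * d⁻¹ = t := by
  obtain ⟨d, hdx, hdw, hd⟩ := exists_conj_fix h.se hw (h.orderOf_eq_two hs hs1) (fix_pt0 hs)
    (h.orderOf_eq_two ht ht1) (fix_pt0 ht)
  exact ⟨d, mem_Dw.mpr ⟨mem_NT_iff.mpr hdx, hdw⟩, hd⟩

theorem Hyp.conj_unique (h : Hyp T) {w : G ⧸ NT T} (hw : pt0 T ≠ w) {s : G}
    (hs : s ∈ (T : Subgroup G)) (hs1 : s ≠ 1) {d1 d2 : G} (hd1 : d1 ∈ Dw T w) (hd2 : d2 ∈ Dw T w)
    (he : d1 * s * d1⁻¹ = d2 * s * d2⁻¹) : d1 = d2 := by
  have hc : (d2⁻¹ * d1) * s = s * (d2⁻¹ * d1) := by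
    calc d2⁻¹ * d1 * s = d2⁻¹ * (d1 * s * d1⁻¹) * d1 := by group
      _ = d2⁻¹ * (d2 * s * d2⁻¹) * d1 := by rw [he]
      _ = s * (d2⁻¹ * d1) := by group
  have hT := h.mem_of_commute hs hs1 hc
  have hD : d2⁻¹ * d1 ∈ Dw T w := (Dw T w).mul_mem ((Dw T w).inv_mem hd2) hd1
  have := h.Dw_inf_T hw hD hT
  exact (inv_mul_eq_one.mp this).symm

/-- `|D_w| = q - 1`. -/
theorem Hyp.card_Dw (h : Hyp T) {w : G ⧸ NT T} (hw : pt0 T ≠ w) :
    Nat.card (Dw T w) = Nat.card (T : Subgroup G) - 1 := by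
  obtain ⟨z, hz, hzT, -⟩ := h.exists_central
  have hz1 := ne_one' hz
  rw [← card_ne_one]
  apply Nat.card_eq_of_bijective
    (fun d : Dw T w => (⟨⟨d.1 * z * d.1⁻¹, conj_mem_T (mem_Dw.mp d.2).1 hzT⟩, by
      intro h1
      have h2 : d.1 * z * d.1⁻¹ = 1 := congrArg Subtype.val h1
      apply hz1
      have : z = d.1⁻¹ * (d.1 * z * d.1⁻¹) * d.1 := by group
      rw [this, h2]; group⟩ : {t : (T : Subgroup G) // t ≠ 1}))
  constructor
  · intro d1 d2 he
    have he' : d1.1 * z * d1.1⁻¹ = d2.1 * z * d2.1⁻¹ := by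
      have := congrArg (fun t : {t : (T : Subgroup G) // t ≠ 1} => (t.1 : G)) he
      exact this
    exact Subtype.ext (h.conj_unique hw hzT hz1 d1.2 d2.2 he')
  · rintro ⟨⟨t, htT⟩, ht1⟩
    have ht1' : t ≠ 1 := fun h1 => ht1 (Subtype.ext h1)
    obtain ⟨d, hd, hdt⟩ := h.exists_conj_Dw hw hzT hz1 htT ht1'
    exact ⟨⟨d, hd⟩, Subtype.ext (Subtype.ext hdt)⟩

/-- `N(T) = D_w T`. -/
theorem Hyp.NT_eq_mul (h : Hyp T) {w : G ⧸ NT T} (hw : pt0 T ≠ w) {g : G} (hg : g ∈ NT T) :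
    ∃ d ∈ Dw T w, ∃ t ∈ (T : Subgroup G), g = d * t := by
  obtain ⟨z, hz, hzT, -⟩ := h.exists_central
  have hz1 := ne_one' hz
  have hgz : g * z * g⁻¹ ∈ (T : Subgroup G) := conj_mem_T hg hzT
  have hgz1 : g * z * g⁻¹ ≠ 1 := by
    intro h2
    apply hz1
    have : z = g⁻¹ * (g * z * g⁻¹) * g := by group
    rw [this, h2]; group
  obtain ⟨d, hd, hdz⟩ := h.exists_conj_Dw hw hzT hz1 hgz hgz1
  refine ⟨d, hd, d⁻¹ * g, ?_, by group⟩
  apply h.mem_of_commute hzT hz1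
  calc d⁻¹ * g * z = d⁻¹ * (g * z * g⁻¹) * g := by group
    _ = d⁻¹ * (d * z * d⁻¹) * g := by rw [hdz]
    _ = z * (d⁻¹ * g) := by group

omit [Finite G] in
theorem Dw_le_NT (w : G ⧸ NT T) : Dw T w ≤ NT T := inf_le_left

/-- `D_w` is a complement of `T` in `N(T)`. -/
theorem Hyp.isComplement' (h : Hyp T) {w : G ⧸ NT T} (hw : pt0 T ≠ w) :
    Subgroup.IsComplement' ((Dw T w).subgroupOf (NT T)) ((T : Subgroup G).subgroupOf (NT T)) := by
  apply Subgroup.isComplement'_of_disjoint_and_mul_eq_univ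
  · rw [Subgroup.disjoint_def]
    intro x hx1 hx2
    rw [Subgroup.mem_subgroupOf] at hx1 hx2
    exact Subtype.ext (h.Dw_inf_T hw hx1 hx2)
  · rw [Set.eq_univ_iff_forall]
    intro g
    obtain ⟨d, hd, t, ht, hg⟩ := h.NT_eq_mul hw g.2
    rw [Set.mem_mul]
    refine ⟨⟨d, Dw_le_NT w hd⟩, ?_, ⟨t, h.le_NT ht⟩, ?_, ?_⟩
    · exact Subgroup.mem_subgroupOf.mpr hd
    · exact Subgroup.mem_subgroupOf.mpr ht
    · exact Subtype.ext hg.symm

/-- `|N(T)| = q (q-1)`. -/
theorem Hyp.card_NT (h : Hyp T) :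
    Nat.card (NT T) = Nat.card (T : Subgroup G) * (Nat.card (T : Subgroup G) - 1) := by
  -- pick any point w ≠ pt0
  obtain ⟨w, hw⟩ : ∃ w : G ⧸ NT T, pt0 T ≠ w := by
    by_contra hcon
    push Not at hcon
    apply h.se.1
    rw [eq_top_iff]
    intro g _
    have := hcon (QuotientGroup.mk g)
    rw [pt0, QuotientGroup.eq] at this
    simpa using this
  have hc := (h.isComplement' hw).card_mul_card
  rw [Nat.card_congr (Subgroup.subgroupOfEquivOfLe (Dw_le_NT w)).toEquiv,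
    Nat.card_congr (Subgroup.subgroupOfEquivOfLe h.le_NT).toEquiv, h.card_Dw hw] at hc
  rw [← hc, mul_comm]

/-- every involution moving `pt0` to `w` inverts `D_w`. -/
theorem Hyp.inverts (h : Hyp T) {w : G ⧸ NT T} (hw : pt0 T ≠ w) {i : G} (hi : orderOf i = 2)
    (hiw : i • pt0 T = w) {d : G} (hd : d ∈ Dw T w) : i * d * i⁻¹ = d⁻¹ := by
  have hi2 := mul_self' hi
  have hiw' : i • w = pt0 T := swap_back hi hiw
  -- the map S(x,w) → D_w
  let f : {i' : G // orderOf i' = 2 ∧ i' • pt0 T = w} → Dw T w := fun i' =>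
    ⟨i * i'.1, mem_Dw.mpr ⟨mem_NT_iff.mpr (by rw [mul_smul, i'.2.2, hiw']), by
      have : i'.1 • w = pt0 T := swap_back i'.2.1 i'.2.2
      rw [mul_smul, this, hiw]⟩⟩
  have hf : Function.Injective f := by
    intro a b hab
    have : i * a.1 = i * b.1 := congrArg Subtype.val hab
    exact Subtype.ext (mul_left_cancel this)
  have hcard : Nat.card (Dw T w) ≤ Nat.card {i' : G // orderOf i' = 2 ∧ i' • pt0 T = w} := by
    rw [card_swap h.se, h.numInv_eq, h.card_Dw hw]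
  obtain ⟨i', hi'⟩ := (hf.bijective_of_nat_card_le hcard).2 ⟨d, hd⟩
  have hd' : i * i'.1 = d := congrArg Subtype.val hi'
  have hi'2 := mul_self' i'.2.1
  rw [inv_self hi, ← hd']
  calc i * (i * i'.1) * i = (i * i) * i'.1 * i := by group
    _ = i'.1 * i := by rw [hi2, one_mul]
    _ = (i * i'.1)⁻¹ := by rw [mul_inv_rev, inv_self hi, inv_self i'.2.1]

/-- `N_H(D_w) = D_w`. -/
theorem Hyp.normalizer_Dw (h : Hyp T) {w : G ⧸ NT T} (hw : pt0 T ≠ w) {g : G} (hg : g ∈ NT T)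
    (hgn : g ∈ Subgroup.normalizer ((Dw T w : Subgroup G) : Set G)) : g ∈ Dw T w := by
  obtain ⟨d, hd, t, ht, rfl⟩ := h.NT_eq_mul hw hg
  have htn : t ∈ Subgroup.normalizer ((Dw T w : Subgroup G) : Set G) := by
    have : t = d⁻¹ * (d * t) := by group
    rw [this]
    exact Subgroup.mul_mem _ (Subgroup.inv_mem _ (Subgroup.le_normalizer hd)) hgn
  suffices t = 1 by rw [this, mul_one]; exact hd
  by_contra ht1
  -- every element of D_w commutes with t, hence lies in T, hence is 1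
  have hall : ∀ d' ∈ Dw T w, d' = 1 := by
    intro d' hd'
    have h1 : t * d' * t⁻¹ ∈ Dw T w := (Subgroup.mem_normalizer_iff.mp htn d').mp hd'
    have h2 : t * d' * t⁻¹ * d'⁻¹ ∈ Dw T w := (Dw T w).mul_mem h1 ((Dw T w).inv_mem hd')
    have h3 : t * d' * t⁻¹ * d'⁻¹ ∈ (T : Subgroup G) := by
      have : t * d' * t⁻¹ * d'⁻¹ = t * (d' * t⁻¹ * d'⁻¹) := by group
      rw [this]
      exact (T : Subgroup G).mul_mem ht
        (conj_mem_T (Dw_le_NT w hd') ((T : Subgroup G).inv_mem ht))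
    have h4 := h.Dw_inf_T hw h2 h3
    have hc : d' * t = t * d' := by
      have : t * d' = (t * d' * t⁻¹ * d'⁻¹) * (d' * t) := by group
      rw [this, h4, one_mul]
    exact h.Dw_inf_T hw hd' (h.mem_of_commute ht ht1 hc)
  have hcard : Nat.card (Dw T w) = 1 := by
    rw [Nat.card_eq_one_iff_unique]
    exact ⟨⟨fun a b => Subtype.ext (by rw [hall a.1 a.2, hall b.1 b.2])⟩, ⟨1⟩⟩
  have := h.card_Dw hw
  have h2 := h.two_lt_card
  omega

theorem Hyp.Dw_no_invol (h : Hyp T) {w : G ⧸ NT T} (hw : pt0 T ≠ w) {d : G} (hd : d ∈ Dw T w)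
    (hd2 : d * d = 1) : d = 1 := by
  by_contra hd1
  have ho := orderOf_two_of hd2 hd1
  exact hw (fix_unique h.se ho (mem_NT_iff.mp (mem_Dw.mp hd).1) (mem_Dw.mp hd).2)

theorem Hyp.exists_ne_one_Dw (h : Hyp T) {w : G ⧸ NT T} (hw : pt0 T ≠ w) :
    ∃ d ∈ Dw T w, d ≠ 1 := by
  by_contra hcon
  push Not at hcon
  have hcard : Nat.card (Dw T w) = 1 := by
    rw [Nat.card_eq_one_iff_unique]
    exact ⟨⟨fun a b => Subtype.ext (by rw [hcon a.1 a.2, hcon b.1 b.2])⟩, ⟨1⟩⟩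
  have := h.card_Dw hw
  have h2 := h.two_lt_card
  omega

/-- if `D_y` fixes `w` (`w ≠ pt0`) then `D_y = D_w`. -/
theorem Hyp.Dw_eq_of_fix (h : Hyp T) {y w : G ⧸ NT T} (hy : pt0 T ≠ y) (hw : pt0 T ≠ w)
    (hfix : ∀ d ∈ Dw T y, d • w = w) : Dw T y = Dw T w := by
  apply Subgroup.eq_of_le_of_card_ge
  · intro d hd
    exact mem_Dw.mpr ⟨(mem_Dw.mp hd).1, hfix d hd⟩
  · rw [h.card_Dw hy, h.card_Dw hw]

/-- `D_y` fixes only `pt0` and `y`. -/
theorem Hyp.fix_Dw (h : Hyp T) {y w : G ⧸ NT T} (hy : pt0 T ≠ y)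
    (hfix : ∀ d ∈ Dw T y, d • w = w) : w = pt0 T ∨ w = y := by
  by_contra hcon
  push Not at hcon
  obtain ⟨hw0, hwy⟩ := hcon
  have hw : pt0 T ≠ w := Ne.symm hw0
  have e1 := h.Dw_eq_of_fix hy hw hfix
  obtain ⟨u, hu, hux⟩ := exists_swap_pt h.se (pt0 T) y
  obtain ⟨u2, hu2, hu2x⟩ := exists_swap_pt h.se (pt0 T) w
  have huy : u • y = pt0 T := swap_back hu hux
  -- w' = u • w
  have hw' : pt0 T ≠ u • w := by
    intro h1
    apply hwy
    have : u • (u • w) = u • pt0 T := by rw [← h1]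
    rw [← mul_smul, mul_self' hu, one_smul, hux] at this
    exact this
  have hfix' : ∀ d ∈ Dw T y, d • (u • w) = u • w := by
    intro d hd
    have hinv := h.inverts hy hu hux hd
    have hd' : d⁻¹ ∈ Dw T y := (Dw T y).inv_mem hd
    have : d • (u • w) = u • ((u⁻¹ * d * u) • w) := by
      rw [← mul_smul, ← mul_smul]; congr 1; group
    rw [this]
    have h2 : u⁻¹ * d * u = d⁻¹ := by
      rw [inv_self hu]
      have := hinv
      rw [inv_self hu] at this
      exact this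
    rw [h2, hfix _ hd']
  have e2 := h.Dw_eq_of_fix hy hw' hfix'
  obtain ⟨i, hi, hix⟩ := exists_swap_pt h.se (pt0 T) (u • w)
  -- c = u * u2, d0 = i⁻¹ * c
  have hc_cent : ∀ d ∈ Dw T y, (u * u2) * d * (u * u2)⁻¹ = d := by
    intro d hd
    have h1 : u2 * d * u2⁻¹ = d⁻¹ := h.inverts hw hu2 hu2x (e1 ▸ hd)
    have h2 : u * d⁻¹ * u⁻¹ = d⁻¹⁻¹ := h.inverts hy hu hux ((Dw T y).inv_mem hd)
    calc u * u2 * d * (u * u2)⁻¹ = u * (u2 * d * u2⁻¹) * u⁻¹ := by group
      _ = d := by rw [h1, h2, inv_inv]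
  have hi_inv : ∀ d ∈ Dw T y, i * d * i⁻¹ = d⁻¹ := by
    intro d hd
    exact h.inverts hw' hi hix (e2 ▸ hd)
  have hd0x : (i⁻¹ * (u * u2)) • pt0 T = pt0 T := by
    rw [mul_smul, mul_smul, hu2x, inv_smul_eq_iff, hix]
  have hd0n : i⁻¹ * (u * u2) ∈ Subgroup.normalizer ((Dw T y : Subgroup G) : Set G) := by
    rw [Subgroup.mem_normalizer_iff]
    intro d
    have key1 : i⁻¹ * (u * u2) * d * (i⁻¹ * (u * u2))⁻¹ = i⁻¹ * ((u * u2) * d * (u * u2)⁻¹) * i := by
      group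
    constructor
    · intro hd
      rw [key1, hc_cent d hd]
      have := hi_inv d⁻¹ ((Dw T y).inv_mem hd)
      rw [inv_inv, inv_self hi] at this
      rw [inv_self hi]
      have h3 : i * d * i = (i * d⁻¹ * i)⁻¹ := by
        rw [mul_inv_rev, mul_inv_rev, inv_inv, inv_self hi, mul_assoc]
      rw [h3, this]
      exact (Dw T y).inv_mem hd
    · intro hd
      -- d = (d0)⁻¹ * (d0 d d0⁻¹) * d0, and d0⁻¹ also normalizes by the forward direction
      set e := i⁻¹ * (u * u2) * d * (i⁻¹ * (u * u2))⁻¹ with he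
      -- (u*u2)⁻¹ * i * e * i⁻¹ * (u*u2) = d
      have h4 : d = (u * u2)⁻¹ * (i * e * i⁻¹) * (u * u2) := by rw [he]; group
      have h5 : i * e * i⁻¹ = e⁻¹ := hi_inv e hd
      have h6 : (u * u2) * e⁻¹ * (u * u2)⁻¹ = e⁻¹ := hc_cent _ ((Dw T y).inv_mem hd)
      have h7 : (u * u2)⁻¹ * e⁻¹ * (u * u2) = e⁻¹ := by
        calc (u * u2)⁻¹ * e⁻¹ * (u * u2)
            = (u * u2)⁻¹ * ((u * u2) * e⁻¹ * (u * u2)⁻¹) * (u * u2) := by rw [h6]
          _ = e⁻¹ := by group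
      rw [h4, h5, h7]
      exact (Dw T y).inv_mem hd
  have hd0 : i⁻¹ * (u * u2) ∈ Dw T y := h.normalizer_Dw hy (mem_NT_iff.mpr hd0x) hd0n
  -- i commutes with d0 and inverts it
  set d0 := i⁻¹ * (u * u2) with hd0def
  have hcd0 : (u * u2) * d0 * (u * u2)⁻¹ = d0 := hc_cent d0 hd0
  have hc_eq : u * u2 = i * d0 := by rw [hd0def]; group
  have hid0 : i * d0 * i⁻¹ = d0⁻¹ := hi_inv d0 hd0
  have hd0sq : d0 * d0 = 1 := by
    -- from hcd0 with c = i d0: i d0 d0 d0⁻¹ i⁻¹ = d0 → i d0 i⁻¹ = d0 → d0⁻¹ = d0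
    rw [hc_eq] at hcd0
    have : i * d0 * i⁻¹ = d0 := by
      calc i * d0 * i⁻¹ = i * d0 * d0 * (i * d0)⁻¹ := by group
        _ = d0 := hcd0
    rw [hid0] at this
    calc d0 * d0 = d0⁻¹ * d0 := by rw [this]
      _ = 1 := inv_mul_cancel d0
  have hd01 : d0 = 1 := h.Dw_no_invol hy hd0 hd0sq
  rw [hd01, mul_one] at hc_eq
  obtain ⟨d, hd, hd1⟩ := h.exists_ne_one_Dw hy
  apply hd1
  apply h.Dw_no_invol hy hd
  have h1 := hc_cent d hd
  rw [hc_eq, hi_inv d hd] at h1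
  calc d * d = d⁻¹ * d := by rw [h1]
    _ = 1 := inv_mul_cancel d

/-- `N_G(D_y) = D_y ⟨u⟩`. -/
theorem Hyp.normalizer_eq (h : Hyp T) {y : G ⧸ NT T} (hy : pt0 T ≠ y) {u : G} (hu : orderOf u = 2)
    (hux : u • pt0 T = y) :
    Subgroup.normalizer ((Dw T y : Subgroup G) : Set G) = Dw T y ⊔ Subgroup.zpowers u := by
  have huy : u • y = pt0 T := swap_back hu hux
  have hun : u ∈ Subgroup.normalizer ((Dw T y : Subgroup G) : Set G) := by
    rw [Subgroup.mem_normalizer_iff]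
    intro d
    constructor
    · intro hd
      rw [h.inverts hy hu hux hd]
      exact (Dw T y).inv_mem hd
    · intro hd
      have h1 := h.inverts hy hu hux hd
      have h2 : u * (u * d * u⁻¹) * u⁻¹ = d := by
        rw [inv_self hu]
        calc u * (u * d * u) * u = (u * u) * d * (u * u) := by group
          _ = d := by rw [mul_self' hu, one_mul, mul_one]
      rw [h2] at h1
      rw [h1]
      exact (Dw T y).inv_mem hd
  apply le_antisymm
  · intro g hg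
    have hfix : ∀ d ∈ Dw T y, d • (g • pt0 T) = g • pt0 T := by
      intro d hd
      have h1 : g⁻¹ * d * g ∈ Dw T y := by
        have hg' : g⁻¹ ∈ Subgroup.normalizer ((Dw T y : Subgroup G) : Set G) :=
          Subgroup.inv_mem _ hg
        have := (Subgroup.mem_normalizer_iff.mp hg' d).mp hd
        rwa [inv_inv] at this
      have h2 : (g⁻¹ * d * g) • pt0 T = pt0 T := mem_NT_iff.mp (mem_Dw.mp h1).1
      have : d • (g • pt0 T) = g • ((g⁻¹ * d * g) • pt0 T) := by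
        rw [← mul_smul, ← mul_smul]; congr 1; group
      rw [this, h2]
    rcases h.fix_Dw hy hfix with h1 | h1
    · exact Subgroup.mem_sup_left (h.normalizer_Dw hy (mem_NT_iff.mpr h1) hg)
    · have h2 : (u * g) • pt0 T = pt0 T := by rw [mul_smul, h1, huy]
      have h3 : u * g ∈ Dw T y :=
        h.normalizer_Dw hy (mem_NT_iff.mpr h2) (Subgroup.mul_mem _ hun hg)
      have : g = (u * g) * (g⁻¹ * u⁻¹ * g) := by group
      have h4 : g = u⁻¹ * (u * g) := by group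
      rw [h4]
      -- u⁻¹ * d with d ∈ D: use normality? write as element of sup
      have h5 : u⁻¹ ∈ Dw T y ⊔ Subgroup.zpowers u :=
        Subgroup.mem_sup_right (Subgroup.inv_mem _ (Subgroup.mem_zpowers u))
      exact Subgroup.mul_mem _ h5 (Subgroup.mem_sup_left h3)
  · rw [sup_le_iff]
    exact ⟨Subgroup.le_normalizer, by rw [Subgroup.zpowers_le]; exact hun⟩

omit [Finite G] in
theorem mem_conj_smul' {K : Type*} [Group K] {g x : K} {S : Subgroup K} :
    x ∈ MulAut.conj g • S ↔ g⁻¹ * x * g ∈ S := by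
  rw [Subgroup.mem_pointwise_smul_iff_inv_smul_mem]
  simp [MulAut.smul_def]

/-- `T` is transitive on the points other than `pt0` (Schur–Zassenhaus conjugacy in `N(T)`). -/
theorem Hyp.T_trans (h : Hyp T) {y w : G ⧸ NT T} (hy : pt0 T ≠ y) (hw : pt0 T ≠ w) :
    ∃ t ∈ (T : Subgroup G), t • y = w := by
  set A : Subgroup (NT T) := (T : Subgroup G).subgroupOf (NT T) with hA
  have : A.Normal := Subgroup.normal_in_normalizer
  have : IsMulCommutative A := ⟨⟨fun a b => by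
    apply Subtype.ext; apply Subtype.ext
    exact h.comm _ (Subgroup.mem_subgroupOf.mp a.2) _ (Subgroup.mem_subgroupOf.mp b.2)⟩⟩
  have hcardA : Nat.card A = Nat.card (T : Subgroup G) :=
    Nat.card_congr (Subgroup.subgroupOfEquivOfLe h.le_NT).toEquiv
  have hqpos : 0 < Nat.card (T : Subgroup G) := Nat.card_pos
  have hidx : A.index = Nat.card (T : Subgroup G) - 1 := by
    have h1 := A.card_mul_index
    rw [hcardA, h.card_NT] at h1
    exact Nat.eq_of_mul_eq_mul_left hqpos h1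
  have hcop : (Nat.card A).Coprime A.index := by
    rw [hcardA, hidx]
    obtain ⟨m, hm⟩ : ∃ m, Nat.card (T : Subgroup G) = m + 1 :=
      ⟨Nat.card (T : Subgroup G) - 1, by omega⟩
    rw [hm]
    simp
  obtain ⟨a, haA, he⟩ := Cfsg.Agent.S0002.result A hcop _ _ (h.isComplement' hy).symm
    (h.isComplement' hw).symm
  have haT : (a : G) ∈ (T : Subgroup G) := Subgroup.mem_subgroupOf.mp haA
  refine ⟨a, haT, ?_⟩
  have hfix : ∀ d ∈ Dw T w, d • ((a : G) • y) = (a : G) • y := by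
    intro d hd
    have h1 : (⟨d, Dw_le_NT w hd⟩ : NT T) ∈ (Dw T w).subgroupOf (NT T) :=
      Subgroup.mem_subgroupOf.mpr hd
    rw [← he, mem_conj_smul', Subgroup.mem_subgroupOf] at h1
    have h2 : (a : G)⁻¹ * d * (a : G) ∈ Dw T y := h1
    have h3 := (mem_Dw.mp h2).2
    have : d • ((a : G) • y) = (a : G) • (((a : G)⁻¹ * d * (a : G)) • y) := by
      rw [← mul_smul, ← mul_smul]; congr 1; group
    rw [this, h3]
  rcases h.fix_Dw hw hfix with h1 | h1
  · exfalso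
    apply hy
    have h2 : (a : G) • pt0 T = pt0 T := fix_pt0 haT
    rw [← h2] at h1
    exact (smul_left_cancel _ h1).symm
  · exact h1

theorem Hyp.T_semireg (h : Hyp T) {t : G} (ht : t ∈ (T : Subgroup G)) {w : G ⧸ NT T}
    (hw : pt0 T ≠ w) (htw : t • w = w) : t = 1 := by
  by_contra ht1
  exact hw (fix_unique h.se (h.orderOf_eq_two ht ht1) (fix_pt0 ht) htw)

/-- `T` is regular on the points other than `pt0`. -/
theorem Hyp.T_regular (h : Hyp T) {y w : G ⧸ NT T} (hy : pt0 T ≠ y) (hw : pt0 T ≠ w) :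
    ∃! t : G, t ∈ (T : Subgroup G) ∧ t • y = w := by
  obtain ⟨t, ht, hty⟩ := h.T_trans hy hw
  refine ⟨t, ⟨ht, hty⟩, ?_⟩
  rintro t' ⟨ht', ht'y⟩
  have h1 : (t⁻¹ * t') • y = y := by rw [mul_smul, ht'y, inv_smul_eq_iff, hty]
  have h2 := h.T_semireg ((T : Subgroup G).mul_mem ((T : Subgroup G).inv_mem ht) ht') hy h1
  exact (inv_mul_eq_one.mp h2).symm

/-- `D_y` is semiregular off `pt0, y`. -/
theorem Hyp.Dw_semireg (h : Hyp T) {y w : G ⧸ NT T} (hy : pt0 T ≠ y) (hw : pt0 T ≠ w)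
    (hwy : w ≠ y) {d : G} (hd : d ∈ Dw T y) (hdw : d • w = w) : d = 1 := by
  obtain ⟨t, ht, hty⟩ := h.T_trans hy hw
  have ht1 : t ≠ 1 := by
    intro h1; rw [h1, one_smul] at hty; exact hwy hty.symm
  have hdN := (mem_Dw.mp hd).1
  have h1 : (t⁻¹ * d * t) ∈ Dw T y := by
    refine mem_Dw.mpr ⟨Subgroup.mul_mem _ (Subgroup.mul_mem _ (Subgroup.inv_mem _ (h.le_NT ht)) hdN)
      (h.le_NT ht), ?_⟩
    rw [mul_smul, mul_smul, hty, hdw, inv_smul_eq_iff, hty]
  have h2 : t⁻¹ * d * t * d⁻¹ ∈ Dw T y := (Dw T y).mul_mem h1 ((Dw T y).inv_mem hd)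
  have h3 : t⁻¹ * d * t * d⁻¹ ∈ (T : Subgroup G) := by
    have : t⁻¹ * d * t * d⁻¹ = t⁻¹ * (d * t * d⁻¹) := by group
    rw [this]
    exact (T : Subgroup G).mul_mem ((T : Subgroup G).inv_mem ht) (conj_mem_T hdN ht)
  have h4 := h.Dw_inf_T hy h2 h3
  have hc : d * t = t * d := by
    have : d * t = t * (t⁻¹ * d * t * d⁻¹) * d := by group
    rw [this, h4, mul_one]
  exact h.Dw_inf_T hy hd (h.mem_of_commute ht ht1 hc)

/-- `D_y` is transitive off `pt0, y`. -/
theorem Hyp.Dw_trans (h : Hyp T) {y w1 w2 : G ⧸ NT T} (hy : pt0 T ≠ y) (hw1 : pt0 T ≠ w1)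
    (hw1y : w1 ≠ y) (hw2 : pt0 T ≠ w2) (hw2y : w2 ≠ y) : ∃ d ∈ Dw T y, d • w1 = w2 := by
  obtain ⟨t1, ht1, ht1y⟩ := h.T_trans hy hw1
  obtain ⟨t2, ht2, ht2y⟩ := h.T_trans hy hw2
  have ht11 : t1 ≠ 1 := by
    intro h1; rw [h1, one_smul] at ht1y; exact hw1y ht1y.symm
  have ht21 : t2 ≠ 1 := by
    intro h1; rw [h1, one_smul] at ht2y; exact hw2y ht2y.symm
  obtain ⟨d, hd, hdt⟩ := h.exists_conj_Dw hy ht1 ht11 ht2 ht21
  refine ⟨d, hd, ?_⟩
  have hdy := (mem_Dw.mp hd).2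
  rw [← ht1y, ← ht2y, ← hdt, mul_smul, mul_smul, inv_smul_eq_iff.mpr hdy.symm]

/-- the stabiliser `N(T)` of `pt0` is 2-transitive on the remaining points. -/
theorem Hyp.NT_two_trans (h : Hyp T) {p2 p3 r2 r3 : G ⧸ NT T} (hp2 : pt0 T ≠ p2)
    (hp3 : pt0 T ≠ p3) (hp : p2 ≠ p3) (hr2 : pt0 T ≠ r2) (hr3 : pt0 T ≠ r3) (hr : r2 ≠ r3) :
    ∃ g ∈ NT T, g • p2 = r2 ∧ g • p3 = r3 := by
  obtain ⟨t, ht, htp⟩ := h.T_trans hp2 hr2
  have h1 : pt0 T ≠ t • p3 := by
    intro h2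
    apply hp3
    rw [← fix_pt0 ht] at h2
    exact smul_left_cancel _ h2
  have h2 : t • p3 ≠ r2 := by
    intro h3
    rw [← htp] at h3
    exact hp (smul_left_cancel _ h3).symm
  obtain ⟨d, hd, hdp⟩ := h.Dw_trans hr2 h1 h2 hr3 (Ne.symm hr)
  refine ⟨d * t, Subgroup.mul_mem _ (mem_Dw.mp hd).1 (h.le_NT ht), ?_, ?_⟩
  · rw [mul_smul, htp]; exact (mem_Dw.mp hd).2
  · rw [mul_smul, hdp]

omit [Finite G] in
/-- the statement-form of `D_w` for `w = uH`. -/
theorem Dw_mk_eq (u : G) :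
    Dw T (QuotientGroup.mk u) = NT T ⊓ (NT T).map (MulAut.conj u).toMonoidHom := by
  ext d
  rw [mem_Dw, Subgroup.mem_inf, mem_conj_map, smul_mk_eq_iff]

omit [Finite G] in
theorem pt0_ne_mk {u : G} (hu : u ∉ NT T) : pt0 T ≠ QuotientGroup.mk u := by
  intro h
  rw [pt0, QuotientGroup.eq] at h
  simp only [inv_one, one_mul] at h
  exact hu h

omit [Finite G] in
theorem smul_pt0 (u : G) : u • pt0 T = QuotientGroup.mk u := by
  rw [pt0, MulAction.Quotient.smul_mk, smul_eq_mul, mul_one]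

end

end Cfsg.Agent.Helper45.CIT
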