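import Mathlib
import Cfsg.Prelude.Def_OddOrderLocal

/-!
# BG Theorem 14.2 (= S1430 + S1431): the interface of the assembly (helper45, for helper54's plan)

The lemmas (L1)-(L9) of `Cfsg/Agent/Lib/Helper54/BG142_PROOF.md` as named propositions about `G`,
and the statements of S1430 / S1431 as propositions.  Imports only Mathlib and the Prelude.
`C(X)` in the comments means `C_{M_σ}(X) = sigmaCore M ⊓ centralizer X`.
-/

set_option autoImplicit false

namespace Cfsg.Agent.Helper45.BG142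

open Cfsg Subgroup

/-- (L1): if `τ₂(M) ≠ ∅` then no subgroup of `E` of prime order `s ∈ τ₃(M)` has fixed points on
`M_σ`. -/
def L1 (G : Type*) [Group G] : Prop :=
  ∀ M E : Subgroup G, IsCoatom M → IsComplIn E (sigmaCore M) M → (tau2 M).Nonempty →
    ∀ s ∈ tau3 M, ∀ Y : Subgroup G, Y ≤ E → Nat.card Y = s →
      sigmaCore M ⊓ centralizer (Y : Set G) = ⊥

/-- (L2): a Hall `τ₁(M)`-subgroup `E₁` of `E` is semiprime on `M_σ`. -/
def L2 (G : Type*) [Group G] : Prop :=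
  ∀ M E E₁ : Subgroup G, IsCoatom M → IsComplIn E (sigmaCore M) M → IsPiHallOf (tau1 M) E₁ E →
    ∀ e ∈ E₁, e ≠ 1 → sigmaCore M ⊓ centralizer ({e} : Set G) =
      sigmaCore M ⊓ centralizer (E₁ : Set G)

/-- (L5): for `X ≤ E` of prime order `p ∈ τ₁(M)` with `C(X) ≠ 1`, the centralizer `C_E(X)` contains
no subgroup of prime order `r ∈ τ₂(M)`. -/
def L5 (G : Type*) [Group G] : Prop :=
  ∀ M E : Subgroup G, IsCoatom M → IsComplIn E (sigmaCore M) M → ∀ p ∈ tau1 M,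
    ∀ X : Subgroup G, X ≤ E → Nat.card X = p → sigmaCore M ⊓ centralizer (X : Set G) ≠ ⊥ →
      ∀ r ∈ tau2 M, ∀ R : Subgroup G, R ≤ E → Nat.card R = r → R ≤ centralizer (X : Set G) → False

/-- (L6) = "(3d)" (= (Q7) of helper54's list): `p ∉ σ(M)`, `M` of `p`-rank one, `X ≤ M` of order `p`
with `C(X) ≠ 1`, `H` maximal over `N_G(X)`; then `X ≤ H_σ`. -/
def L6 (G : Type*) [Group G] : Prop :=
  ∀ M : Subgroup G, IsCoatom M → ∀ p : ℕ, p.Prime → p ∉ sigma M → PRankLE p 1 M →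
    ∀ X : Subgroup G, X ≤ M → Nat.card X = p → sigmaCore M ⊓ centralizer (X : Set G) ≠ ⊥ →
      ∀ H : Subgroup G, IsCoatom H → normalizer (X : Set G) ≤ H → X ≤ sigmaCore H

/-- (L8) = the CRUX: `τ₂(M) = ∅`, `Y ≤ E` of prime order `s ∈ τ₃(M)` with `C(Y) ≠ 1`; then `E` is
semiprime on `M_σ`. -/
def L8 (G : Type*) [Group G] : Prop :=
  ∀ M E : Subgroup G, IsCoatom M → IsComplIn E (sigmaCore M) M → tau2 M = ∅ →
    ∀ s ∈ tau3 M, ∀ Y : Subgroup G, Y ≤ E → Nat.card Y = s →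
      sigmaCore M ⊓ centralizer (Y : Set G) ≠ ⊥ →
      ∀ e ∈ E, e ≠ 1 → sigmaCore M ⊓ centralizer ({e} : Set G) =
        sigmaCore M ⊓ centralizer (E : Set G)

/-- (L9) (= (Q11) of helper54's list): if `τ₂(M) = ∅` and `E` is semiprime on `M_σ` with `C(E) ≠ 1`
then every subgroup of prime order of `E` is normal in `E`. -/
def L9 (G : Type*) [Group G] : Prop :=
  ∀ M E : Subgroup G, IsCoatom M → IsComplIn E (sigmaCore M) M → tau2 M = ∅ →
    (∀ e ∈ E, e ≠ 1 → sigmaCore M ⊓ centralizer ({e} : Set G) =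
      sigmaCore M ⊓ centralizer (E : Set G)) →
    sigmaCore M ⊓ centralizer (E : Set G) ≠ ⊥ →
    ∀ X : Subgroup G, X ≤ E → (Nat.card X).Prime → E ≤ normalizer (X : Set G)

/-- the "non-`P₁` ⟹ `σ(M) = β(M)`" paragraph of (UNIQ): if some prime of `M` lies outside
`σ(M) ∪ κ(M)` and the conclusions (1), (2) of S1430 hold for `(M, K, U)`, then every prime divisor of
`|M_σ|` lies in `β(M)`. -/
def BetaOfNotP1 (G : Type*) [Group G] : Prop :=
  ∀ M K U : Subgroup G, IsCoatom M → IsPiHallOf (kappa M) K M → K ≠ ⊥ →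
    ¬ (∀ q : ℕ, q.Prime → q ∣ Nat.card M → q ∉ sigma M → q ∈ kappa M) →
    (∀ k ∈ K, k ≠ 1 → sigmaCore M ⊓ centralizer ({k} : Set G) =
      sigmaCore M ⊓ centralizer (K : Set G)) →
    IsMulCommutative U → IsPiHallOf {q | q.Prime ∧ q ∉ kappa M ∧ q ∉ sigma M} U M →
    K ≤ normalizer (U : Set G) → (∀ k ∈ K, k ≠ 1 → U ⊓ centralizer ({k} : Set G) = ⊥) →
    ∀ q : ℕ, q.Prime → q ∣ Nat.card (sigmaCore M) → q ∈ beta M

/-- the statement of S1430 for `G`. -/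
def T1430 (G : Type*) [Group G] : Prop :=
  ∀ (M : Subgroup G), IsCoatom M → ∀ K : Subgroup G, IsPiHallOf (kappa M) K M → K ≠ ⊥ →
    (∀ k ∈ K, k ≠ 1 → sigmaCore M ⊓ centralizer ({k} : Set G) =
      (sigmaCore M ⊓ centralizer (K : Set G))) ∧
    (∃ U : Subgroup G, IsMulCommutative U ∧
      IsPiHallOf {q | q.Prime ∧ q ∉ kappa M ∧ q ∉ sigma M} U M ∧
      K ≤ normalizer (U : Set G) ∧ ∀ k ∈ K, k ≠ 1 → U ⊓ centralizer ({k} : Set G) = ⊥) ∧
    ∀ X : Subgroup G, X ≤ K → (Nat.card X).Prime →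
      M ⊓ normalizer (X : Set G) = K ⊔ (sigmaCore M ⊓ centralizer (K : Set G)) ∧
      M ⊓ normalizer (K : Set G) = K ⊔ (sigmaCore M ⊓ centralizer (K : Set G)) ∧
      ∀ Mstar : Subgroup G, IsCoatom Mstar → normalizer (X : Set G) ≤ Mstar →
        X ≤ sigmaCore Mstar

/-- the statement of S1431 for `G`. -/
def T1431 (G : Type*) [Group G] : Prop :=
  ∀ (M : Subgroup G), IsCoatom M → ∀ K : Subgroup G, IsPiHallOf (kappa M) K M → K ≠ ⊥ →
    (∀ g : G, g ∉ M → (sigmaCore M ⊓ centralizer (K : Set G)) ⊓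
      M.map (MulAut.conj g).toMonoidHom = ⊥) ∧
    (∀ g ∈ M, g ∉ K ⊔ (sigmaCore M ⊓ centralizer (K : Set G)) →
      K ⊓ K.map (MulAut.conj g).toMonoidHom = ⊥) ∧
    (∀ (p : ℕ), p.Prime → p ∣ Nat.card ↥(sigmaCore M ⊓ centralizer (K : Set G)) →
      ∀ S : Sylow p ↥(sigmaCore M),
        InUniqueMaximal ((S : Subgroup ↥(sigmaCore M)).map (sigmaCore M).subtype) ∧
        (S : Subgroup ↥(sigmaCore M)).map (sigmaCore M).subtype ≤ M ∧
        ¬ (S : Subgroup ↥(sigmaCore M)).map (sigmaCore M).subtype ≤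
          (sigmaCore M ⊓ centralizer (K : Set G))) ∧
    ∀ Y : Subgroup G, (∀ p : ℕ, p.Prime → p ∣ Nat.card Y → p ∈ sigma M) →
      Y ⊓ (sigmaCore M ⊓ centralizer (K : Set G)) ≠ ⊥ → Y ≤ sigmaCore M

end Cfsg.Agent.Helper45.BG142
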