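import Mathlib
import Cfsg.Prelude.Def_OddOrderLocal
import Cfsg.Agent.Lib.Helper45.BG142Defs
import Cfsg.Agent.Lib.Helper45.BGTools
import Cfsg.Agent.Lib.Helper55.BGHall
import Cfsg.Agent.Lib.Helper55.BGBasic
import Cfsg.Agent.Lib.Helper55.BGFit
import Cfsg.Agent.Lib.Helper55.BGDecomp2
import Cfsg.Agent.Lib.Helper52.CoprimeHall
import Cfsg.Agent.Lib.Helper76.EqOrd1
import Cfsg.Agent.Lib.Helper34.BG10a

/-!
# BG Theorem 14.2 assembly, part a: pure set-up lemmas (helper45)
-/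

set_option autoImplicit false
set_option linter.unusedSectionVars false
set_option linter.unusedVariables false

namespace Cfsg.Agent.Helper45.BG142

open Cfsg Subgroup Cfsg.Agent.Helper55.BGB

variable {G : Type*} [Group G]

/-! ### complements -/

theorem compl_inf {E N M : Subgroup G} (hE : IsComplIn E N M) : E ⊓ N = ⊥ := hE.2.2.1

theorem compl_card [Finite G] {E N M : Subgroup G} (hE : IsComplIn E N M) :
    Nat.card E * Nat.card N = Nat.card M := by
  classical
  obtain ⟨hEM, hNM, hdisj, hprod⟩ := hE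
  -- the map `E × N → M`, `(a, b) ↦ a * b` is a bijection
  have hinj : Function.Injective (fun ab : E × N => (⟨(ab.1 : G) * ab.2,
      M.mul_mem (hEM ab.1.2) (hNM ab.2.2)⟩ : M)) := by
    rintro ⟨a, b⟩ ⟨a', b'⟩ h
    have h1 : (a : G) * b = a' * b' := congrArg Subtype.val h
    have h2 : (a' : G)⁻¹ * a = b' * (b : G)⁻¹ := by
      calc (a' : G)⁻¹ * a = (a' : G)⁻¹ * (a * b) * (b : G)⁻¹ := by group
        _ = (a' : G)⁻¹ * (a' * b') * (b : G)⁻¹ := by rw [h1]
        _ = b' * (b : G)⁻¹ := by group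
    have h3 : (a' : G)⁻¹ * a ∈ E ⊓ N := by
      refine Subgroup.mem_inf.mpr ⟨E.mul_mem (E.inv_mem a'.2) a.2, ?_⟩
      rw [h2]; exact N.mul_mem b'.2 (N.inv_mem b.2)
    rw [hdisj, Subgroup.mem_bot] at h3
    have h4 : (a : G) = a' := by
      have : (a : G) = a' * ((a' : G)⁻¹ * a) := by group
      rw [this, h3, mul_one]
    have h5 : (b : G) = b' := by
      rw [h4] at h1
      exact mul_left_cancel h1
    exact Prod.ext (Subtype.ext h4) (Subtype.ext h5)
  have hsurj : Function.Surjective (fun ab : E × N => (⟨(ab.1 : G) * ab.2,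
      M.mul_mem (hEM ab.1.2) (hNM ab.2.2)⟩ : M)) := by
    rintro ⟨m, hm⟩
    obtain ⟨a, ha, b, hb, rfl⟩ := hprod m hm
    exact ⟨(⟨a, ha⟩, ⟨b, hb⟩), rfl⟩
  have := Nat.card_congr (Equiv.ofBijective _ ⟨hinj, hsurj⟩)
  rw [Nat.card_prod] at this
  exact this

/-- (L7): in `M = N ⋊ E` (any complement `E` of a subgroup `N` normalized by `M`), the normalizer in
`M` of a subgroup `X ≤ E` is `N_E(X) C_N(X)`. -/
theorem normalizer_compl {E N M X : Subgroup G} (hE : IsComplIn E N M)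
    (hN : M ≤ normalizer (N : Set G)) (hXE : X ≤ E) :
    M ⊓ normalizer (X : Set G) = (E ⊓ normalizer (X : Set G)) ⊔ (N ⊓ centralizer (X : Set G)) := by
  obtain ⟨hEM, hNM, hdisj, hprod⟩ := hE
  apply le_antisymm
  · intro n hn
    obtain ⟨hnM, hnX⟩ := Subgroup.mem_inf.mp hn
    obtain ⟨a, ha, b, hb, rfl⟩ := hprod n hnM
    have hbc : b ∈ centralizer (X : Set G) := by
      rw [Subgroup.mem_centralizer_iff]
      intro x hx
      -- `a b x b⁻¹ a⁻¹ ∈ X ≤ E`
      have h1 : a * b * x * (a * b)⁻¹ ∈ X := (Subgroup.mem_normalizer_iff.mp hnX x).mp hx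
      have hxE : x ∈ E := hXE hx
      have hxM : x ∈ M := hEM hxE
      have hc : b * x * b⁻¹ * x⁻¹ ∈ N := by
        have h2 : x * b⁻¹ * x⁻¹ ∈ N := by
          have := (Subgroup.mem_normalizer_iff.mp (hN hxM) b⁻¹).mp (N.inv_mem hb)
          exact this
        have e : b * x * b⁻¹ * x⁻¹ = b * (x * b⁻¹ * x⁻¹) := by group
        rw [e]; exact N.mul_mem hb h2
      have hc' : a * (b * x * b⁻¹ * x⁻¹) * a⁻¹ ∈ N :=
        (Subgroup.mem_normalizer_iff.mp (hN (hEM ha)) _).mp hc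
      have hc'' : a * (b * x * b⁻¹ * x⁻¹) * a⁻¹ ∈ E := by
        have e : a * (b * x * b⁻¹ * x⁻¹) * a⁻¹ = (a * b * x * (a * b)⁻¹) * (a * x * a⁻¹)⁻¹ := by
          group
        rw [e]
        exact E.mul_mem (hXE h1) (E.inv_mem (E.mul_mem (E.mul_mem ha hxE) (E.inv_mem ha)))
      have h3 : a * (b * x * b⁻¹ * x⁻¹) * a⁻¹ ∈ E ⊓ N := Subgroup.mem_inf.mpr ⟨hc'', hc'⟩
      rw [hdisj, Subgroup.mem_bot] at h3
      have h4 : b * x * b⁻¹ * x⁻¹ = 1 := by
        have : b * x * b⁻¹ * x⁻¹ = a⁻¹ * (a * (b * x * b⁻¹ * x⁻¹) * a⁻¹) * a := by group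
        rw [this, h3]; group
      -- so `x * b = b * x`
      have : b * x = x * b := by
        calc b * x = (b * x * b⁻¹ * x⁻¹) * x * b := by group
          _ = x * b := by rw [h4, one_mul]
      exact this.symm
    have hbX : b ∈ normalizer (X : Set G) := Subgroup.centralizer_le_normalizer _ hbc
    have haX : a ∈ normalizer (X : Set G) := by
      have : a = a * b * b⁻¹ := by group
      rw [this]
      exact Subgroup.mul_mem _ hnX (Subgroup.inv_mem _ hbX)
    exact Subgroup.mul_mem_sup (Subgroup.mem_inf.mpr ⟨ha, haX⟩) (Subgroup.mem_inf.mpr ⟨hb, hbc⟩)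
  · apply sup_le
    · exact inf_le_inf_right _ hEM
    · exact le_inf (inf_le_left.trans hNM)
        (inf_le_right.trans (Subgroup.centralizer_le_normalizer _))

/-! ### cyclic `p`-groups -/

/-- in a cyclic `p`-group, a subgroup of order `p` lies in every nontrivial subgroup. -/
theorem le_of_card_prime_of_isCyclic [Finite G] {p : ℕ} [hp : Fact p.Prime] {P X Y : Subgroup G}
    (hP : IsPGroup p P) (hcyc : IsCyclic P) (hXP : X ≤ P) (hX : Nat.card X = p) (hYP : Y ≤ P)
    (hY1 : Y ≠ ⊥) : X ≤ Y := by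
  have hYp : IsPGroup p Y := hP.to_le hYP
  have hpY : p ∣ Nat.card Y := by
    obtain ⟨n, hn⟩ := IsPGroup.iff_card.mp hYp
    rcases Nat.eq_zero_or_pos n with h0 | hpos
    · rw [h0, pow_zero] at hn
      exact absurd (Subgroup.card_eq_one.mp hn) hY1
    · rw [hn]; exact dvd_pow_self p hpos.ne'
  obtain ⟨y, hy⟩ := exists_prime_orderOf_dvd_card' p hpY
  have hyo : orderOf (y : G) = p := by rw [Subgroup.orderOf_coe]; exact hy
  have hZc : Nat.card (zpowers (y : G)) = p := by rw [Nat.card_zpowers, hyo]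
  have hZY : zpowers (y : G) ≤ Y := by rw [Subgroup.zpowers_le]; exact y.2
  have hXZ : X = zpowers (y : G) :=
    Cfsg.Agent.Helper76.EqOrd.eq_of_card_eq_of_le_isCyclic P X (zpowers (y : G)) hXP
      (hZY.trans hYP) (by rw [hX, hZc])
  rw [hXZ]; exact hZY


/-! ### the complement over `K`, fixed points of `X ≤ K` -/

theorem coprime_of_disjoint_primes {a b : ℕ} (h : ∀ q : ℕ, q.Prime → q ∣ a → q ∣ b → False) :
    a.Coprime b := by
  apply Nat.coprime_of_dvd
  intro q hq h1 h2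
  exact h q hq h1 h2

/-- a `σ(M)'`-subgroup of the solvable group `M` lies in some complement of the Hall subgroup
`M_σ`. -/
theorem exists_compl_ge [Finite G] {M K : Subgroup G} (hsol : Group.IsSolvable M)
    (hHall : IsPiHallOf (sigma M) (sigmaCore M) M) (hKM : K ≤ M)
    (hK : ∀ q : ℕ, q.Prime → q ∣ Nat.card K → q ∉ sigma M) :
    ∃ E : Subgroup G, IsComplIn E (sigmaCore M) M ∧ K ≤ E := by
  have hcard : Nat.card M = (sigmaCore M).relIndex M * Nat.card (sigmaCore M) := by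
    rw [mul_comm]; exact (Cfsg.Agent.Helper55.BGB.card_mul_relIndex hHall.1).symm
  have hcop : ((sigmaCore M).relIndex M).Coprime (Nat.card (sigmaCore M)) := by
    apply coprime_of_disjoint_primes
    intro q hq h1 h2
    exact hHall.2.2 q hq (isPi_sigmaCore M q hq h2) h1
  have hKcop : (Nat.card K).Coprime (Nat.card (sigmaCore M)) := by
    apply coprime_of_disjoint_primes
    intro q hq h1 h2
    exact hK q hq h1 (isPi_sigmaCore M q hq h2)
  obtain ⟨Q, hQM, hQc, hKQ, -⟩ := Cfsg.Agent.Helper52.exists_invariant_hall_ge (⊥ : Subgroup G) M K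
    bot_le (by rw [Subgroup.card_bot]; exact Nat.coprime_one_left _) hsol _ _ hcard hcop hKM bot_le
    hKcop
  refine ⟨Q, ?_, hKQ⟩
  apply isComplIn_of_card hQM (sigmaCore_le M)
  · refine (Subgroup.disjoint_of_coprime_natCard ?_).eq_bot
    rw [hQc]; exact hcop
  · rw [hQc]; exact hcard.symm

/-- `X ≤ K` of prime order `p`, `K` a Hall `κ(M)`-subgroup: `p ∈ κ(M)` and `C_{M_σ}(X) ≠ 1`. -/
theorem kappa_fixed [Finite G] {M K X : Subgroup G} (hK : IsPiHallOf (kappa M) K M) {p : ℕ}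
    [hp : Fact p.Prime] (hXK : X ≤ K) (hX : Nat.card X = p) :
    p ∈ kappa M ∧ sigmaCore M ⊓ centralizer (X : Set G) ≠ ⊥ := by
  have hpκ : p ∈ kappa M := hK.2.1 p hp.out (hX ▸ Subgroup.card_dvd_of_le hXK)
  refine ⟨hpκ, ?_⟩
  have hXM : X ≤ M := hXK.trans hK.1
  have hXp : IsPGroup p X := IsPGroup.of_card (n := 1) (by rw [pow_one, hX])
  -- a Sylow `p`-subgroup of `M` over `X`
  have hXp' : IsPGroup p (X.subgroupOf M) := by
    apply hXp.comap_of_injective
    exact M.subtype_injective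
  obtain ⟨P, hXP⟩ := hXp'.exists_le_sylow
  obtain ⟨hcyc, x, hxP, hx1, y, hy, hy1, hxy⟩ := hpκ.2.2.2 P
  -- work in `G`
  have hPmap_p : IsPGroup p ((P : Subgroup M).map M.subtype) := P.2.map _
  have hPmap_cyc : IsCyclic ((P : Subgroup M).map M.subtype) := by
    have e : (P : Subgroup M) ≃* ((P : Subgroup M).map M.subtype) :=
      (P : Subgroup M).equivMapOfInjective M.subtype M.subtype_injective
    exact isCyclic_of_surjective e.toMonoidHom e.surjective
  have hXPm : X ≤ (P : Subgroup M).map M.subtype := by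
    intro z hz
    exact ⟨⟨z, hXM hz⟩, hXP (Subgroup.mem_subgroupOf.mpr hz), rfl⟩
  have hxm : (x : G) ∈ (P : Subgroup M).map M.subtype := ⟨x, hxP, rfl⟩
  have hZ1 : zpowers (x : G) ≠ ⊥ := by
    intro h
    rw [Subgroup.zpowers_eq_bot] at h
    exact hx1 (Subtype.ext h)
  have hXZ : X ≤ zpowers (x : G) :=
    le_of_card_prime_of_isCyclic hPmap_p hPmap_cyc hXPm hX
      (by rw [Subgroup.zpowers_le]; exact hxm) hZ1
  intro hbot
  have hyC : y ∈ sigmaCore M ⊓ centralizer (X : Set G) := by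
    refine Subgroup.mem_inf.mpr ⟨hy, ?_⟩
    rw [Subgroup.mem_centralizer_iff]
    intro z hz
    obtain ⟨n, rfl⟩ := Subgroup.mem_zpowers_iff.mp (hXZ hz)
    have hc : Commute (x : G) y := hxy
    exact (hc.zpow_left n).eq
  rw [hbot, Subgroup.mem_bot] at hyC
  exact hy1 hyC

end Cfsg.Agent.Helper45.BG142
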