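import Mathlib
import Cfsg.Prelude.Def_OddOrderLocal
import Cfsg.Agent.Lib.Helper45.BG142a
import Cfsg.Agent.Lib.Helper96.BGU2
import Cfsg.Agent.Lib.Helper20.BG13A
import Cfsg.Agent.Lib.Helper50.Hyperplane

/-!
# BG Theorem 14.2 assembly, part b: tools for the assembly of S1430 (helper45)
-/

set_option autoImplicit false
set_option linter.unusedSectionVars false
set_option linter.unusedVariables false

namespace Cfsg.Agent.Helper45.BG142

open Cfsg Subgroup Cfsg.Agent.Helper55.BGB Cfsg.Agent.Helper45.BGTools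

variable {G : Type*} [Group G] [Finite G]

/-- rank one and `t` odd: the Sylow `t`-subgroups of `M` are cyclic. -/
theorem sylow_cyclic_of_rank_one {M : Subgroup G} {t : ℕ} [ht : Fact t.Prime] (ht2 : t ≠ 2)
    (hrk : PRankLE t 1 M) (P : Sylow t M) : IsCyclic (P : Subgroup M) := by
  by_contra hnc
  obtain ⟨F, -, hFe, hFc⟩ :=
    Cfsg.Agent.Helper96.BGU.exists_elemAb_of_not_isCyclic ht2 (P : Subgroup M) P.2 hnc
  have := hrk F hFe.1 hFe.2
  omega

/-- an element `e ≠ 1` of `M` of `t`-power order (`t ∉ σ(M)`, cyclic Sylow `t`-subgroups) with a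
nontrivial fixed point on `M_σ` puts `t` into `κ(M)`. -/
theorem mem_kappa_of_fixed {M : Subgroup G} {t : ℕ} [ht : Fact t.Prime] (htσ : t ∉ sigma M)
    (hcyc : ∀ P : Sylow t M, IsCyclic (P : Subgroup M)) {e : G} (heM : e ∈ M) (he1 : e ≠ 1)
    (het : IsPGroup t (zpowers e)) (hfix : sigmaCore M ⊓ centralizer ({e} : Set G) ≠ ⊥) :
    t ∈ kappa M := by
  have htM : t ∣ Nat.card M := by
    have h1 : Nat.card (zpowers e) ∣ Nat.card M := Subgroup.card_dvd_of_le ((zpowers_le).mpr heM)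
    obtain ⟨n, hn⟩ := IsPGroup.iff_card.mp het
    rcases Nat.eq_zero_or_pos n with h0 | hpos
    · rw [h0, pow_zero] at hn
      have : zpowers e = ⊥ := Subgroup.card_eq_one.mp hn
      rw [Subgroup.zpowers_eq_bot] at this
      exact absurd this he1
    · exact (dvd_pow_self t hpos.ne').trans (hn ▸ h1)
  refine ⟨ht.out, htM, htσ, ?_⟩
  intro P
  refine ⟨hcyc P, ?_⟩
  obtain ⟨y, hy, hy1⟩ : ∃ y ∈ sigmaCore M ⊓ centralizer ({e} : Set G), y ≠ 1 := by
    by_contra h
    push Not at h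
    exact hfix ((Subgroup.eq_bot_iff_forall _).mpr h)
  obtain ⟨hyσ, hyc⟩ := Subgroup.mem_inf.mp hy
  -- conjugate `e` into `P`
  have hidx : ¬ t ∣ ((P : Subgroup M).map M.subtype).relIndex M := by
    have h1 : ((P : Subgroup M).map M.subtype).relIndex M = (P : Subgroup M).index := by
      show (((P : Subgroup M).map M.subtype).comap M.subtype).index = _
      rw [Subgroup.comap_map_eq_self_of_injective M.subtype_injective]
    rw [h1]; exact P.not_dvd_index
  obtain ⟨m, hm, hme⟩ := exists_conj_mem hidx heM het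
  obtain ⟨x, hxP, hx⟩ := hme
  refine ⟨x, hxP, ?_, m * y * m⁻¹, ?_, ?_, ?_⟩
  · intro h
    rw [h] at hx
    have : m * e * m⁻¹ = 1 := hx.symm
    apply he1
    have e2 : e = m⁻¹ * (m * e * m⁻¹) * m := by group
    rw [e2, this]; group
  · exact (Subgroup.mem_normalizer_iff.mp (le_normalizer_sigmaCore M hm) y).mp hyσ
  · intro h
    apply hy1
    have e2 : y = m⁻¹ * (m * y * m⁻¹) * m := by group
    rw [e2, h]; group
  · have hc : e * y = y * e := by
      have := Subgroup.mem_centralizer_iff.mp hyc e (Set.mem_singleton e)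
      exact this
    have hx' : (x : G) = m * e * m⁻¹ := hx
    rw [hx']
    calc m * e * m⁻¹ * (m * y * m⁻¹) = m * (e * y) * m⁻¹ := by group
      _ = m * (y * e) * m⁻¹ := by rw [hc]
      _ = m * y * m⁻¹ * (m * e * m⁻¹) := by group

/-- a subgroup `E₁ ≤ M` containing the Hall `κ(M)`-subgroup `K`, all of whose primes lie in `κ(M)`,
equals `K`. -/
theorem eq_of_hall_kappa {M K E₁ : Subgroup G} (hK : IsPiHallOf (kappa M) K M) (hKE : K ≤ E₁)
    (hEM : E₁ ≤ M) (hE : ∀ t : ℕ, t.Prime → t ∣ Nat.card E₁ → t ∈ kappa M) : K = E₁ := by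
  have hcop : (Nat.card E₁).Coprime (K.relIndex M) := by
    apply coprime_of_disjoint_primes
    intro q hq h1 h2
    exact hK.2.2 q hq (hE q hq h1) h2
  have hdvd : Nat.card E₁ ∣ Nat.card K * K.relIndex M := by
    rw [Cfsg.Agent.Helper55.BGB.card_mul_relIndex hK.1]
    exact Subgroup.card_dvd_of_le hEM
  have hdvd' : Nat.card E₁ ∣ Nat.card K := hcop.dvd_of_dvd_mul_right hdvd
  have hle : Nat.card E₁ ≤ Nat.card K := Nat.le_of_dvd Nat.card_pos hdvd'
  exact Subgroup.eq_of_le_of_card_ge hKE hle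

/-- for `X` a subgroup and `x ∈ X`: `C(X) ≤ C({x})`. -/
theorem cent_le_cent_singleton {N X : Subgroup G} {x : G} (hx : x ∈ X) :
    N ⊓ centralizer (X : Set G) ≤ N ⊓ centralizer ({x} : Set G) :=
  inf_le_inf_left _ (Subgroup.centralizer_le (by
    intro z hz
    rw [Set.mem_singleton_iff] at hz
    rw [hz]; exact hx))

/-- if all `C({x})`, `1 ≠ x ∈ E`, coincide with `C(E)`, then `C(X) = C(E)` for `1 ≠ X ≤ E`. -/
theorem cent_eq_of_semiprime {N E X : Subgroup G}
    (hsp : ∀ e ∈ E, e ≠ 1 → N ⊓ centralizer ({e} : Set G) = N ⊓ centralizer (E : Set G))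
    (hXE : X ≤ E) (hX1 : X ≠ ⊥) :
    N ⊓ centralizer (X : Set G) = N ⊓ centralizer (E : Set G) := by
  obtain ⟨x, hx, hx1⟩ : ∃ x ∈ X, x ≠ 1 := by
    by_contra h
    push Not at h
    exact hX1 ((Subgroup.eq_bot_iff_forall _).mpr h)
  apply le_antisymm
  · rw [← hsp x (hXE hx) hx1]
    exact cent_le_cent_singleton hx
  · exact inf_le_inf_left _ (Subgroup.centralizer_le hXE)

theorem ne_bot_of_card_prime' {X : Subgroup G} (hX : (Nat.card X).Prime) : X ≠ ⊥ := by
  intro h
  rw [h, Subgroup.card_bot] at hX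
  exact Nat.not_prime_one hX

/-- Cauchy inside a subgroup: an element of order `t` of `E`. -/
theorem exists_orderOf_mem {E : Subgroup G} {t : ℕ} [ht : Fact t.Prime] (h : t ∣ Nat.card E) :
    ∃ e ∈ E, orderOf e = t := by
  obtain ⟨y, hy⟩ := exists_prime_orderOf_dvd_card' t h
  exact ⟨(y : G), y.2, by rw [Subgroup.orderOf_coe]; exact hy⟩

theorem isPGroup_zpowers_of_orderOf' {e : G} {t : ℕ} [ht : Fact t.Prime] (he : orderOf e = t) :
    IsPGroup t (zpowers e) :=
  IsPGroup.of_card (n := 1) (by rw [pow_one, Nat.card_zpowers, he])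

theorem ne_one_of_orderOf_prime {e : G} {t : ℕ} [ht : Fact t.Prime] (he : orderOf e = t) :
    e ≠ 1 := by
  intro h
  rw [h, orderOf_one] at he
  exact ht.out.one_lt.ne' he.symm

end Cfsg.Agent.Helper45.BG142
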