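import Mathlib
import Cfsg.Prelude.Def_OddOrderLocal
import Cfsg.Agent.Lib.Helper45.BG142b
import Cfsg.Agent.Lib.Helper45.BG143
import Cfsg.Agent.S1350
import Cfsg.Agent.S1405

/-!
# BG Theorem 14.2 assembly, part c: S1430 in case T3 (some prime of `K` lies in `τ₃(M)`) (helper45)
-/

set_option autoImplicit false
set_option linter.unusedSectionVars false
set_option linter.unusedVariables false

namespace Cfsg.Agent.Helper45.BG142

open Cfsg Subgroup Cfsg.Agent.Helper55.BGB Cfsg.Agent.Helper45.BGTools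
open Cfsg.Agent.Helper34.BG

variable {G : Type*} [Group G] [Finite G]

/-- `|E| = |M : M_σ|` for a complement `E`. -/
theorem compl_card_eq_relIndex {E N M : Subgroup G} (hE : IsComplIn E N M) :
    Nat.card E = N.relIndex M := by
  have h1 := compl_card hE
  have h2 := Cfsg.Agent.Helper55.BGB.card_mul_relIndex hE.2.1
  have hpos : 0 < Nat.card N := Nat.card_pos
  rw [mul_comm] at h1
  exact Nat.eq_of_mul_eq_mul_left hpos (h1.trans h2.symm)

/-- the primes of a complement of `M_σ` are outside `σ(M)`. -/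
theorem not_mem_sigma_of_dvd_compl {M E : Subgroup G}
    (hHall : IsPiHallOf (sigma M) (sigmaCore M) M) (hE : IsComplIn E (sigmaCore M) M) {t : ℕ}
    (ht : t.Prime) (htE : t ∣ Nat.card E) : t ∉ sigma M := by
  intro h
  apply hHall.2.2 t ht h
  rw [← compl_card_eq_relIndex hE]; exact htE

/-- a prime of `M` lies in `σ(M)` or divides `|E|`. -/
theorem dvd_compl_or_mem_sigma {M E : Subgroup G} (hE : IsComplIn E (sigmaCore M) M) {q : ℕ}
    (hq : q.Prime) (hqM : q ∣ Nat.card M) : q ∣ Nat.card E ∨ q ∈ sigma M := by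
  rw [← compl_card hE] at hqM
  rcases (Nat.Prime.dvd_mul hq).mp hqM with h | h
  · exact Or.inl h
  · exact Or.inr (isPi_sigmaCore M q hq h)

/-- the last clause of S1430(3) from (L6). -/
theorem le_sigmaCore_of_L6 (hG : IsMinSimpleOddOrder G) (h6 : L6 G) {M K X : Subgroup G}
    (hM : IsCoatom M) (hK : IsPiHallOf (kappa M) K M) (hXK : X ≤ K) (hXp : (Nat.card X).Prime)
    (Mstar : Subgroup G) (hMs : IsCoatom Mstar) (hN : normalizer (X : Set G) ≤ Mstar) :
    X ≤ sigmaCore Mstar := by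
  obtain ⟨p, hp⟩ : ∃ p, p = Nat.card X := ⟨_, rfl⟩
  rw [← hp] at hXp
  have : Fact p.Prime := ⟨hXp⟩
  obtain ⟨hpκ, hfix⟩ := kappa_fixed hK hXK hp.symm
  have hpσ : p ∉ sigma M := not_mem_sigma_of_mem_kappa hpκ
  have hrk1 : PRankLE p 1 M := Cfsg.Agent.Helper45.BG143.pRankLE_one_of_kappa hpκ
  exact h6 M hM p hXp hpσ hrk1 X (hXK.trans hK.1) hp.symm hfix Mstar hMs hN

/-- **S1430 in case T3**: some prime divisor `s` of `|K|` lies in `τ₃(M)`. -/
theorem s1430_T3 (hG : IsMinSimpleOddOrder G) (h1 : L1 G) (h6 : L6 G) (h8 : L8 G) (h9 : L9 G)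
    {M K : Subgroup G} (hM : IsCoatom M) (hK : IsPiHallOf (kappa M) K M) (hK1 : K ≠ ⊥)
    {s : ℕ} (hs : s ∈ tau3 M) (hsK : s ∣ Nat.card K) :
    (∀ k ∈ K, k ≠ 1 → sigmaCore M ⊓ centralizer ({k} : Set G) =
      (sigmaCore M ⊓ centralizer (K : Set G))) ∧
    (∃ U : Subgroup G, IsMulCommutative U ∧
      IsPiHallOf {q | q.Prime ∧ q ∉ kappa M ∧ q ∉ sigma M} U M ∧
      K ≤ normalizer (U : Set G) ∧ ∀ k ∈ K, k ≠ 1 → U ⊓ centralizer ({k} : Set G) = ⊥) ∧
    ∀ X : Subgroup G, X ≤ K → (Nat.card X).Prime →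
      M ⊓ normalizer (X : Set G) = K ⊔ (sigmaCore M ⊓ centralizer (K : Set G)) ∧
      M ⊓ normalizer (K : Set G) = K ⊔ (sigmaCore M ⊓ centralizer (K : Set G)) ∧
      ∀ Mstar : Subgroup G, IsCoatom Mstar → normalizer (X : Set G) ≤ Mstar →
        X ≤ sigmaCore Mstar := by
  have hHall := (Cfsg.Agent.S1350.result hG M hM).1
  have h05 := Cfsg.Agent.S1405.result hG M hM
  have hsol : Group.IsSolvable M := solvable_of_ne_top hG hM.1
  have hKσ : ∀ q : ℕ, q.Prime → q ∣ Nat.card K → q ∉ sigma M :=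
    fun q hq hd => not_mem_sigma_of_mem_kappa (hK.2.1 q hq hd)
  obtain ⟨E, hE, hKE⟩ := exists_compl_ge hsol hHall hK.1 hKσ
  have : Fact s.Prime := ⟨hs.1⟩
  obtain ⟨y, hyK, hyo⟩ := exists_orderOf_mem hsK
  have hYK : zpowers y ≤ K := (zpowers_le).mpr hyK
  have hYc : Nat.card (zpowers y) = s := by rw [Nat.card_zpowers, hyo]
  obtain ⟨hsκ, hCY⟩ := kappa_fixed hK hYK hYc
  have hτ2 : tau2 M = ∅ := by
    by_contra hne
    exact hCY (h1 M E hM hE (Set.nonempty_iff_ne_empty.mpr hne) s hs _ (hYK.trans hKE) hYc)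
  have hsp := h8 M E hM hE hτ2 s hs _ (hYK.trans hKE) hYc hCY
  have hY1 : zpowers y ≠ ⊥ := ne_bot_of_card_prime' (by rw [hYc]; exact hs.1)
  have hCE : sigmaCore M ⊓ centralizer (E : Set G) ≠ ⊥ := by
    rw [← cent_eq_of_semiprime hsp (hYK.trans hKE) hY1]; exact hCY
  have hEκ : ∀ t : ℕ, t.Prime → t ∣ Nat.card E → t ∈ kappa M := by
    intro t ht htE
    have : Fact t.Prime := ⟨ht⟩
    obtain ⟨e, heE, heo⟩ := exists_orderOf_mem htE
    have htσ : t ∉ sigma M := not_mem_sigma_of_dvd_compl hHall hE ht htE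
    have hrk2 : PRankLE t 2 M := prankLE_two_of_not_mem_sigma ht h05.1 h05.2.2.1 htσ
    have hrk1 : PRankLE t 1 M := by
      by_contra h
      have : t ∈ tau2 M := ⟨ht, htσ, hrk2, h⟩
      rw [hτ2] at this
      exact this
    have ht2 : t ≠ 2 := prime_ne_two hG E htE
    apply mem_kappa_of_fixed htσ (sylow_cyclic_of_rank_one ht2 hrk1) (hE.1 heE)
      (ne_one_of_orderOf_prime heo) (isPGroup_zpowers_of_orderOf' heo)
    rw [hsp e heE (ne_one_of_orderOf_prime heo)]; exact hCE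
  have hKeq : K = E := eq_of_hall_kappa hK hKE hE.1 hEκ
  subst hKeq
  refine ⟨fun k hk hk1 => hsp k hk hk1, ⟨⊥, ?_, ?_, ?_, ?_⟩, ?_⟩
  · exact ⟨⟨fun a b => Subsingleton.elim _ _⟩⟩
  · refine ⟨bot_le, ?_, ?_⟩
    · intro q hq hd
      rw [Subgroup.card_bot] at hd
      exact absurd (Nat.dvd_one.mp hd) hq.one_lt.ne'
    · intro q hq hqπ hd
      have hqM : q ∣ Nat.card M := by
        have := Cfsg.Agent.Helper55.BGB.card_mul_relIndex (bot_le : (⊥ : Subgroup G) ≤ M)
        rw [Subgroup.card_bot, one_mul] at this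
        rw [← this]; exact hd
      rcases dvd_compl_or_mem_sigma hE hq hqM with h | h
      · exact hqπ.2.1 (hEκ q hq h)
      · exact hqπ.2.2 h
  · intro k _
    rw [Subgroup.mem_normalizer_iff]
    intro z
    show z ∈ (⊥ : Subgroup G) ↔ k * z * k⁻¹ ∈ (⊥ : Subgroup G)
    rw [Subgroup.mem_bot, Subgroup.mem_bot]
    constructor
    · intro h; rw [h]; group
    · intro h
      have : z = k⁻¹ * (k * z * k⁻¹) * k := by group
      rw [this, h]; group
  · intro k _ _
    exact bot_inf_eq _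
  · intro X hXK hXp
    have hX1 : X ≠ ⊥ := ne_bot_of_card_prime' hXp
    have hXn : K ≤ normalizer (X : Set G) := h9 M K hM hE hτ2 hsp hCE X hXK hXp
    have hcX := cent_eq_of_semiprime hsp hXK hX1
    refine ⟨?_, ?_, le_sigmaCore_of_L6 hG h6 hM hK hXK hXp⟩
    · rw [normalizer_compl hE (le_normalizer_sigmaCore M) hXK, inf_eq_left.mpr hXn, hcX]
    · rw [normalizer_compl hE (le_normalizer_sigmaCore M) (le_refl K),
        inf_eq_left.mpr Subgroup.le_normalizer]

end Cfsg.Agent.Helper45.BG142
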