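import Mathlib
import Cfsg.Prelude.Def_OddOrderLocal
import Cfsg.Agent.Lib.Helper45.BG142c
import Cfsg.Agent.S1415
import Cfsg.Agent.S1420
import Cfsg.Agent.Lib.Helper55.BGCyclic

/-!
# BG Theorem 14.2 assembly, part d: S1430 in case T1 (all primes of `K` lie in `τ₁(M)`) (helper45)
-/

set_option autoImplicit false
set_option linter.unusedSectionVars false
set_option linter.unusedVariables false
set_option maxHeartbeats 800000

namespace Cfsg.Agent.Helper45.BG142

open Cfsg Subgroup Cfsg.Agent.Helper55.BGB Cfsg.Agent.Helper45.BGTools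
open Cfsg.Agent.Helper34.BG Cfsg.Agent.Helper52
open scoped commutatorElement

variable {G : Type*} [Group G] [Finite G]

/-- the statement of S1428 for `G` (taken as a hypothesis: the row is not on main yet). -/
def T1428 (G : Type*) [Group G] : Prop :=
  ∀ (M : Subgroup G), IsCoatom M → ∀ E : Subgroup G, IsComplIn E (sigmaCore M) M →
    ∀ p : ℕ, p ∈ tau1 M → ∀ P : Subgroup G, P ≤ E → Nat.card P = p →
    ∀ R : Subgroup G, R ≤ E ⊓ centralizer (P : Set G) → (Nat.card R).Prime →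
      sigmaCore M ⊓ centralizer (P : Set G) ≤ sigmaCore M ⊓ centralizer (R : Set G)

/-- a subgroup of `E` containing the derived subgroup is normal in `E`. -/
theorem le_normalizer_of_commutator_le {E U : Subgroup G} (hUE : U ≤ E) (hD : ⁅E, E⁆ ≤ U) :
    E ≤ normalizer (U : Set G) := by
  intro e he
  rw [Subgroup.mem_normalizer_iff]
  intro u
  constructor
  · intro hu
    have h1 : ⁅e, u⁆ ∈ ⁅E, E⁆ := Subgroup.commutator_mem_commutator he (hUE hu)
    have e1 : e * u * e⁻¹ = ⁅e, u⁆ * u := by rw [commutatorElement_def]; group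
    rw [e1]; exact U.mul_mem (hD h1) hu
  · intro hu
    have h2 : e * u * e⁻¹ ∈ E := hUE hu
    have huE : u ∈ E := by
      have : u = e⁻¹ * (e * u * e⁻¹) * e := by group
      rw [this]; exact E.mul_mem (E.mul_mem (E.inv_mem he) h2) he
    have h1 : ⁅e⁻¹, e * u * e⁻¹⁆ ∈ ⁅E, E⁆ :=
      Subgroup.commutator_mem_commutator (E.inv_mem he) h2
    have e1 : u = ⁅e⁻¹, e * u * e⁻¹⁆ * (e * u * e⁻¹) := by rw [commutatorElement_def]; group
    rw [e1]; exact U.mul_mem (hD h1) hu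

/-- powers of commuting elements commute. -/
theorem zpowers_le_centralizer_zpowers {a b : G} (h : a * b = b * a) :
    zpowers a ≤ centralizer ((zpowers b : Subgroup G) : Set G) := by
  intro z hz
  obtain ⟨n, rfl⟩ := Subgroup.mem_zpowers_iff.mp hz
  rw [Subgroup.mem_centralizer_iff]
  intro w hw
  obtain ⟨m, rfl⟩ := Subgroup.mem_zpowers_iff.mp hw
  have hc : Commute a b := h
  exact ((hc.zpow_left n).zpow_right m).eq.symm

/-- an element of prime order `p` among the powers of `k ≠ 1`. -/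
theorem exists_pow_orderOf_prime {k : G} (hk1 : k ≠ 1) :
    ∃ p : ℕ, p.Prime ∧ ∃ x ∈ zpowers k, orderOf x = p := by
  have ho : orderOf k ≠ 1 := by
    intro h; exact hk1 (orderOf_eq_one_iff.mp h)
  obtain ⟨p, hp, hd⟩ := Nat.exists_prime_and_dvd ho
  refine ⟨p, hp, k ^ (orderOf k / p), Subgroup.pow_mem _ (Subgroup.mem_zpowers k) _, ?_⟩
  have hpos : 0 < orderOf k := orderOf_pos k
  rw [orderOf_pow' k (by
    intro h0
    have := Nat.div_eq_zero_iff.mp h0
    rcases this with h | h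
    · exact hp.ne_zero h
    · exact absurd (Nat.le_of_dvd hpos hd) (not_le.mpr h))]
  rw [Nat.gcd_eq_right (Nat.div_dvd_of_dvd hd)]
  exact Nat.div_div_self hd hpos.ne'

/-- **S1430 in case T1**: every prime divisor of `|K|` lies in `τ₁(M)`. -/
theorem s1430_T1 (hG : IsMinSimpleOddOrder G) (h28 : T1428 G) (h2 : L2 G) (h5 : L5 G)
    (h6 : L6 G)
    {M K : Subgroup G} (hM : IsCoatom M) (hK : IsPiHallOf (kappa M) K M) (hK1 : K ≠ ⊥)
    (hT1 : ∀ q : ℕ, q.Prime → q ∣ Nat.card K → q ∈ tau1 M) :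
    (∀ k ∈ K, k ≠ 1 → sigmaCore M ⊓ centralizer ({k} : Set G) =
      (sigmaCore M ⊓ centralizer (K : Set G))) ∧
    (∃ U : Subgroup G, IsMulCommutative U ∧
      IsPiHallOf {q | q.Prime ∧ q ∉ kappa M ∧ q ∉ sigma M} U M ∧
      K ≤ normalizer (U : Set G) ∧ ∀ k ∈ K, k ≠ 1 → U ⊓ centralizer ({k} : Set G) = ⊥) ∧
    ∀ X : Subgroup G, X ≤ K → (Nat.card X).Prime →
      M ⊓ normalizer (X : Set G) = K ⊔ (sigmaCore M ⊓ centralizer (K : Set G)) ∧
      M ⊓ normalizer (K : Set G) = K ⊔ (sigmaCore M ⊓ centralizer (K : Set G)) ∧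
      ∀ Mstar : Subgroup G, IsCoatom Mstar → normalizer (X : Set G) ≤ Mstar →
        X ≤ sigmaCore Mstar := by
  classical
  have hHall := (Cfsg.Agent.S1350.result hG M hM).1
  have h05 := Cfsg.Agent.S1405.result hG M hM
  have hsol : Group.IsSolvable M := solvable_of_ne_top hG hM.1
  have hKσ : ∀ q : ℕ, q.Prime → q ∣ Nat.card K → q ∉ sigma M :=
    fun q hq hd => not_mem_sigma_of_mem_kappa (hK.2.1 q hq hd)
  obtain ⟨E, hE, hKE⟩ := exists_compl_ge hsol hHall hK.1 hKσ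
  have hEM : E ≤ M := hE.1
  have hEsol : Group.IsSolvable E :=
    solvable_of_ne_top hG (ne_top_of_le_ne_top hM.1 hEM)
  have hE0 : Nat.card E ≠ 0 := Nat.card_pos.ne'
  -- the Hall `τ₁`-subgroup `E₁ ≥ K` of `E`
  have hmn : Nat.card E = piPart (tau1 M) (Nat.card E) * piPrimePart (tau1 M) (Nat.card E) :=
    (piPart_mul_piPrimePart (tau1 M) hE0).symm
  have hcopmn := piPart_coprime (tau1 M) (Nat.card E)
  have hKn : (Nat.card K).Coprime (piPrimePart (tau1 M) (Nat.card E)) := by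
    apply coprime_of_disjoint_primes
    intro q hq h1 h2'
    exact not_mem_of_prime_dvd_piPrimePart (tau1 M) hq h2' (hT1 q hq h1)
  obtain ⟨E₁, hE₁E, hE₁c, hKE₁, -⟩ := exists_invariant_hall_ge (⊥ : Subgroup G) E K
    bot_le (by rw [Subgroup.card_bot]; exact Nat.coprime_one_left _) hEsol _ _ hmn hcopmn hKE bot_le
    hKn
  have hE₁Hall : IsPiHallOf (tau1 M) E₁ E := (isPiHallOf_iff_card (tau1 M) E₁ E).mpr ⟨hE₁E, hE₁c⟩
  have hE₁cyc : IsCyclic E₁ := (Cfsg.Agent.S1415.result hG M hM E hE).2.1 E₁ hE₁Hall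
  have hsp1 := h2 M E E₁ hM hE hE₁Hall
  -- a subgroup of prime order of `K`
  obtain ⟨k₀, hk₀K, hk₀1⟩ : ∃ k ∈ K, k ≠ 1 := by
    by_contra h
    push Not at h
    exact hK1 ((Subgroup.eq_bot_iff_forall _).mpr h)
  obtain ⟨p₀, hp₀, x₀, hx₀k, hx₀o⟩ := exists_pow_orderOf_prime hk₀1
  have hx₀K : x₀ ∈ K := (zpowers_le.mpr hk₀K) hx₀k
  have hp₀f : Fact p₀.Prime := ⟨hp₀⟩
  have hX₀K : zpowers x₀ ≤ K := zpowers_le.mpr hx₀K
  have hX₀c : Nat.card (zpowers x₀) = p₀ := by rw [Nat.card_zpowers, hx₀o]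
  obtain ⟨hp₀κ, hCX₀⟩ := kappa_fixed hK hX₀K hX₀c
  have hX₀1 : zpowers x₀ ≠ ⊥ := ne_bot_of_card_prime' (by rw [hX₀c]; exact hp₀)
  have hCE₁ : sigmaCore M ⊓ centralizer (E₁ : Set G) ≠ ⊥ := by
    rw [← cent_eq_of_semiprime hsp1 (hX₀K.trans hKE₁) hX₀1]; exact hCX₀
  have hE₁κ : ∀ t : ℕ, t.Prime → t ∣ Nat.card E₁ → t ∈ kappa M := by
    intro t ht htE
    have : Fact t.Prime := ⟨ht⟩
    obtain ⟨e, heE, heo⟩ := exists_orderOf_mem htE
    have htτ : t ∈ tau1 M := hE₁Hall.2.1 t ht htE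
    have ht2 : t ≠ 2 := prime_ne_two hG E₁ htE
    apply mem_kappa_of_fixed htτ.2.1 (sylow_cyclic_of_rank_one ht2 htτ.2.2.2.2)
      (hEM (hE₁E heE)) (ne_one_of_orderOf_prime heo) (isPGroup_zpowers_of_orderOf' heo)
    rw [hsp1 e heE (ne_one_of_orderOf_prime heo)]; exact hCE₁
  have hKeq : K = E₁ := eq_of_hall_kappa hK hKE₁ (hE₁E.trans hEM) hE₁κ
  subst hKeq
  have hKcomm : ∀ a ∈ K, ∀ b ∈ K, a * b = b * a := fun a ha b hb =>
    Cfsg.Agent.Helper55.BGB.commute_of_isCyclic hE₁cyc ha hb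
  -- the Hall `τ₁'`-subgroup `U` of `E`
  obtain ⟨U, hUE, hUc⟩ := hall_exists_internal E hEsol _ _ (by rw [mul_comm]; exact hmn)
    hcopmn.symm
  have hUM : U ≤ M := hUE.trans hEM
  have hUτ : ∀ q : ℕ, q.Prime → q ∣ Nat.card U → q ∉ tau1 M := by
    intro q hq hd
    rw [hUc] at hd
    exact not_mem_of_prime_dvd_piPrimePart (tau1 M) hq hd
  have hcardE : Nat.card U * Nat.card K = Nat.card E := by
    rw [hUc, hE₁c, mul_comm]; exact hmn.symm
  have hUK : U ⊓ K = ⊥ := by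
    refine (Subgroup.disjoint_of_coprime_natCard ?_).eq_bot
    rw [hUc, hE₁c]; exact hcopmn.symm
  have hUKc : IsComplIn U K E := isComplIn_of_card hUE hKE hUK hcardE
  -- `E' ≤ U`
  have hDE : ⁅E, E⁆ ≤ E := by
    rw [Subgroup.commutator_le]
    intro a ha b hb
    rw [commutatorElement_def]
    exact E.mul_mem (E.mul_mem (E.mul_mem ha hb) (E.inv_mem ha)) (E.inv_mem hb)
  have hDτ : ∀ q : ℕ, q.Prime → q ∣ Nat.card ↥⁅E, E⁆ → q ∉ tau1 M := by
    intro q hq hd hτ
    apply hτ.2.2.2.1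
    exact hd.trans (Subgroup.card_dvd_of_le (Subgroup.commutator_mono hEM hEM))
  have hUD : U ≤ normalizer ((⁅E, E⁆ : Subgroup G) : Set G) := by
    intro u hu
    have huE := hUE hu
    rw [Subgroup.mem_normalizer_iff]
    intro z
    have hnorm : ∀ w : G, w ∈ E → ∀ z ∈ ⁅E, E⁆, w * z * w⁻¹ ∈ ⁅E, E⁆ := by
      intro w hw z hz
      have hc : ⁅w, z⁆ ∈ ⁅E, E⁆ := Subgroup.commutator_mem_commutator hw (hDE hz)
      have e1 : w * z * w⁻¹ = ⁅w, z⁆ * z := by rw [commutatorElement_def]; group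
      rw [e1]; exact Subgroup.mul_mem _ hc hz
    constructor
    · exact hnorm u huE z
    · intro hz
      have := hnorm u⁻¹ (E.inv_mem huE) _ hz
      have e1 : u⁻¹ * (u * z * u⁻¹) * u⁻¹⁻¹ = z := by group
      rw [e1] at this; exact this
  have hDU : ⁅E, E⁆ ≤ U := by
    have hdvd := Cfsg.Agent.Helper50.card_sup_dvd_of_le_normalizer ⁅E, E⁆ U hUD
    have hle : ⁅E, E⁆ ⊔ U ≤ E := sup_le hDE hUE
    have hcop : (Nat.card ↥(⁅E, E⁆ ⊔ U)).Coprime (Nat.card K) := by
      apply coprime_of_disjoint_primes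
      intro q hq h1 h2'
      have hqτ : q ∈ tau1 M := hE₁Hall.2.1 q hq h2'
      rcases (Nat.Prime.dvd_mul hq).mp (h1.trans hdvd) with h | h
      · exact hDτ q hq h hqτ
      · exact hUτ q hq h hqτ
    have hd2 : Nat.card ↥(⁅E, E⁆ ⊔ U) ∣ Nat.card U * Nat.card K := by
      rw [hcardE]; exact Subgroup.card_dvd_of_le hle
    have hd3 : Nat.card ↥(⁅E, E⁆ ⊔ U) ∣ Nat.card U := hcop.dvd_of_dvd_mul_right hd2
    have heq : U = ⁅E, E⁆ ⊔ U :=
      Subgroup.eq_of_le_of_card_ge le_sup_right (Nat.le_of_dvd Nat.card_pos hd3)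
    rw [heq]; exact le_sup_left
  have hUn : E ≤ normalizer (U : Set G) := le_normalizer_of_commutator_le hUE hDU
  have hKU : K ≤ normalizer (U : Set G) := hKE.trans hUn
  -- conjugation of `U` by elements of `E`
  have hUconj : ∀ e ∈ E, ∀ u ∈ U, e * u * e⁻¹ ∈ U := fun e he u hu =>
    (Subgroup.mem_normalizer_iff.mp (hUn he) u).mp hu
  -- primes of `U`
  have hUσ : ∀ q : ℕ, q.Prime → q ∣ Nat.card U → q ∉ sigma M := fun q hq hd =>
    not_mem_sigma_of_dvd_compl hHall hE hq (hd.trans (Subgroup.card_dvd_of_le hUE))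
  have hκK : ∀ q : ℕ, q ∈ kappa M → q ∣ Nat.card K := by
    intro q hqκ
    have hqM : q ∣ Nat.card M := hqκ.2.1
    rw [← Cfsg.Agent.Helper55.BGB.card_mul_relIndex hK.1] at hqM
    rcases (Nat.Prime.dvd_mul hqκ.1).mp hqM with h | h
    · exact h
    · exact absurd h (hK.2.2 q hqκ.1 hqκ)
  have hUκ : ∀ q : ℕ, q.Prime → q ∣ Nat.card U → q ∉ kappa M := fun q hq hd hκ =>
    hUτ q hq hd (hT1 q hq (hκK q hκ))
  -- the fixed-point-freeness of `K` on `U`
  have hfree : ∀ k ∈ K, k ≠ 1 → U ⊓ centralizer ({k} : Set G) = ⊥ := by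
    intro k hk hk1
    by_contra hne
    obtain ⟨u, hu, hu1⟩ : ∃ u ∈ U ⊓ centralizer ({k} : Set G), u ≠ 1 := by
      by_contra h
      push Not at h
      exact hne ((Subgroup.eq_bot_iff_forall _).mpr h)
    obtain ⟨huU, huc⟩ := Subgroup.mem_inf.mp hu
    have huk : u * k = k * u := by
      have := Subgroup.mem_centralizer_iff.mp huc k (Set.mem_singleton k)
      exact this.symm
    obtain ⟨p, hp, x, hxk, hxo⟩ := exists_pow_orderOf_prime hk1
    obtain ⟨r, hr, v, hvu, hvo⟩ := exists_pow_orderOf_prime hu1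
    have hpf : Fact p.Prime := ⟨hp⟩
    have hrf : Fact r.Prime := ⟨hr⟩
    have hxK : x ∈ K := (zpowers_le.mpr hk) hxk
    have hvU : v ∈ U := (zpowers_le.mpr huU) hvu
    have hXc : Nat.card (zpowers x) = p := by rw [Nat.card_zpowers, hxo]
    have hRc : Nat.card (zpowers v) = r := by rw [Nat.card_zpowers, hvo]
    have hXK : zpowers x ≤ K := zpowers_le.mpr hxK
    have hXE : zpowers x ≤ E := hXK.trans hKE
    have hRU : zpowers v ≤ U := zpowers_le.mpr hvU
    have hRE : zpowers v ≤ E := hRU.trans hUE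
    have hRX : zpowers v ≤ centralizer ((zpowers x : Subgroup G) : Set G) := by
      have h1 : zpowers u ≤ centralizer ((zpowers k : Subgroup G) : Set G) :=
        zpowers_le_centralizer_zpowers huk
      intro z hz
      have hz' := h1 ((zpowers_le.mpr (Subgroup.mem_zpowers u)) (show z ∈ zpowers u from
        (zpowers_le.mpr hvu) hz))
      rw [Subgroup.mem_centralizer_iff] at hz' ⊢
      intro w hw
      exact hz' w ((zpowers_le.mpr hxk) hw)
    have hpτ : p ∈ tau1 M := hT1 p hp (hXc ▸ Subgroup.card_dvd_of_le hXK)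
    obtain ⟨-, hCX⟩ := kappa_fixed hK hXK hXc
    have h28' := h28 M hM E hE p hpτ (zpowers x) hXE hXc (zpowers v)
      (le_inf hRE hRX) (by rw [hRc]; exact hr)
    have hCR : sigmaCore M ⊓ centralizer ((zpowers v : Subgroup G) : Set G) ≠ ⊥ := by
      intro h
      apply hCX
      exact le_bot_iff.mp (h ▸ h28')
    have hrU : r ∣ Nat.card U := hRc ▸ Subgroup.card_dvd_of_le hRU
    have hrσ : r ∉ sigma M := hUσ r hr hrU
    have hrτ : r ∉ tau1 M := hUτ r hr hrU
    have hrk2 : PRankLE r 2 M := prankLE_two_of_not_mem_sigma hr h05.1 h05.2.2.1 hrσ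
    by_cases hrk1 : PRankLE r 1 M
    · have hr2 : r ≠ 2 := prime_ne_two hG U hrU
      have hCv : sigmaCore M ⊓ centralizer ({v} : Set G) ≠ ⊥ := by
        intro h
        apply hCR
        exact le_bot_iff.mp (h ▸ cent_le_cent_singleton (Subgroup.mem_zpowers v))
      have hrκ : r ∈ kappa M :=
        mem_kappa_of_fixed hrσ (sylow_cyclic_of_rank_one hr2 hrk1) (hUM hvU)
          (ne_one_of_orderOf_prime hvo) (isPGroup_zpowers_of_orderOf' hvo) hCv
      exact hUκ r hr hrU hrκ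
    · exact h5 M E hM hE p hpτ (zpowers x) hXE hXc hCX r ⟨hr, hrσ, hrk2, hrk1⟩ (zpowers v) hRE hRc
        hRX
  -- `U` is nilpotent (Thompson), hence abelian
  have hUnil : Group.IsNilpotent U := by
    have hx₀p : x₀ ^ p₀ = 1 := by rw [← hx₀o]; exact pow_orderOf_eq_one x₀
    apply Cfsg.Agent.Helper20.BG13.nilpotent_of_free U x₀ (hKU hx₀K) p₀ hp₀ hx₀p
    intro y hy hy1 hxy
    have : y ∈ U ⊓ centralizer ({x₀} : Set G) := by
      refine Subgroup.mem_inf.mpr ⟨hy, ?_⟩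
      rw [Subgroup.mem_centralizer_iff]
      intro z hz
      rw [Set.mem_singleton_iff] at hz
      rw [hz]; exact hxy
    rw [hfree x₀ hx₀K (ne_one_of_orderOf_prime hx₀o), Subgroup.mem_bot] at this
    exact hy1 this
  have hUab : IsMulCommutative U :=
    (Cfsg.Agent.S1420.result hG M hM E hE).1 U hUM hUnil hUσ
  -- `U` is a Hall subgroup of `M` for the primes outside `κ ∪ σ`
  have hUHall : IsPiHallOf {q | q.Prime ∧ q ∉ kappa M ∧ q ∉ sigma M} U M := by
    refine ⟨hUM, fun q hq hd => ⟨hq, hUκ q hq hd, hUσ q hq hd⟩, ?_⟩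
    intro q hq hqπ hd
    have h1 : Nat.card U * U.relIndex M = Nat.card M :=
      Cfsg.Agent.Helper55.BGB.card_mul_relIndex hUM
    have h2' : Nat.card U * (Nat.card K * Nat.card (sigmaCore M)) = Nat.card M := by
      rw [← mul_assoc, hcardE]; exact compl_card hE
    have h3 : U.relIndex M = Nat.card K * Nat.card (sigmaCore M) :=
      Nat.eq_of_mul_eq_mul_left Nat.card_pos (h1.trans h2'.symm)
    rw [h3] at hd
    rcases (Nat.Prime.dvd_mul hq).mp hd with h | h
    · exact hqπ.2.1 (hK.2.1 q hq h)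
    · exact hqπ.2.2 (isPi_sigmaCore M q hq h)
  -- `E ∩ N(X) ≤ K` for `1 ≠ X ≤ K`
  have hEN : ∀ X : Subgroup G, X ≤ K → X ≠ ⊥ → E ⊓ normalizer (X : Set G) ≤ K := by
    intro X hXK hX1 e he
    obtain ⟨heE, heN⟩ := Subgroup.mem_inf.mp he
    obtain ⟨u, hu, k, hk, rfl⟩ := hUKc.2.2.2 e heE
    have hkN : k ∈ normalizer (X : Set G) := by
      rw [Subgroup.mem_normalizer_iff]
      intro z
      constructor
      · intro hz
        have : k * z * k⁻¹ = z := by
          rw [hKcomm k hk z (hXK hz)]; group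
        rw [this]; exact hz
      · intro hz
        have hzK : z ∈ K := by
          have : z = k⁻¹ * (k * z * k⁻¹) * k := by group
          rw [this]; exact K.mul_mem (K.mul_mem (K.inv_mem hk) (hXK hz)) hk
        have : k * z * k⁻¹ = z := by
          rw [hKcomm k hk z hzK]; group
        rw [this] at hz; exact hz
    have huN : u ∈ normalizer (X : Set G) := by
      have : u = u * k * k⁻¹ := by group
      rw [this]; exact Subgroup.mul_mem _ heN (Subgroup.inv_mem _ hkN)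
    obtain ⟨x, hx, hx1⟩ : ∃ x ∈ X, x ≠ 1 := by
      by_contra h
      push Not at h
      exact hX1 ((Subgroup.eq_bot_iff_forall _).mpr h)
    have hc1 : u * x * u⁻¹ * x⁻¹ ∈ X :=
      X.mul_mem ((Subgroup.mem_normalizer_iff.mp huN x).mp hx) (X.inv_mem hx)
    have hc2 : u * x * u⁻¹ * x⁻¹ ∈ U := by
      have e1 : u * x * u⁻¹ * x⁻¹ = u * (x * u⁻¹ * x⁻¹) := by group
      rw [e1]
      exact U.mul_mem hu (hUconj x (hKE (hXK hx)) u⁻¹ (U.inv_mem hu))
    have hc3 : u * x * u⁻¹ * x⁻¹ ∈ U ⊓ K := Subgroup.mem_inf.mpr ⟨hc2, hXK hc1⟩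
    rw [hUK, Subgroup.mem_bot] at hc3
    have hux : x * u = u * x := by
      calc x * u = (u * x * u⁻¹ * x⁻¹)⁻¹ * (u * x) := by group
        _ = u * x := by rw [hc3, inv_one, one_mul]
    have huC : u ∈ U ⊓ centralizer ({x} : Set G) := by
      refine Subgroup.mem_inf.mpr ⟨hu, ?_⟩
      rw [Subgroup.mem_centralizer_iff]
      intro z hz
      rw [Set.mem_singleton_iff] at hz
      rw [hz]; exact hux
    rw [hfree x (hXK hx) hx1, Subgroup.mem_bot] at huC
    rw [huC, one_mul]; exact hk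
  have hKN : ∀ X : Subgroup G, X ≤ K → K ≤ normalizer (X : Set G) := by
    intro X hXK k hk
    rw [Subgroup.mem_normalizer_iff]
    intro z
    constructor
    · intro hz
      have : k * z * k⁻¹ = z := by
        rw [hKcomm k hk z (hXK hz)]; group
      rw [this]; exact hz
    · intro hz
      have hzK : z ∈ K := by
        have : z = k⁻¹ * (k * z * k⁻¹) * k := by group
        rw [this]; exact K.mul_mem (K.mul_mem (K.inv_mem hk) (hXK hz)) hk
      have : k * z * k⁻¹ = z := by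
        rw [hKcomm k hk z hzK]; group
      rw [this] at hz; exact hz
  refine ⟨fun k hk hk1 => hsp1 k hk hk1, ⟨U, hUab, hUHall, hKU, hfree⟩, ?_⟩
  intro X hXK hXp
  have hX1 : X ≠ ⊥ := ne_bot_of_card_prime' hXp
  have hcX := cent_eq_of_semiprime hsp1 hXK hX1
  refine ⟨?_, ?_, le_sigmaCore_of_L6 hG h6 hM hK hXK hXp⟩
  · rw [normalizer_compl hE (le_normalizer_sigmaCore M) (hXK.trans hKE), hcX]
    congr 1
    exact le_antisymm (hEN X hXK hX1) (le_inf hKE (hKN X hXK))
  · rw [normalizer_compl hE (le_normalizer_sigmaCore M) hKE]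
    congr 1
    exact le_antisymm (hEN K le_rfl hK1) (le_inf hKE Subgroup.le_normalizer)

end Cfsg.Agent.Helper45.BG142
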