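import Mathlib
import Cfsg.Prelude.Def_OddOrderLocal
import Cfsg.Agent.Lib.Helper45.BG142d
import Cfsg.Agent.S1404
import Cfsg.Agent.S1409
import Cfsg.Agent.S1425
import Cfsg.Agent.S1426

/-!
# BG Theorem 14.2 assembly, part e: `s1430_of` and S1431 from S1430 (helper45)
-/

set_option autoImplicit false
set_option linter.unusedSectionVars false
set_option linter.unusedVariables false
set_option maxHeartbeats 800000

namespace Cfsg.Agent.Helper45.BG142

open Cfsg Subgroup Cfsg.Agent.Helper55.BGB Cfsg.Agent.Helper45.BGTools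
open Cfsg.Agent.Helper34.BG Cfsg.Agent.Helper52

variable {G : Type*} [Group G] [Finite G]

/-- the statement of S1423 for `G` (taken as a hypothesis: the row is not on main yet). -/
def T1423 (G : Type*) [Group G] : Prop :=
  ∀ (M : Subgroup G), IsCoatom M → ∀ (p : ℕ) [Fact p.Prime], p ∈ sigma M → ∀ X : Subgroup G,
    X ≤ M → Nat.card X = p → ∀ P : Sylow p ↥(sigmaCore M),
    (p ∈ beta M ∨ X ≤ ⁅sigmaCore M, sigmaCore M⁆) →
    (centralizer (X : Set G) ≤ M ∧
      ∀ L : Subgroup G, IsCoatom L → centralizer (X : Set G) ≤ L → L = M) ∧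
    InUniqueMaximal ((P : Subgroup ↥(sigmaCore M)).map (sigmaCore M).subtype) ∧
    (P : Subgroup ↥(sigmaCore M)).map (sigmaCore M).subtype ≤ M

/-- **S1430 from S1428 and the lemmas (L1), (L2), (L5), (L6), (L8), (L9)**. -/
theorem s1430_of (hG : IsMinSimpleOddOrder G) (h28 : T1428 G) (h1 : L1 G) (h2 : L2 G) (h5 : L5 G)
    (h6 : L6 G) (h8 : L8 G) (h9 : L9 G) : T1430 G := by
  intro M hM K hK hK1
  by_cases h3 : ∃ s, s ∈ tau3 M ∧ s ∣ Nat.card K
  · obtain ⟨s, hs, hsK⟩ := h3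
    exact s1430_T3 hG h1 h6 h8 h9 hM hK hK1 hs hsK
  · push Not at h3
    apply s1430_T1 hG h28 h2 h5 h6 hM hK hK1
    intro q hq hd
    have hκ := hK.2.1 q hq hd
    have hrk := Cfsg.Agent.Helper45.BG143.pRankLE_one_of_kappa hκ
    by_cases hd' : q ∣ Nat.card ↥⁅M, M⁆
    · exact absurd hd (h3 q ⟨hq, hκ.2.2.1, hd', hrk⟩)
    · exact ⟨hq, hκ.2.2.1, hκ.2.1, hd', hrk⟩

/-- two subgroups of order `p ∈ κ(M)` of `M`, one normalizing the other, coincide. -/
theorem eq_of_card_prime_kappa {M X X' : Subgroup G} {p : ℕ} [hp : Fact p.Prime]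
    (hpκ : p ∈ kappa M) (hXM : X ≤ M) (hX'M : X' ≤ M) (hX : Nat.card X = p)
    (hX' : Nat.card X' = p) (hn : X' ≤ normalizer (X : Set G)) : X = X' := by
  have hdvd := Cfsg.Agent.Helper50.card_sup_dvd_of_le_normalizer X X' hn
  rw [hX, hX', ← pow_two] at hdvd
  obtain ⟨m, -, hm⟩ := (Nat.dvd_prime_pow hp.out).mp hdvd
  have hJp : IsPGroup p ↥(X ⊔ X') := IsPGroup.of_card hm
  have hJM : X ⊔ X' ≤ M := sup_le hXM hX'M
  have hJp' : IsPGroup p ((X ⊔ X').subgroupOf M) := by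
    apply hJp.comap_of_injective
    exact M.subtype_injective
  obtain ⟨P, hJP⟩ := hJp'.exists_le_sylow
  have hcyc : IsCyclic (P : Subgroup M) := (hpκ.2.2.2 P).1
  have hPmap_cyc : IsCyclic ((P : Subgroup M).map M.subtype) := by
    have e : (P : Subgroup M) ≃* ((P : Subgroup M).map M.subtype) :=
      (P : Subgroup M).equivMapOfInjective M.subtype M.subtype_injective
    exact isCyclic_of_surjective e.toMonoidHom e.surjective
  have hJPm : X ⊔ X' ≤ (P : Subgroup M).map M.subtype := by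
    intro z hz
    exact ⟨⟨z, hJM hz⟩, hJP (Subgroup.mem_subgroupOf.mpr hz), rfl⟩
  exact Cfsg.Agent.Helper76.EqOrd.eq_of_card_eq_of_le_isCyclic _ X X' (le_sup_left.trans hJPm)
    (le_sup_right.trans hJPm) (by rw [hX, hX'])

/-- **S1431 from S1430** (and the "non-`P₁` ⟹ `σ(M) = β(M)`" lemma). -/
theorem s1431_of (hG : IsMinSimpleOddOrder G) (h1423 : T1423 G) (hβ : BetaOfNotP1 G)
    (h30 : T1430 G) : T1431 G := by
  classical
  intro M hM K hK hK1
  obtain ⟨hprim, ⟨U, hUab, hUH, hKU, hUfree⟩, hnorm⟩ := h30 M hM K hK hK1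
  have hHall := (Cfsg.Agent.S1350.result hG M hM).1
  have hsol : Group.IsSolvable M := solvable_of_ne_top hG hM.1
  have hKσ : ∀ q : ℕ, q.Prime → q ∣ Nat.card K → q ∉ sigma M :=
    fun q hq hd => not_mem_sigma_of_mem_kappa (hK.2.1 q hq hd)
  have hKsσ : (sigmaCore M ⊓ centralizer (K : Set G)) ≤ sigmaCore M := inf_le_left
  have hKsM : (sigmaCore M ⊓ centralizer (K : Set G)) ≤ M := hKsσ.trans (sigmaCore_le M)
  -- (UNIQ)
  have huniq : ∀ (q : ℕ) [Fact q.Prime] (X : Subgroup G),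
      X ≤ sigmaCore M ⊓ centralizer (K : Set G) → Nat.card X = q →
      q ∈ beta M ∨ X ≤ ⁅sigmaCore M, sigmaCore M⁆ := by
    intro q hqf X hX hXc
    have hqMs : q ∣ Nat.card (sigmaCore M) := hXc ▸ Subgroup.card_dvd_of_le (hX.trans hKsσ)
    by_cases hP1 : ∀ t : ℕ, t.Prime → t ∣ Nat.card M → t ∉ sigma M → t ∈ kappa M
    · right
      obtain ⟨E, hE, hKE⟩ := exists_compl_ge hsol hHall hK.1 hKσ
      have hEκ : ∀ t : ℕ, t.Prime → t ∣ Nat.card E → t ∈ kappa M := fun t ht hd =>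
        hP1 t ht (hd.trans (Subgroup.card_dvd_of_le hE.1)) (not_mem_sigma_of_dvd_compl hHall hE ht hd)
      have hKeq : K = E := eq_of_hall_kappa hK hKE hE.1 hEκ
      subst hKeq
      exact hX.trans (Cfsg.Agent.S1426.result hG M hM K hE).1
    · left
      exact hβ M K U hM hK hK1 hP1 hprim hUab hUH hKU hUfree q hqf.out hqMs
  -- consequences of S1423
  have h23 : ∀ (q : ℕ) [Fact q.Prime] (X : Subgroup G),
      X ≤ sigmaCore M ⊓ centralizer (K : Set G) → Nat.card X = q →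
      centralizer (X : Set G) ≤ M ∧ ∀ P : Sylow q ↥(sigmaCore M),
        InUniqueMaximal ((P : Subgroup ↥(sigmaCore M)).map (sigmaCore M).subtype) ∧
        (P : Subgroup ↥(sigmaCore M)).map (sigmaCore M).subtype ≤ M := by
    intro q hqf X hX hXc
    have hqσ : q ∈ sigma M :=
      isPi_sigmaCore M q hqf.out (hXc ▸ Subgroup.card_dvd_of_le (hX.trans hKsσ))
    have hh := huniq q X hX hXc
    refine ⟨?_, fun P => ?_⟩
    · obtain ⟨P⟩ : Nonempty (Sylow q ↥(sigmaCore M)) := inferInstance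
      exact (h1423 M hM q hqσ X (hX.trans hKsM) hXc P hh).1.1
    · exact (h1423 M hM q hqσ X (hX.trans hKsM) hXc P hh).2
  -- a subgroup of prime order inside any nontrivial subgroup
  have hprime_sub : ∀ Y : Subgroup G, Y ≠ ⊥ → ∃ q : ℕ, q.Prime ∧ ∃ x ∈ Y, orderOf x = q := by
    intro Y hY
    obtain ⟨y, hy, hy1⟩ : ∃ y ∈ Y, y ≠ 1 := by
      by_contra h
      push Not at h
      exact hY ((Subgroup.eq_bot_iff_forall _).mpr h)
    obtain ⟨q, hq, x, hx, hxo⟩ := exists_pow_orderOf_prime hy1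
    exact ⟨q, hq, x, (zpowers_le.mpr hy) hx, hxo⟩
  refine ⟨?_, ?_, ?_, ?_⟩
  · -- (1)
    intro g hgM
    by_contra hne
    obtain ⟨q, hq, x, hx, hxo⟩ := hprime_sub _ hne
    have hqf : Fact q.Prime := ⟨hq⟩
    obtain ⟨hxKs, hxg⟩ := Subgroup.mem_inf.mp hx
    have hXKs : zpowers x ≤ sigmaCore M ⊓ centralizer (K : Set G) := zpowers_le.mpr hxKs
    have hXc : Nat.card (zpowers x) = q := by rw [Nat.card_zpowers, hxo]
    have hqσ : q ∈ sigma M :=
      isPi_sigmaCore M q hq (hXc ▸ Subgroup.card_dvd_of_le (hXKs.trans hKsσ))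
    have hXg : (zpowers x).map (MulAut.conj g⁻¹).toMonoidHom ≤ M := by
      rintro z ⟨w, hw, rfl⟩
      have hwg : w ∈ M.map (MulAut.conj g).toMonoidHom := (zpowers_le.mpr hxg) hw
      obtain ⟨m, hm, rfl⟩ := hwg
      simp only [MulEquiv.coe_toMonoidHom, MulAut.conj_apply, inv_inv]
      have : g⁻¹ * (g * m * g⁻¹) * g = m := by group
      rw [this]; exact hm
    obtain ⟨m, hm, c, hc, hgmc⟩ :=
      (Cfsg.Agent.S1404.result hG M hM q hqσ (zpowers x) (isPGroup_zpowers_of_orderOf' hxo)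
        (ne_bot_of_card_prime' (by rw [hXc]; exact hq)) (hXKs.trans hKsM)).1 g⁻¹ hXg
    have hcM : c ∈ M := (h23 q (zpowers x) hXKs hXc).1 hc
    apply hgM
    have : g = (m * c)⁻¹ := by rw [← hgmc, inv_inv]
    rw [this]; exact M.inv_mem (M.mul_mem hm hcM)
  · -- (2)
    intro g hgM hgZ
    by_contra hne
    obtain ⟨p, hp, x, hx, hxo⟩ := hprime_sub _ hne
    have hpf : Fact p.Prime := ⟨hp⟩
    obtain ⟨hxK, hxg⟩ := Subgroup.mem_inf.mp hx
    have hXK : zpowers x ≤ K := zpowers_le.mpr hxK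
    have hXc : Nat.card (zpowers x) = p := by rw [Nat.card_zpowers, hxo]
    have hpκ : p ∈ kappa M := hK.2.1 p hp (hXc ▸ Subgroup.card_dvd_of_le hXK)
    -- `X' = g⁻¹ X g ≤ K`
    have hX'K : (zpowers x).map (MulAut.conj g⁻¹).toMonoidHom ≤ K := by
      rintro z ⟨w, hw, rfl⟩
      have hwg : w ∈ K.map (MulAut.conj g).toMonoidHom := (zpowers_le.mpr hxg) hw
      obtain ⟨k, hk, rfl⟩ := hwg
      simp only [MulEquiv.coe_toMonoidHom, MulAut.conj_apply, inv_inv]
      have : g⁻¹ * (g * k * g⁻¹) * g = k := by group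
      rw [this]; exact hk
    have hX'c : Nat.card ((zpowers x).map (MulAut.conj g⁻¹).toMonoidHom) = p := by
      rw [Subgroup.card_map_of_injective (MulAut.conj g⁻¹).injective]; exact hXc
    have hnX := (hnorm (zpowers x) hXK (by rw [hXc]; exact hp)).1
    have hKN : K ≤ normalizer ((zpowers x : Subgroup G) : Set G) := by
      have : K ≤ M ⊓ normalizer ((zpowers x : Subgroup G) : Set G) := by
        rw [hnX]; exact le_sup_left
      exact this.trans inf_le_right
    have heq : zpowers x = (zpowers x).map (MulAut.conj g⁻¹).toMonoidHom :=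
      eq_of_card_prime_kappa hpκ (hXK.trans hK.1) (hX'K.trans hK.1) hXc hX'c (hX'K.trans hKN)
    have hgN : g⁻¹ ∈ normalizer ((zpowers x : Subgroup G) : Set G) := by
      apply Cfsg.Agent.Helper55.BGB.mem_normalizer_of_map_conj_eq
      exact heq.symm
    have hgN' : g ∈ M ⊓ normalizer ((zpowers x : Subgroup G) : Set G) := by
      refine Subgroup.mem_inf.mpr ⟨hgM, ?_⟩
      have := Subgroup.inv_mem _ hgN
      rwa [inv_inv] at this
    rw [hnX] at hgN'
    exact hgZ hgN'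
  · -- (3)
    intro p hp hpKs S
    have hpf : Fact p.Prime := ⟨hp⟩
    obtain ⟨x, hxKs, hxo⟩ := exists_orderOf_mem hpKs
    have hXKs : zpowers x ≤ sigmaCore M ⊓ centralizer (K : Set G) := zpowers_le.mpr hxKs
    have hXc : Nat.card (zpowers x) = p := by rw [Nat.card_zpowers, hxo]
    obtain ⟨hUniq, hSM⟩ := (h23 p (zpowers x) hXKs hXc).2 S
    refine ⟨hUniq, hSM, ?_⟩
    intro hSKs
    obtain ⟨p', hp', x', hx'K, hx'o⟩ := hprime_sub K hK1
    have hp'f : Fact p'.Prime := ⟨hp'⟩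
    have hX'K : zpowers x' ≤ K := zpowers_le.mpr hx'K
    have hX'c : Nat.card (zpowers x') = p' := by rw [Nat.card_zpowers, hx'o]
    have hp'κ : p' ∈ kappa M := hK.2.1 p' hp' (hX'c ▸ Subgroup.card_dvd_of_le hX'K)
    have hX'1 : zpowers x' ≠ ⊥ := ne_bot_of_card_prime' (by rw [hX'c]; exact hp')
    have hX'top : zpowers x' ≠ ⊤ := by
      intro h
      have : (⊤ : Subgroup G) ≤ M := h ▸ (hX'K.trans hK.1)
      exact hM.1 (top_le_iff.mp this)
    have hNtop := normalizer_ne_top hG hX'1 hX'top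
    obtain ⟨L, hL, hNL⟩ := exists_coatom_ge hNtop
    have hSL : (S : Subgroup ↥(sigmaCore M)).map (sigmaCore M).subtype ≤ L := by
      refine hSKs.trans (inf_le_right.trans ?_)
      exact (Subgroup.centralizer_le hX'K).trans
        ((Subgroup.centralizer_le_normalizer _).trans hNL)
    have hLM : L = M := uniq_eq_of_le hUniq hM hSM hL hSL
    rw [hLM] at hNL
    have h09 := Cfsg.Agent.S1409.result hG M hM p' (not_mem_sigma_of_mem_kappa hp'κ) (zpowers x')
      hX'c hNL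
    exact h09.1.2 (Cfsg.Agent.Helper45.BG143.pRankLE_one_of_kappa hp'κ)
  · -- (4)
    intro Y hYσ hYK
    have hY1 : Y ≠ ⊥ := by
      intro h; apply hYK; rw [h]; exact bot_inf_eq _
    obtain ⟨g, hg⟩ := Cfsg.Agent.S1425.result hG M hM Y hY1 hYσ
    obtain ⟨q, hq, x, hx, hxo⟩ := hprime_sub _ hYK
    have hqf : Fact q.Prime := ⟨hq⟩
    obtain ⟨hxY, hxKs⟩ := Subgroup.mem_inf.mp hx
    have hXKs : zpowers x ≤ sigmaCore M ⊓ centralizer (K : Set G) := zpowers_le.mpr hxKs
    have hXc : Nat.card (zpowers x) = q := by rw [Nat.card_zpowers, hxo]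
    have hqσ : q ∈ sigma M :=
      isPi_sigmaCore M q hq (hXc ▸ Subgroup.card_dvd_of_le (hXKs.trans hKsσ))
    have hXg : (zpowers x).map (MulAut.conj g).toMonoidHom ≤ M :=
      (Subgroup.map_mono (zpowers_le.mpr hxY)).trans (hg.trans (sigmaCore_le M))
    obtain ⟨m, hm, c, hc, hgmc⟩ :=
      (Cfsg.Agent.S1404.result hG M hM q hqσ (zpowers x) (isPGroup_zpowers_of_orderOf' hxo)
        (ne_bot_of_card_prime' (by rw [hXc]; exact hq)) (hXKs.trans hKsM)).1 g hXg
    have hcM : c ∈ M := (h23 q (zpowers x) hXKs hXc).1 hc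
    have hgM : g ∈ M := by rw [hgmc]; exact M.mul_mem hm hcM
    intro y hy
    have h1 : g * y * g⁻¹ ∈ sigmaCore M := hg ⟨y, hy, rfl⟩
    have h2 := (Subgroup.mem_normalizer_iff.mp (le_normalizer_sigmaCore M (M.inv_mem hgM))
      (g * y * g⁻¹)).mp h1
    have e1 : g⁻¹ * (g * y * g⁻¹) * g⁻¹⁻¹ = y := by group
    rw [e1] at h2; exact h2

end Cfsg.Agent.Helper45.BG142
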