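import Mathlib
import Cfsg.Prelude.Def_OddOrderLocal
import Cfsg.Agent.Lib.Helper45.BG142e
import Cfsg.Agent.Lib.Helper15.BGV.Tools

/-!
# BG Theorem 14.2 assembly, part f: adaptors from helper54's Q-list to the interface (helper45)
-/

set_option autoImplicit false
set_option linter.unusedSectionVars false
set_option linter.unusedVariables false

namespace Cfsg.Agent.Helper45.BG142

open Cfsg Subgroup Cfsg.Agent.Helper55.BGB Cfsg.Agent.Helper45.BGTools
open Cfsg.Agent.Helper34.BG Cfsg.Agent.Helper52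

variable {G : Type*} [Group G] [Finite G]

/-- (L1) from (Q5). -/
theorem l1_of_q5
    (q5 : ∀ (M : Subgroup G), IsCoatom M → ∀ E : Subgroup G, IsComplIn E (sigmaCore M) M →
      ∀ s : ℕ, s ∈ tau3 M → ∀ Y : Subgroup G, Y ≤ E → Nat.card Y = s →
      sigmaCore M ⊓ centralizer (Y : Set G) ≠ ⊥ → tau2 M = ∅) : L1 G := by
  intro M E hM hE hne s hs Y hYE hY
  by_contra hC
  have := q5 M hM E hE s hs Y hYE hY hC
  rw [this] at hne
  exact Set.not_nonempty_empty hne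

/-- (L5) from (Q6). -/
theorem l5_of_q6
    (q6 : ∀ (M : Subgroup G), IsCoatom M → ∀ E : Subgroup G, IsComplIn E (sigmaCore M) M →
      ∀ p : ℕ, p ∈ tau1 M → ∀ X : Subgroup G, X ≤ E → Nat.card X = p →
      sigmaCore M ⊓ centralizer (X : Set G) ≠ ⊥ → ∀ r : ℕ, r ∈ tau2 M → ∀ R : Subgroup G,
      R ≤ E ⊓ centralizer (X : Set G) → Nat.card R = r → False) : L5 G := by
  intro M E hM hE p hp X hXE hX hC r hr R hRE hR hRX
  exact q6 M hM E hE p hp X hXE hX hC r hr R (le_inf hRE hRX) hR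

/-- `BetaOfNotP1` from (Q15). -/
theorem beta_of_q15
    (q15 : ∀ (M : Subgroup G), IsCoatom M → ∀ (q0 : ℕ) [Fact q0.Prime], q0 ∣ Nat.card M →
      q0 ∉ sigma M ∪ kappa M → ∀ (S : Sylow q0 M) (X : Subgroup G), X ≤ M → (Nat.card X).Prime →
      Nat.card X ∉ sigma M →
      X ≤ normalizer (((S : Subgroup M).map M.subtype : Subgroup G) : Set G) →
      (∀ x ∈ X, x ≠ 1 → (S : Subgroup M).map M.subtype ⊓ centralizer ({x} : Set G) = ⊥) →
      ∀ q : ℕ, q.Prime → q ∣ Nat.card ↥(sigmaCore M) → q ∈ beta M) : BetaOfNotP1 G := by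
  intro M K U hM hK hK1 hnP1 hprim hUab hUH hKU hUfree q hq hqM
  push Not at hnP1
  obtain ⟨q0, hq0, hq0M, hq0σ, hq0κ⟩ := hnP1
  have hq0f : Fact q0.Prime := ⟨hq0⟩
  have hUnil : Group.IsNilpotent ↥U := by
    let _ : CommGroup ↥U := { (inferInstance : Group ↥U) with mul_comm := hUab.is_comm.comm }
    infer_instance
  obtain ⟨T, hTU, hTc, hKT⟩ :=
    Cfsg.Agent.Helper15.BGV.exists_normal_sylow_of_nilpotent hUnil hKU q0
  have hUM : U ≤ M := hUH.1
  have hnd : ¬ q0 ∣ U.relIndex M := hUH.2.2 q0 hq0 ⟨hq0, hq0κ, hq0σ⟩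
  have hsyl : sylCard q0 U = sylCard q0 M := by
    unfold sylCard
    congr 1
    rw [← Cfsg.Agent.Helper55.BGB.card_mul_relIndex hUM,
      Nat.factorization_mul Nat.card_pos.ne' (by
        intro h0
        have := Cfsg.Agent.Helper55.BGB.card_mul_relIndex hUM
        rw [h0, mul_zero] at this
        exact Nat.card_pos.ne' this.symm),
      Finsupp.add_apply, Nat.factorization_eq_zero_of_not_dvd hnd, add_zero]
  obtain ⟨S, hS⟩ := exists_sylow_of_card q0 M T (hTU.trans hUM) (by rw [hTc, hsyl])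
  -- a subgroup of prime order of `K`
  obtain ⟨k₀, hk₀K, hk₀1⟩ : ∃ k ∈ K, k ≠ 1 := by
    by_contra h
    push Not at h
    exact hK1 ((Subgroup.eq_bot_iff_forall _).mpr h)
  obtain ⟨p₀, hp₀, x₀, hx₀k, hx₀o⟩ := exists_pow_orderOf_prime hk₀1
  have hx₀K : x₀ ∈ K := (zpowers_le.mpr hk₀K) hx₀k
  have hX₀K : zpowers x₀ ≤ K := zpowers_le.mpr hx₀K
  have hX₀c : Nat.card (zpowers x₀) = p₀ := by rw [Nat.card_zpowers, hx₀o]
  have hp₀κ : p₀ ∈ kappa M := hK.2.1 p₀ hp₀ (hX₀c ▸ Subgroup.card_dvd_of_le hX₀K)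
  refine q15 M hM q0 hq0M ?_ S (zpowers x₀) (hX₀K.trans hK.1) (by rw [hX₀c]; exact hp₀)
    (by rw [hX₀c]; exact not_mem_sigma_of_mem_kappa hp₀κ) ?_ ?_ q hq hqM
  · simp only [Set.mem_union, not_or]; exact ⟨hq0σ, hq0κ⟩
  · rw [hS]; exact hX₀K.trans hKT
  · intro x hx hx1
    rw [hS]
    apply le_antisymm _ bot_le
    rw [← hUfree x (hX₀K hx) hx1]
    exact inf_le_inf_right _ hTU

end Cfsg.Agent.Helper45.BG142
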