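import Mathlib
import Cfsg.Prelude.Def_OddOrderLocal
import Cfsg.Prelude.Def_LieExceptional
import Cfsg.Agent.Lib.Helper45.CNSimple
import Cfsg.Agent.Lib.Helper46.SPE
import Cfsg.Agent.Lib.Helper84.GrpSE
import Cfsg.Agent.S0658

/-!
# Minimal simple CN-groups of odd order have no three-step subgroups (helper45)
-/

set_option autoImplicit false

namespace Cfsg.Agent.Helper45.CNSimple

open Cfsg.Agent.Helper45.CN Cfsg.Agent.Helper45.FH Cfsg.Agent.Helper45.Nilp
open Cfsg.Agent.Helper45.CNS Cfsg.Agent.Helper45.TS Cfsg.Agent.Helper45.CNL Cfsg.Agent.Helper70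
open Cfsg.Agent.Helper11.ZJ
open scoped commutatorElement Pointwise

universe u

variable {G : Type u} [Group G] [Finite G]

/-- every `p`-element is conjugate into a given Sylow `p`-subgroup. -/
theorem exists_conj_mem_sylow' {p : ℕ} [Fact p.Prime] (P : Sylow p G) {x : G} {i : ℕ}
    (hx : orderOf x = p ^ i) : ∃ g : G, g * x * g⁻¹ ∈ P := by
  have hxp : IsPGroup p (Subgroup.zpowers x) := IsPGroup.of_card (by rw [Nat.card_zpowers, hx])
  obtain ⟨Q, hQ⟩ := hxp.exists_le_sylow
  obtain ⟨g, rfl⟩ := MulAction.exists_smul_eq G Q P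
  refine ⟨g, ?_⟩
  show g * x * g⁻¹ ∈ ((g • Q : Sylow p G) : Subgroup G)
  rw [Sylow.coe_subgroup_smul, Subgroup.mem_pointwise_smul_iff_inv_smul_mem]
  have : (MulAut.conj g)⁻¹ • (g * x * g⁻¹) = x := by
    rw [← map_inv, MulAut.smul_def, MulAut.conj_apply]
    group
  rw [this]
  exact hQ (Subgroup.mem_zpowers x)

omit [Finite G] in
theorem eq_one_of_pow_coprime {p : ℕ} (hp : p.Prime) {y : G} {l : ℕ} (hl : orderOf y = p ^ l)
    (hc : (orderOf y).Coprime p) : y = 1 := by
  rw [← orderOf_eq_one_iff, hl]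
  cases l with
  | zero => rfl
  | succ l =>
    exfalso
    rw [hl] at hc
    have h1 : p ∣ Nat.gcd (p ^ (l + 1)) p := Nat.dvd_gcd (dvd_pow_self _ (Nat.succ_ne_zero l)) dvd_rfl
    rw [Nat.Coprime.gcd_eq_one hc] at h1
    exact hp.one_lt.ne' (Nat.dvd_one.mp h1)

/-- if a Sylow `p`-subgroup `P` of the CN-group `G` contains a subgroup `H` with `C_G(H) ≤ H`,
then no non-identity `p`-element commutes with a non-identity `p'`-element. -/
theorem pprop_of_centralizer_le (hCN : Cfsg.IsCNGroup G) {p : ℕ} [hpF : Fact p.Prime]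
    (P : Sylow p G) (hP1 : (P : Subgroup G) ≠ ⊥) {H : Subgroup G} (hHP : H ≤ P)
    (hCH : Subgroup.centralizer (H : Set G) ≤ H) : PProp p G := by
  rintro x y hx1 ⟨i, hi⟩ hy hxy
  obtain ⟨g, hg⟩ := exists_conj_mem_sylow' P hi
  have hx'1 : g * x * g⁻¹ ≠ 1 := by
    intro h
    apply hx1
    have : x = g⁻¹ * (g * x * g⁻¹) * g := by group
    rw [this, h]
    group
  have hx'o : orderOf (g * x * g⁻¹) = p ^ i := by
    rw [← hi, ← MulAut.conj_apply]
    exact MulEquiv.orderOf_eq _ _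
  have hy'o : (orderOf (g * y * g⁻¹)).Coprime p := by
    have : orderOf (g * y * g⁻¹) = orderOf y := by
      rw [← MulAut.conj_apply]
      exact MulEquiv.orderOf_eq _ _
    rw [this]
    exact hy
  have hxy' : Commute (g * x * g⁻¹) (g * y * g⁻¹) := by
    show g * x * g⁻¹ * (g * y * g⁻¹) = g * y * g⁻¹ * (g * x * g⁻¹)
    calc g * x * g⁻¹ * (g * y * g⁻¹) = g * (x * y) * g⁻¹ := by group
      _ = g * (y * x) * g⁻¹ := by rw [hxy.eq]
      _ = g * y * g⁻¹ * (g * x * g⁻¹) := by group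
  obtain ⟨z, hz1⟩ := Subgroup.ne_bot_iff_exists_ne_one.mp
    (Cfsg.Agent.Helper46.center_sylow_ne_bot P hP1)
  have hzmem := Subgroup.mem_inf.mp z.2
  have hz1' : (z : G) ≠ 1 := fun h => hz1 (Subtype.ext h)
  have hzc : ∀ h ∈ (P : Subgroup G), h * z = z * h := Subgroup.mem_centralizer_iff.mp hzmem.2
  obtain ⟨j, hj⟩ := pgroup_orderOf P.isPGroup' hzmem.1
  have hzx : Commute (z : G) (g * x * g⁻¹) := (hzc _ hg).symm
  have hzy : Commute (z : G) (g * y * g⁻¹) := cn_commute hCN hx'1 hzx hxy' hpF.out hj hy'o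
  have hy'C : g * y * g⁻¹ ∈ Subgroup.centralizer ((P : Subgroup G) : Set G) := by
    rw [Subgroup.mem_centralizer_iff]
    intro h hh
    obtain ⟨l, hl⟩ := pgroup_orderOf P.isPGroup' hh
    exact (cn_commute hCN hz1' (hzc h hh) hzy hpF.out hl hy'o).eq
  have hy'H : g * y * g⁻¹ ∈ H :=
    hCH (Subgroup.centralizer_le (SetLike.coe_subset_coe.mpr hHP) hy'C)
  obtain ⟨l, hl⟩ := pgroup_orderOf P.isPGroup' (hHP hy'H)
  have h1 := eq_one_of_pow_coprime hpF.out hl hy'o
  have : y = g⁻¹ * (g * y * g⁻¹) * g := by group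
  rw [this, h1]
  group

omit [Finite G] in
theorem pprop_subgroup {p : ℕ} (h3 : PProp p G) (N : Subgroup G) : PProp p ↥N := by
  rintro x y hx1 ⟨i, hi⟩ hy hxy
  have hx1' : (x : G) ≠ 1 := fun h => hx1 (Subtype.ext h)
  have := h3 (x : G) (y : G) hx1' ⟨i, by rw [Subgroup.orderOf_coe, hi]⟩
    (by rw [Subgroup.orderOf_coe]; exact hy) (congrArg Subtype.val hxy.eq)
  exact Subtype.ext this

/-- the `p`-locals of a minimal simple CN-group of odd order satisfying `PProp p` have
characteristic `p`, are `p`-constrained and `p`-stable. -/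
theorem local_of_pprop (hG : Cfsg.IsMinSimpleOddOrder G) (hCN : Cfsg.IsCNGroup G) {p : ℕ}
    [Fact p.Prime] (h3 : PProp p G) (Q : Subgroup G) (hQ : IsPGroup p Q) (hQ1 : Q ≠ ⊥) :
    Cfsg.pPrimeCore p ↥(Subgroup.normalizer (Q : Set G)) = ⊥ ∧
      Cfsg.IsPConstrained p ↥(Subgroup.normalizer (Q : Set G)) ∧
      Cfsg.IsPStable p ↥(Subgroup.normalizer (Q : Set G)) := by
  have hNtop := normalizer_ne_top hG hQ hQ1
  have hsolv : Group.IsSolvable ↥(Subgroup.normalizer (Q : Set G)) := solvable_of_ne_top hG hNtop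
  have hCN' := cn_subgroup hCN (Subgroup.normalizer (Q : Set G))
  have hodd := odd_card_subgroup hG (Subgroup.normalizer (Q : Set G))
  have h3' := pprop_subgroup h3 (Subgroup.normalizer (Q : Set G))
  have hK1 : Cfsg.pCore p ↥(Subgroup.normalizer (Q : Set G)) ≠ ⊥ := by
    intro h
    have hn : (Q.subgroupOf (Subgroup.normalizer (Q : Set G))).Normal := Subgroup.normal_in_normalizer
    have hle : Q.subgroupOf (Subgroup.normalizer (Q : Set G)) ≤
        Cfsg.pCore p ↥(Subgroup.normalizer (Q : Set G)) :=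
      le_pCore _ (hQ.comap_of_injective _ (Subgroup.subtype_injective _))
    rw [h, le_bot_iff, Subgroup.subgroupOf_eq_bot] at hle
    apply hQ1
    rw [eq_bot_iff]
    intro x hx
    have := hle.le_bot (Subgroup.mem_inf.mpr ⟨hx, Subgroup.le_normalizer hx⟩)
    exact this
  exact ⟨pPrimeCore_eq_bot h3' hK1, isPConstrained h3' hK1, isPStable hCN' hodd h3' hK1⟩

/-- a maximal subgroup of a minimal simple CN-group of odd order is not a three-step group with
respect to a prime. -/
theorem coatom_not_threeStep (hG : Cfsg.IsMinSimpleOddOrder G) (hCN : Cfsg.IsCNGroup G)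
    {M : Subgroup G} (hM : IsCoatom M) {p : ℕ} (hp : p.Prime)
    (hts : Cfsg.IsThreeStepGroup p ↥M) : False := by
  have hpF : Fact p.Prime := ⟨hp⟩
  have htsc := hts
  obtain ⟨hK1, A, hA1, hAc, hAodd, hAcop, hKAn, hKAtop, ⟨n, hn⟩, hfpf, hfrob⟩ := hts
  set K := Cfsg.pCore p ↥M with hKdef
  have hKn : K.Normal := pCore_normal p ↥M
  have hKp : IsPGroup p K := pCore_isPGroup
  set H := K.map M.subtype with hHdef
  have hHp : IsPGroup p H := hKp.map _
  have hH1 : H ≠ ⊥ := by
    intro h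
    apply hK1
    exact (Subgroup.map_eq_bot_iff_of_injective K M.subtype_injective).mp h
  have hHM : H ≤ M := Subgroup.map_subtype_le K
  have hNH : Subgroup.normalizer (H : Set G) = M := by
    have hle : M ≤ Subgroup.normalizer (H : Set G) := by
      have h1 := Subgroup.le_normalizer_map (H := K) M.subtype
      rw [Subgroup.normalizer_eq_top, ← MonoidHom.range_eq_map, Subgroup.range_subtype] at h1
      exact h1
    rcases hM.le_iff.mp hle with h | h
    · exact absurd h (normalizer_ne_top hG hHp hH1)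
    · exact h
  have hCNM := cn_subgroup hCN M
  have hCH : Subgroup.centralizer (H : Set G) ≤ H := by
    intro c hc
    have hcM : c ∈ M := hNH ▸ (Subgroup.centralizer_le_normalizer _ hc)
    have hC'nil : Group.IsNilpotent (Subgroup.centralizer (K : Set ↥M)) := by
      obtain ⟨k, hk1⟩ := Subgroup.ne_bot_iff_exists_ne_one.mp hK1
      have hk1' : (k : ↥M) ≠ 1 := fun h => hk1 (Subtype.ext h)
      refine nilpotent_of_le (hCNM k hk1') (Subgroup.centralizer_le ?_)
      intro x hx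
      rw [Set.mem_singleton_iff] at hx
      rw [hx]
      exact k.2
    have hle := normal_nilpotent_le htsc (Subgroup.centralizer (K : Set ↥M)) hC'nil
    have hc' : (⟨c, hcM⟩ : ↥M) ∈ Subgroup.centralizer (K : Set ↥M) := by
      rw [Subgroup.mem_centralizer_iff]
      intro k hk
      apply Subtype.ext
      exact (Subgroup.mem_centralizer_iff.mp hc) (k : G) (Subgroup.mem_map_of_mem _ hk)
    exact ⟨⟨c, hcM⟩, hle hc', rfl⟩
  obtain ⟨P, hHP⟩ := hHp.exists_le_sylow
  have hP1 : (P : Subgroup G) ≠ ⊥ := fun h => hH1 (le_bot_iff.mp (h ▸ hHP))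
  have h3 : PProp p G := pprop_of_centralizer_le hCN P hP1 hHP hCH
  have hp2 : p ≠ 2 := by
    intro hp2
    have h1 : p ∣ Nat.card G := by
      obtain ⟨k, hk1⟩ := Subgroup.ne_bot_iff_exists_ne_one.mp hH1
      have hk1' : (k : G) ≠ 1 := fun h => hk1 (Subtype.ext h)
      obtain ⟨i, hi⟩ := pgroup_orderOf hHp k.2
      have hi0 : i ≠ 0 := by
        intro h
        rw [h, pow_zero, orderOf_eq_one_iff] at hi
        exact hk1' hi
      have h2 : p ∣ orderOf (k : G) := hi ▸ dvd_pow_self p hi0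
      exact h2.trans (orderOf_dvd_natCard _)
    rw [hp2] at h1
    exact (Nat.not_even_iff_odd.mpr hG.1) (even_iff_two_dvd.mpr h1)
  have hloc := fun Q hQ hQ1 => local_of_pprop hG hCN h3 Q hQ hQ1
  have hZJ : Cfsg.centerThompsonAOf (P : Subgroup G) = ZJ (P : Subgroup G) :=
    centerThompsonAOf_eq_W _
  have hS : ∀ Q : Subgroup G, Q ≤ (P : Subgroup G) → Q ≠ ⊥ →
      Subgroup.normalizer (Q : Set G) ≤ Subgroup.normalizer (ZJ (P : Subgroup G) : Set G) := by
    intro Q hQP hQ1
    rw [← hZJ]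
    exact Cfsg.Agent.S0658.result hp2 hloc P Q hQP hQ1
  have hZ1 : ZJ (P : Subgroup G) ≠ ⊥ := ZJ_ne_bot P.isPGroup' hP1
  have hZP : ZJ (P : Subgroup G) ≤ P := W_le goodAx_comm _
  have hLM : Subgroup.normalizer (ZJ (P : Subgroup G) : Set G) = M := by
    have hle : M ≤ Subgroup.normalizer (ZJ (P : Subgroup G) : Set G) := by
      have := hS H hHP hH1
      rwa [hNH] at this
    rcases hM.le_iff.mp hle with h | h
    · exact absurd h (normalizer_ne_top hG (P.isPGroup'.to_le hZP) hZ1)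
    · exact h
  have hPM : (P : Subgroup G) ≤ M := by
    have := le_normalizer_W goodAx_comm (P : Subgroup G)
    rwa [hLM] at this
  have hNM : ∀ Q ≤ (P : Subgroup G), Q ≠ ⊥ → Subgroup.normalizer (Q : Set G) ≤ M := by
    intro Q hQP hQ1
    have := hS Q hQP hQ1
    rwa [hLM] at this
  have hSyl : Cfsg.Agent.Helper84.IsSylIn p (P : Subgroup G) ⊤ :=
    ⟨le_top, P.isPGroup', by rw [Subgroup.relIndex_top_right]; exact P.not_dvd_index⟩
  have hctrl := Cfsg.Agent.Helper84.control_of_normalizers hSyl hNM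
  have hfoc := Subgroup.commutator_inf_eq_focalSubgroup P
  rw [commutator_eq_top hG, top_inf_eq] at hfoc
  have hPcomm : (P : Subgroup G) ≤ ⁅M, M⁆ := by
    rw [hfoc, Subgroup.focalSubgroup_def, Subgroup.closure_le]
    rintro g ⟨hgP, x, hxP, u, rfl⟩
    by_cases hx1 : x = 1
    · rw [hx1, commutatorElement_one_left]
      exact one_mem _
    · have huM : u ∈ M := by
        apply hctrl (Subgroup.zpowers x) ((Subgroup.zpowers_le).mpr hxP)
          (by rw [Ne, Subgroup.zpowers_eq_bot]; exact hx1) u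
        rw [Subgroup.map_le_iff_le_comap, Subgroup.zpowers_le, Subgroup.mem_comap]
        show u * x * u⁻¹ ∈ (P : Subgroup G)
        have h1 : u * x⁻¹ * u⁻¹ ∈ (P : Subgroup G) := by
          have := (P : Subgroup G).mul_mem (inv_mem hxP) hgP
          rw [commutatorElement_def] at this
          have h2 : x⁻¹ * (x * u * x⁻¹ * u⁻¹) = u * x⁻¹ * u⁻¹ := by group
          rwa [h2] at this
        have := inv_mem h1
        have h2 : (u * x⁻¹ * u⁻¹)⁻¹ = u * x * u⁻¹ := by group
        rwa [h2] at this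
      exact Subgroup.commutator_mem_commutator (hPM hxP) huM
  set PM := (P : Subgroup G).subgroupOf M with hPMdef
  have hPMc : PM ≤ commutator ↥M := by
    intro y hy
    have h1 : (y : G) ∈ ⁅M, M⁆ := hPcomm (Subgroup.mem_subgroupOf.mp hy)
    rw [← Subgroup.map_subtype_commutator] at h1
    obtain ⟨y', hy', hyy⟩ := Subgroup.mem_map.mp h1
    have : y' = y := Subtype.ext hyy
    rwa [this] at hy'
  have hsup : (K ⊔ A) ⊔ PM = ⊤ := by
    rw [← Subgroup.index_eq_one]
    have h1 : ((K ⊔ A) ⊔ PM).index ∣ p ^ n := hn ▸ Subgroup.index_dvd_of_le le_sup_left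
    have h2 : ((K ⊔ A) ⊔ PM).index ∣ PM.index := Subgroup.index_dvd_of_le le_sup_right
    have h3 : ¬ p ∣ PM.index := by
      intro hdvd
      apply P.not_dvd_index
      have : PM.index * M.index = (P : Subgroup G).index := Subgroup.relIndex_mul_index hPM
      rw [← this]
      exact dvd_mul_of_dvd_left hdvd _
    obtain ⟨k, hk, hkk⟩ := (Nat.dvd_prime_pow hp).mp h1
    cases k with
    | zero => simpa using hkk
    | succ k =>
      exfalso
      apply h3
      rw [hkk] at h2
      exact (dvd_pow_self p (Nat.succ_ne_zero k)).trans h2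
  set L₀ := K ⊔ A with hL₀
  have hn0 : n ≠ 0 := by
    intro h
    rw [h, pow_zero, Subgroup.index_eq_one] at hn
    exact hKAtop hn
  have hQcard : Nat.card (↥M ⧸ L₀) = p ^ n := by
    rw [← Subgroup.index_eq_card]
    exact hn
  have hQp : IsPGroup p (↥M ⧸ L₀) := IsPGroup.of_card hQcard
  have hQnil : Group.IsNilpotent (↥M ⧸ L₀) := hQp.isNilpotent
  have hQnt : Nontrivial (↥M ⧸ L₀) := by
    rw [← Finite.one_lt_card_iff_nontrivial, hQcard]
    exact Nat.one_lt_pow hn0 hp.one_lt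
  have hlt := Group.IsSolvable.commutator_lt_top_of_nontrivial (↥M ⧸ L₀)
  apply hlt.ne
  rw [eq_top_iff]
  intro q _
  obtain ⟨m, rfl⟩ := QuotientGroup.mk_surjective q
  have hm : m ∈ L₀ ⊔ PM := hsup ▸ Subgroup.mem_top m
  have hmul : ((L₀ ⊔ PM : Subgroup ↥M) : Set ↥M) = (L₀ : Set ↥M) * (PM : Set ↥M) :=
    Subgroup.normal_mul L₀ PM
  have hm' : m ∈ (L₀ : Set ↥M) * (PM : Set ↥M) := by rw [← hmul]; exact hm
  obtain ⟨l, hl, y, hy, rfl⟩ := Set.mem_mul.mp hm'
  have hl' : l ∈ L₀ := hl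
  have hy' : y ∈ PM := hy
  have : (QuotientGroup.mk (l * y) : ↥M ⧸ L₀) = QuotientGroup.mk' L₀ y := by
    rw [QuotientGroup.mk_mul, (QuotientGroup.eq_one_iff l).mpr hl', one_mul]
    rfl
  rw [this]
  have h5 : QuotientGroup.mk' L₀ y ∈ (commutator ↥M).map (QuotientGroup.mk' L₀) :=
    Subgroup.mem_map_of_mem _ (hPMc hy')
  rw [commutator_def, Subgroup.map_commutator] at h5
  rw [commutator_def]
  exact Subgroup.commutator_mono le_top le_top h5

/-- **No three-step subgroups.** -/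
theorem no_threeStep (hG : Cfsg.IsMinSimpleOddOrder G) (hCN : Cfsg.IsCNGroup G)
    (H₀ : Subgroup G) (p₀ : ℕ) : ¬ Cfsg.IsThreeStepGroup p₀ ↥H₀ := by
  intro hts
  have hH₀top : H₀ ≠ ⊤ := by
    intro htop
    obtain ⟨hK1, A, hA1, hAc, hAodd, hAcop, hKAn, hKAtop, -⟩ := hts
    have hsurj : Function.Surjective H₀.subtype := by
      intro g
      exact ⟨⟨g, htop ▸ Subgroup.mem_top g⟩, rfl⟩
    have hn : ((Cfsg.pCore p₀ ↥H₀ ⊔ A).map H₀.subtype).Normal :=
      Subgroup.Normal.map hKAn _ hsurj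
    rcases normal_eq_bot_or_top hG _ hn with h | h
    · rw [Subgroup.map_eq_bot_iff_of_injective _ H₀.subtype_injective] at h
      apply hK1
      rw [eq_bot_iff, ← h]
      exact le_sup_left
    · apply hKAtop
      have := congrArg (Subgroup.comap H₀.subtype) h
      rwa [Subgroup.comap_map_eq_self_of_injective H₀.subtype_injective, Subgroup.comap_top]
        at this
  obtain ⟨M, hM, hle⟩ := (eq_top_or_exists_le_coatom H₀).resolve_left hH₀top
  have : Group.IsSolvable ↥M := solvable_of_ne_top hG hM.1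
  obtain ⟨p, hp, hts'⟩ := overgroup hCN hle hts
  exact coatom_not_threeStep hG hCN hM hp hts'

end Cfsg.Agent.Helper45.CNSimple
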