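import Mathlib
import Cfsg.Prelude.Def_OddOrderLocal
import Cfsg.Prelude.Def_LieExceptional
import Cfsg.Agent.Lib.Helper45.CNNoThreeStep
import Cfsg.Agent.Lib.Helper2.Frobenius
import Cfsg.Agent.S0132

/-!
# Frobenius-type groups: a normal nilpotent Hall subgroup with a fixed-point-free complement
(helper45)
-/

set_option autoImplicit false

namespace Cfsg.Agent.Helper45.CNFrob

open Cfsg.Agent.Helper45.CN Cfsg.Agent.Helper45.FH Cfsg.Agent.Helper45.Nilp
open Cfsg.Agent.Helper45.CNS Cfsg.Agent.Helper45.CNSimple Cfsg.Agent.Helper70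

universe u

variable {X : Type u} [Group X] [Finite X]

omit [Finite X] in
/-- an element whose order is prime to the index of the normal subgroup `L` lies in `L`. -/
theorem mem_of_coprime_index (L : Subgroup X) [L.Normal] {c : X}
    (hc : (orderOf c).Coprime L.index) : c ∈ L := by
  rw [← QuotientGroup.eq_one_iff]
  have h1 : (QuotientGroup.mk c : X ⧸ L) ^ (orderOf c) = 1 := by
    rw [← QuotientGroup.mk_pow, pow_orderOf_eq_one]
    rfl
  have h2 : (QuotientGroup.mk c : X ⧸ L) ^ L.index = 1 := by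
    rw [Subgroup.index_eq_card]
    exact pow_card_eq_one'
  have h3 := pow_gcd_eq_one.mpr ⟨h1, h2⟩
  rw [Nat.Coprime.gcd_eq_one hc, pow_one] at h3
  exact h3

/-- in a Frobenius-type group `F ⋊ E`, no element outside `F` commutes with a non-identity
element of `F`. -/
theorem frob_not_commute (F E : Subgroup X) [hFn : F.Normal] (hc : Subgroup.IsComplement' F E)
    (hHall : (Nat.card F).Coprime F.index)
    (hfpf : ∀ e ∈ E, e ≠ 1 → F ⊓ Subgroup.centralizer ({e} : Set X) = ⊥) {y f : X}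
    (hy : y ∉ F) (hf : f ∈ F) (hf1 : f ≠ 1) : ¬ Commute y f := by
  intro hyf
  have hy1 : (QuotientGroup.mk y : X ⧸ F) ≠ 1 := fun h => hy ((QuotientGroup.eq_one_iff y).mp h)
  have ho1 : orderOf (QuotientGroup.mk y : X ⧸ F) ≠ 1 := fun h => hy1 (orderOf_eq_one_iff.mp h)
  obtain ⟨r, hr, hrdvd⟩ := Nat.exists_prime_and_dvd ho1
  have hrF : Fact r.Prime := ⟨hr⟩
  have hrI : r ∣ F.index := by
    rw [Subgroup.index_eq_card]
    exact hrdvd.trans (orderOf_dvd_natCard _)
  have hrF' : ¬ r ∣ Nat.card F := by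
    intro h
    have := Nat.dvd_gcd h hrI
    rw [hHall.gcd_eq_one] at this
    exact hr.one_lt.ne' (Nat.dvd_one.mp this)
  have hry : r ∣ orderOf y := by
    refine hrdvd.trans (orderOf_dvd_of_pow_eq_one ?_)
    rw [← QuotientGroup.mk_pow, pow_orderOf_eq_one]
    rfl
  have hy0 : orderOf y ≠ 0 := (orderOf_pos y).ne'
  obtain ⟨a, t, ht, hat⟩ := Nat.exists_eq_pow_mul_and_not_dvd hy0 r hr.ne_one
  have ha0 : a ≠ 0 := by
    intro h
    rw [h, pow_zero, one_mul] at hat
    exact ht (hat ▸ hry)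
  have ht0 : t ≠ 0 := by
    intro h
    rw [h, mul_zero] at hat
    exact hy0 hat
  have hy'o : orderOf (y ^ t) = r ^ a := by
    rw [orderOf_pow' _ ht0, hat, Nat.gcd_eq_right (Dvd.intro_left _ rfl),
      Nat.mul_div_cancel _ (Nat.pos_of_ne_zero ht0)]
  have hy'1 : y ^ t ≠ 1 := by
    intro h
    rw [← orderOf_eq_one_iff, hy'o] at h
    exact ha0 (by
      by_contra h0
      exact (Nat.one_lt_pow h0 hr.one_lt).ne' h)
  have hy'f : Commute (y ^ t) f := hyf.pow_left t
  -- a Sylow `r`-subgroup of `X` inside `E`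
  set R := ((default : Sylow r E) : Subgroup E).map E.subtype with hR
  have hRp : IsPGroup r R := (default : Sylow r E).isPGroup'.map _
  have hRi : ¬ r ∣ R.index := by
    rw [hR, Subgroup.index_map_subtype]
    intro h
    rcases (Nat.Prime.dvd_mul hr).mp h with h1 | h1
    · exact (default : Sylow r E).not_dvd_index h1
    · rw [hc.index_eq_card] at h1
      exact hrF' h1
  have hRE : R ≤ E := Subgroup.map_subtype_le _
  obtain ⟨g, hg⟩ := exists_conj_mem_sylow' (hRp.toSylow hRi) hy'o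
  have hgE : g * y ^ t * g⁻¹ ∈ E := by
    apply hRE
    have : ((hRp.toSylow hRi : Sylow r X) : Subgroup X) = R := IsPGroup.toSylow_coe _ _
    rw [← this]
    exact hg
  have hg1 : g * y ^ t * g⁻¹ ≠ 1 := by
    intro h
    apply hy'1
    have : y ^ t = g⁻¹ * (g * y ^ t * g⁻¹) * g := by group
    rw [this, h]
    group
  have hmem : g * f * g⁻¹ ∈ F ⊓ Subgroup.centralizer ({g * y ^ t * g⁻¹} : Set X) := by
    refine Subgroup.mem_inf.mpr ⟨hFn.conj_mem f hf g, ?_⟩
    rw [Subgroup.mem_centralizer_singleton_iff]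
    calc g * f * g⁻¹ * (g * y ^ t * g⁻¹) = g * (f * y ^ t) * g⁻¹ := by group
      _ = g * (y ^ t * f) * g⁻¹ := by rw [hy'f.eq]
      _ = g * y ^ t * g⁻¹ * (g * f * g⁻¹) := by group
  rw [hfpf _ hgE hg1, Subgroup.mem_bot] at hmem
  apply hf1
  have : f = g⁻¹ * (g * f * g⁻¹) * g := by group
  rw [this, hmem]
  group

/-- if `p` divides the order of `fittingHall X`, the Sylow `p`-subgroups of `X` are normal and lie
in `fittingHall X`. -/
theorem sylow_le_of_dvd {p : ℕ} [hp : Fact p.Prime] (hdvd : p ∣ Nat.card (Cfsg.fittingHall X))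
    (P : Sylow p X) : (P : Subgroup X) ≤ Cfsg.fittingHall X ∧ (P : Subgroup X).Normal := by
  have hcop : (Nat.card (Cfsg.fittingHall X)).Coprime (Cfsg.fittingHall X).index :=
    fittingHall_coprime
  have hpi : ¬ p ∣ (Cfsg.fittingHall X).index := by
    intro h
    have := Nat.dvd_gcd hdvd h
    rw [hcop.gcd_eq_one] at this
    exact hp.out.one_lt.ne' (Nat.dvd_one.mp this)
  have hle : (P : Subgroup X) ≤ Cfsg.fittingHall X := by
    intro x hx
    obtain ⟨k, hk⟩ := pgroup_orderOf P.isPGroup' hx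
    apply mem_of_coprime_index
    rw [hk]
    exact Nat.Coprime.pow_left _ ((Nat.Prime.coprime_iff_not_dvd hp.out).mpr hpi)
  exact ⟨hle, sylow_normal_of_le P _ (Cfsg.fittingHall_normal X) fittingHall_nilpotent hle⟩

/-- a `p`-element of `X` lies in `fittingHall X` when `p` divides its order. -/
theorem mem_fittingHall_of_dvd {p : ℕ} [hp : Fact p.Prime]
    (hdvd : p ∣ Nat.card (Cfsg.fittingHall X)) {x : X} {k : ℕ} (hx : orderOf x = p ^ k) :
    x ∈ Cfsg.fittingHall X := by
  have hcop : (Nat.card (Cfsg.fittingHall X)).Coprime (Cfsg.fittingHall X).index :=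
    fittingHall_coprime
  have hpi : ¬ p ∣ (Cfsg.fittingHall X).index := by
    intro h
    have := Nat.dvd_gcd hdvd h
    rw [hcop.gcd_eq_one] at this
    exact hp.out.one_lt.ne' (Nat.dvd_one.mp this)
  apply mem_of_coprime_index
  rw [hx]
  exact Nat.Coprime.pow_left _ ((Nat.Prime.coprime_iff_not_dvd hp.out).mpr hpi)

/-- if `X / F` is nilpotent and `p` does not divide the order of the normal subgroup `F`, then `X`
has a normal `p`-complement. -/
theorem hasNormalPComplement_of_not_dvd {p : ℕ} [hp : Fact p.Prime] (F : Subgroup X)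
    [hFn : F.Normal] (hq : Group.IsNilpotent (X ⧸ F)) (hpF : ¬ p ∣ Nat.card F) :
    Cfsg.HasNormalPComplement p X := by
  obtain ⟨Pb, Nb, hNbn, hNbc⟩ := Cfsg.Agent.S0132.hasNormalPComplement_of_isNilpotent p hq
  obtain ⟨a, ha⟩ := IsPGroup.iff_card.mp Pb.isPGroup'
  have hNbcop : Nat.Coprime (Nat.card Nb) p := by
    rw [← hNbc.index_eq_card]
    exact ((Nat.Prime.coprime_iff_not_dvd hp.out).mpr Pb.not_dvd_index).symm
  have hNbidx : Nb.index = p ^ a := by rw [hNbc.symm.index_eq_card, ha]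
  set N := Nb.comap (QuotientGroup.mk' F) with hN
  have hNn : N.Normal := hNbn.comap _
  have hNidx : N.index = p ^ a := by
    rw [hN, Subgroup.index_comap_of_surjective _ (QuotientGroup.mk'_surjective F), hNbidx]
  refine Cfsg.Agent.Helper2.hasNormalPComplement_of_card_coprime_of_index_pow N hNn ?_ a hNidx
  rw [Nat.coprime_comm, Nat.Prime.coprime_iff_not_dvd hp.out]
  intro hdvd
  obtain ⟨x, hx⟩ := exists_prime_orderOf_dvd_card' p hdvd
  have hxN : QuotientGroup.mk' F (x : X) ∈ Nb := x.2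
  have h1 : (QuotientGroup.mk' F (x : X)) ^ p = 1 := by
    rw [← map_pow]
    have : (x : X) ^ p = 1 := by
      have h2 : x ^ p = 1 := by rw [← hx]; exact pow_orderOf_eq_one x
      have := congrArg Subtype.val h2
      rwa [Subgroup.coe_pow, Subgroup.coe_one] at this
    rw [this, map_one]
  have h2 : (QuotientGroup.mk' F (x : X)) ^ (Nat.card Nb) = 1 := by
    have h := pow_card_eq_one' (G := Nb) (x := ⟨_, hxN⟩)
    have h' := congrArg Subtype.val h
    rwa [Subgroup.coe_pow, Subgroup.coe_one] at h'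
  have h3 := pow_gcd_eq_one.mpr ⟨h1, h2⟩
  rw [Nat.Coprime.gcd_eq_one hNbcop.symm, pow_one, QuotientGroup.mk'_apply,
    QuotientGroup.eq_one_iff] at h3
  -- `x ∈ F` has order `p`
  apply hpF
  have h4 : orderOf (x : X) = p := by rw [Subgroup.orderOf_coe, hx]
  have h5 := orderOf_dvd_natCard (⟨(x : X), h3⟩ : F)
  rwa [Subgroup.orderOf_mk, h4] at h5

end Cfsg.Agent.Helper45.CNFrob
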