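import Mathlib
import Cfsg.Prelude.Def_OddOrderLocal
import Cfsg.Prelude.Def_LieExceptional
import Cfsg.Agent.Lib.Helper45.CNSolv
import Cfsg.Agent.Lib.Helper46.SPE
import Cfsg.Agent.S1477

/-!
# Maximal nilpotent subgroups of CN-groups (helper45)
-/

set_option autoImplicit false

namespace Cfsg.Agent.Helper45.MaxNilp

open Cfsg.Agent.Helper45.CN Cfsg.Agent.Helper45.FH Cfsg.Agent.Helper45.Nilp
open Cfsg.Agent.Helper45.CNS Cfsg.Agent.Helper70

universe u

open scoped Pointwise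

variable {G : Type u} [Group G] [Finite G]

/-- `H` is a maximal nilpotent subgroup. -/
def IsMaxNilp (H : Subgroup G) : Prop :=
  Group.IsNilpotent H ∧ ∀ L : Subgroup G, Group.IsNilpotent L → H ≤ L → L = H

/-- every nilpotent subgroup lies in a maximal nilpotent subgroup. -/
theorem exists_maxNilp {C : Subgroup G} (hC : Group.IsNilpotent C) :
    ∃ H : Subgroup G, IsMaxNilp H ∧ C ≤ H := by
  let S : Set (Subgroup G) := {L | Group.IsNilpotent L ∧ C ≤ L}
  obtain ⟨H, hH, hmax⟩ := Set.exists_max_image S (fun L => Nat.card L) (Set.toFinite S)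
    ⟨C, hC, le_refl C⟩
  refine ⟨H, ⟨hH.1, ?_⟩, hH.2⟩
  intro L hL hHL
  have h1 := hmax L ⟨hL, hH.2.trans hHL⟩
  exact (Subgroup.eq_of_le_of_card_ge hHL h1).symm

/-- the `r`-part of a maximal nilpotent subgroup of a CN-group is a Sylow `r`-subgroup. -/
theorem sylowPart_not_dvd_index (hCN : Cfsg.IsCNGroup G) {H : Subgroup G} (hH : IsMaxNilp H)
    {r : ℕ} [hr : Fact r.Prime] (hrH : r ∣ Nat.card H) : ¬ r ∣ (sylowPart H r).index := by
  have hcop := (Cfsg.Agent.S1477.result hCN H hH.1 hH.2).1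
  unfold sylowPart
  rw [Subgroup.index_map_subtype]
  intro h
  rcases (Nat.Prime.dvd_mul hr.out).mp h with h1 | h1
  · exact (default : Sylow r H).not_dvd_index h1
  · have := Nat.dvd_gcd hrH h1
    rw [hcop.gcd_eq_one] at this
    exact hr.out.one_lt.ne' (Nat.dvd_one.mp this)

theorem sylowPart_ne_bot {H : Subgroup G} {r : ℕ} [hr : Fact r.Prime] (hrH : r ∣ Nat.card H) :
    sylowPart H r ≠ ⊥ := by
  intro h
  unfold sylowPart at h
  rw [Subgroup.map_eq_bot_iff_of_injective _ H.subtype_injective] at h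
  have h1 := (default : Sylow r H).not_dvd_index
  apply h1
  have h2 : Nat.card ((default : Sylow r H) : Subgroup H) = 1 := by rw [h]; exact Subgroup.card_bot
  have h3 := Subgroup.card_mul_index ((default : Sylow r H) : Subgroup H)
  rw [h2, one_mul] at h3
  rw [h3]
  exact hrH

/-- for `z ≠ 1` central in the `r`-part of the maximal nilpotent subgroup `H`, `C_G(z) = H`. -/
theorem centralizer_eq (hCN : Cfsg.IsCNGroup G) {H : Subgroup G} (hH : IsMaxNilp H)
    {r : ℕ} [hr : Fact r.Prime] {z : G} (hzR : z ∈ sylowPart H r)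
    (hzc : ∀ x ∈ sylowPart H r, x * z = z * x) (hz1 : z ≠ 1) :
    Subgroup.centralizer ({z} : Set G) = H := by
  have hnil := hH.1
  apply hH.2 _ (hCN z hz1)
  intro h hh
  rw [Subgroup.mem_centralizer_singleton_iff]
  have hzH : z ∈ H := sylowPart_le H r hzR
  obtain ⟨j, hj⟩ := pgroup_orderOf (sylowPart_isPGroup H r) hzR
  have key : ∀ x : H, IsPP x → Commute (⟨z, hzH⟩ : H) x := by
    rintro x ⟨s, k, hs, hxo⟩
    by_cases hsr : s = r
    · subst hsr
      have hxR : (x : G) ∈ sylowPart H s :=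
        mem_sylowPart hnil x.2 (k := k) (by rw [Subgroup.orderOf_coe, hxo])
      exact Subtype.ext (hzc _ hxR).symm
    · exact commute_of_pp hr.out hs (Ne.symm hsr) (by rw [Subgroup.orderOf_mk, hj]) hxo
  have := commute_all_of_pp key ⟨h, hh⟩
  exact (congrArg Subtype.val this.eq).symm

/-- the `r`-part of a maximal nilpotent subgroup, as a Sylow subgroup of `G`. -/
noncomputable def sylowOf (hCN : Cfsg.IsCNGroup G) {H : Subgroup G} (hH : IsMaxNilp H)
    {r : ℕ} [hr : Fact r.Prime] (hrH : r ∣ Nat.card H) : Sylow r G :=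
  (sylowPart_isPGroup H r).toSylow (sylowPart_not_dvd_index hCN hH hrH)

theorem coe_sylowOf (hCN : Cfsg.IsCNGroup G) {H : Subgroup G} (hH : IsMaxNilp H)
    {r : ℕ} [hr : Fact r.Prime] (hrH : r ∣ Nat.card H) :
    ((sylowOf hCN hH hrH : Sylow r G) : Subgroup G) = sylowPart H r :=
  IsPGroup.toSylow_coe _ _

/-- two maximal nilpotent subgroups of a CN-group whose orders have a common prime divisor are
conjugate. -/
theorem conj_of_common_prime (hCN : Cfsg.IsCNGroup G) {H₁ H₂ : Subgroup G} (h₁ : IsMaxNilp H₁)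
    (h₂ : IsMaxNilp H₂) {r : ℕ} (hr : r.Prime) (hr₁ : r ∣ Nat.card H₁) (hr₂ : r ∣ Nat.card H₂) :
    ∃ g : G, H₂ = H₁.map (MulAut.conj g).toMonoidHom := by
  have hrF : Fact r.Prime := ⟨hr⟩
  set P₁ := sylowOf hCN h₁ hr₁ with hP₁
  set P₂ := sylowOf hCN h₂ hr₂ with hP₂
  have hc₁ : (P₁ : Subgroup G) = sylowPart H₁ r := coe_sylowOf hCN h₁ hr₁
  have hc₂ : (P₂ : Subgroup G) = sylowPart H₂ r := coe_sylowOf hCN h₂ hr₂
  obtain ⟨g, hg⟩ := MulAction.exists_smul_eq G P₁ P₂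
  have hP₁1 : (P₁ : Subgroup G) ≠ ⊥ := by rw [hc₁]; exact sylowPart_ne_bot hr₁
  obtain ⟨z, hz1⟩ := Subgroup.ne_bot_iff_exists_ne_one.mp
    (Cfsg.Agent.Helper46.center_sylow_ne_bot P₁ hP₁1)
  have hzmem := Subgroup.mem_inf.mp z.2
  have hz1' : (z : G) ≠ 1 := fun h => hz1 (Subtype.ext h)
  have hzc : ∀ h ∈ (P₁ : Subgroup G), h * z = z * h := Subgroup.mem_centralizer_iff.mp hzmem.2
  have hC₁ : Subgroup.centralizer ({(z : G)} : Set G) = H₁ :=
    centralizer_eq hCN h₁ (by rw [← hc₁]; exact hzmem.1) (by rw [← hc₁]; exact hzc) hz1'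
  -- membership in `P₂`
  have hmemP₂ : ∀ x : G, x ∈ (P₂ : Subgroup G) ↔ g⁻¹ * x * g ∈ (P₁ : Subgroup G) := by
    intro x
    rw [← hg, Sylow.coe_subgroup_smul, Subgroup.mem_pointwise_smul_iff_inv_smul_mem]
    have : (MulAut.conj g)⁻¹ • x = g⁻¹ * x * g := by
      rw [← map_inv, MulAut.smul_def, MulAut.conj_apply, inv_inv]
    rw [this]
  have hz'P₂ : g * z * g⁻¹ ∈ (P₂ : Subgroup G) := by
    rw [hmemP₂]
    have : g⁻¹ * (g * z * g⁻¹) * g = z := by group
    rw [this]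
    exact hzmem.1
  have hz'c : ∀ x ∈ (P₂ : Subgroup G), x * (g * z * g⁻¹) = (g * z * g⁻¹) * x := by
    intro x hx
    have h1 := hzc _ ((hmemP₂ x).mp hx)
    calc x * (g * z * g⁻¹) = g * ((g⁻¹ * x * g) * z) * g⁻¹ := by group
      _ = g * (z * (g⁻¹ * x * g)) * g⁻¹ := by rw [h1]
      _ = (g * z * g⁻¹) * x := by group
  have hz'1 : g * z * g⁻¹ ≠ 1 := by
    intro h
    apply hz1'
    have : (z : G) = g⁻¹ * (g * z * g⁻¹) * g := by group
    rw [this, h]
    group
  have hC₂ : Subgroup.centralizer ({g * (z : G) * g⁻¹} : Set G) = H₂ :=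
    centralizer_eq hCN h₂ (by rw [← hc₂]; exact hz'P₂) (by rw [← hc₂]; exact hz'c) hz'1
  refine ⟨g, ?_⟩
  rw [← hC₁, ← hC₂]
  ext x
  rw [Subgroup.mem_map, Subgroup.mem_centralizer_singleton_iff]
  constructor
  · intro hx
    refine ⟨g⁻¹ * x * g, ?_, ?_⟩
    · rw [Subgroup.mem_centralizer_singleton_iff]
      calc g⁻¹ * x * g * z = g⁻¹ * (x * (g * z * g⁻¹)) * g := by group
        _ = g⁻¹ * ((g * z * g⁻¹) * x) * g := by rw [hx]
        _ = z * (g⁻¹ * x * g) := by group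
    · show g * (g⁻¹ * x * g) * g⁻¹ = x
      group
  · rintro ⟨y, hy, rfl⟩
    rw [Subgroup.mem_centralizer_singleton_iff] at hy
    show g * y * g⁻¹ * (g * z * g⁻¹) = g * z * g⁻¹ * (g * y * g⁻¹)
    calc g * y * g⁻¹ * (g * z * g⁻¹) = g * (y * z) * g⁻¹ := by group
      _ = g * (z * y) * g⁻¹ := by rw [hy]
      _ = g * z * g⁻¹ * (g * y * g⁻¹) := by group

omit [Finite G] in
theorem dvd_card_of_mem {H : Subgroup G} {x : G} (hx : x ∈ H) (hx1 : x ≠ 1) {p i : ℕ}
    (hxo : orderOf x = p ^ i) : p ∣ Nat.card H := by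
  have hi0 : i ≠ 0 := by
    intro h
    rw [h, pow_zero, orderOf_eq_one_iff] at hxo
    exact hx1 hxo
  have h1 : orderOf x ∣ Nat.card H := by
    have := orderOf_dvd_natCard (⟨x, hx⟩ : H)
    rwa [Subgroup.orderOf_mk] at this
  exact (hxo ▸ dvd_pow_self p hi0 : p ∣ orderOf x).trans h1

theorem orderOf_of_isPGroup_zpowers {p : ℕ} [Fact p.Prime] {x : G}
    (hx : IsPGroup p (Subgroup.zpowers x)) : ∃ i : ℕ, orderOf x = p ^ i := by
  obtain ⟨n, hn⟩ := IsPGroup.iff_card.mp hx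
  exact ⟨n, by rw [← hn, Nat.card_zpowers]⟩

/-- two commuting non-identity elements lie in a common maximal nilpotent subgroup. -/
theorem exists_maxNilp_of_commute (hCN : Cfsg.IsCNGroup G) {x y : G} (hx1 : x ≠ 1)
    (hxy : x * y = y * x) : ∃ H : Subgroup G, IsMaxNilp H ∧ x ∈ H ∧ y ∈ H := by
  obtain ⟨H, hH, hle⟩ := exists_maxNilp (hCN x hx1)
  refine ⟨H, hH, hle ?_, hle ?_⟩
  · rw [Subgroup.mem_centralizer_singleton_iff]
  · rw [Subgroup.mem_centralizer_singleton_iff]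
    exact hxy.symm

end Cfsg.Agent.Helper45.MaxNilp
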