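import Mathlib
import Cfsg.Prelude.Def_OddOrderLocal
import Cfsg.Prelude.Def_LieExceptional
import Cfsg.Agent.Lib.Helper45.CNFrob
import Cfsg.Agent.Lib.Helper45.CNMaxNilp
import Cfsg.Agent.Lib.Helper9.SimpleNoComplement
import Cfsg.Agent.Lib.Helper2.Tate
import Cfsg.Agent.S0659

/-!
# Maximal subgroups of minimal simple CN-groups of odd order (helper45)
-/

set_option autoImplicit false
set_option linter.unusedSectionVars false

namespace Cfsg.Agent.Helper45.CNMax

open Cfsg.Agent.Helper45.CN Cfsg.Agent.Helper45.FH Cfsg.Agent.Helper45.Nilp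
open Cfsg.Agent.Helper45.CNS Cfsg.Agent.Helper45.CNSimple Cfsg.Agent.Helper45.CNFrob
open Cfsg.Agent.Helper45.MaxNilp Cfsg.Agent.Helper45.CNL Cfsg.Agent.Helper70
open Cfsg.Agent.Helper11.ZJ
open scoped Pointwise

universe u

variable {G : Type u} [Group G] [Finite G]

/-- a proper non-nilpotent subgroup is of Frobenius type. -/
theorem frob_type (hG : Cfsg.IsMinSimpleOddOrder G) (hCN : Cfsg.IsCNGroup G) {N : Subgroup G}
    (hN : N ≠ ⊤) (hnn : ¬ Group.IsNilpotent ↥N) :
    Cfsg.fittingHall ↥N ≠ ⊥ ∧ Cfsg.fittingHall ↥N ≠ ⊤ ∧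
      (∃ E : Subgroup ↥N, Subgroup.IsComplement' (Cfsg.fittingHall ↥N) E ∧
        Cfsg.IsFrobeniusComplement E ∧
        ∀ e ∈ E, e ≠ 1 → Cfsg.fittingHall ↥N ⊓ Subgroup.centralizer ({e} : Set ↥N) = ⊥) ∧
      Group.IsNilpotent (↥N ⧸ Cfsg.fittingHall ↥N) := by
  have hCN' := cn_subgroup hCN N
  have hsolv : Group.IsSolvable ↥N := solvable_of_ne_top hG hN
  by_cases hns : NoNormalSylow ↥N
  · exfalso
    obtain ⟨p, hp, hts⟩ := caseB hCN' hnn hns
    exact no_threeStep hG hCN N p hts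
  · unfold NoNormalSylow at hns
    push Not at hns
    obtain ⟨r, hr, R, hRn, hR1⟩ := hns
    exact Cfsg.Agent.S1474.result hCN' hnn r R hR1 hRn

/-- the normalizer of a proper nontrivial subgroup normalized by a maximal subgroup `M` is `M`. -/
theorem normalizer_eq_of_coatom (hG : Cfsg.IsMinSimpleOddOrder G) {M : Subgroup G}
    (hM : IsCoatom M) {Q : Subgroup G} (hQ1 : Q ≠ ⊥) (hQtop : Q ≠ ⊤)
    (hle : M ≤ Subgroup.normalizer (Q : Set G)) : Subgroup.normalizer (Q : Set G) = M := by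
  rcases hM.le_iff.mp hle with h | h
  · exfalso
    have hn : Q.Normal := Subgroup.normalizer_eq_top_iff.mp h
    rcases normal_eq_bot_or_top hG Q hn with h1 | h1
    · exact hQ1 h1
    · exact hQtop h1
  · exact h

theorem odd_prime_of_dvd (hG : Cfsg.IsMinSimpleOddOrder G) {p : ℕ} (hdvd : p ∣ Nat.card G) :
    p ≠ 2 := by
  intro h
  rw [h] at hdvd
  exact (Nat.not_even_iff_odd.mpr hG.1) (even_iff_two_dvd.mpr hdvd)

/-- no subgroup containing `N_G(Z(J(P)))` has a normal `p`-complement. -/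
theorem not_npc (hG : Cfsg.IsMinSimpleOddOrder G) {p : ℕ} [hp : Fact p.Prime] (P : Sylow p G)
    (hP1 : (P : Subgroup G) ≠ ⊥) {M : Subgroup G}
    (hle : Subgroup.normalizer (ZJ (P : Subgroup G) : Set G) ≤ M) :
    ¬ Cfsg.HasNormalPComplement p ↥M := by
  intro h
  have hdvd : p ∣ Nat.card G := by
    obtain ⟨x, hx1⟩ := Subgroup.ne_bot_iff_exists_ne_one.mp hP1
    have hx1' : (x : G) ≠ 1 := fun h => hx1 (Subtype.ext h)
    obtain ⟨i, hi⟩ := pgroup_orderOf P.isPGroup' x.2
    exact (dvd_card_of_mem (H := ⊤) (Subgroup.mem_top (x : G)) hx1' hi).trans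
      (by rw [Subgroup.card_top])
  have hp2 := odd_prime_of_dvd hG hdvd
  have hZJ : Cfsg.centerThompsonAOf (P : Subgroup G) = ZJ (P : Subgroup G) :=
    centerThompsonAOf_eq_W _
  have h1 := Cfsg.Agent.Helper2.hasNormalPComplement_subgroup h
    ((Subgroup.normalizer (ZJ (P : Subgroup G) : Set G)).subgroupOf M)
  have h2 := Cfsg.Agent.Helper2.hasNormalPComplement_of_mulEquiv
    (Subgroup.subgroupOfEquivOfLe hle) h1
  rw [← hZJ] at h2
  have h3 := Cfsg.Agent.S0659.result hp2 P h2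
  have := hG.2.1
  exact Cfsg.Agent.Helper9.not_hasNormalPComplement_of_simple hG.2.2.1 p hdvd h3

/-- a maximal subgroup containing `N_G(Z(J(P)))` is not nilpotent, and `p` divides the order of
its largest normal nilpotent Hall subgroup. -/
theorem coatom_props (hG : Cfsg.IsMinSimpleOddOrder G) (hCN : Cfsg.IsCNGroup G) {p : ℕ}
    [hp : Fact p.Prime] (P : Sylow p G) (hP1 : (P : Subgroup G) ≠ ⊥) {M : Subgroup G}
    (hM : IsCoatom M) (hle : Subgroup.normalizer (ZJ (P : Subgroup G) : Set G) ≤ M) :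
    ¬ Group.IsNilpotent ↥M ∧ p ∣ Nat.card (Cfsg.fittingHall ↥M) := by
  have hnn : ¬ Group.IsNilpotent ↥M := fun h =>
    not_npc hG P hP1 hle (Cfsg.Agent.S0132.hasNormalPComplement_of_isNilpotent p h)
  refine ⟨hnn, ?_⟩
  by_contra hnd
  obtain ⟨-, -, -, hq⟩ := frob_type hG hCN hM.1 hnn
  exact not_npc hG P hP1 hle (hasNormalPComplement_of_not_dvd (Cfsg.fittingHall ↥M) hq hnd)

theorem card_fittingHallOf (M : Subgroup G) :
    Nat.card (Cfsg.fittingHallOf M) = Nat.card (Cfsg.fittingHall ↥M) :=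
  Nat.card_congr ((Cfsg.fittingHall ↥M).equivMapOfInjective M.subtype M.subtype_injective).symm.toEquiv

theorem fittingHallOf_le (M : Subgroup G) : Cfsg.fittingHallOf M ≤ M :=
  Subgroup.map_subtype_le _

theorem nilpotent_fittingHallOf (M : Subgroup G) : Group.IsNilpotent (Cfsg.fittingHallOf M) := by
  have : Group.IsNilpotent (Cfsg.fittingHall ↥M) := fittingHall_nilpotent
  exact Group.nilpotent_of_mulEquiv
    ((Cfsg.fittingHall ↥M).equivMapOfInjective M.subtype M.subtype_injective)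

theorem le_normalizer_fittingHallOf (M : Subgroup G) :
    M ≤ Subgroup.normalizer (Cfsg.fittingHallOf M : Set G) := by
  have h1 := Subgroup.le_normalizer_map (H := Cfsg.fittingHall ↥M) M.subtype
  rw [Subgroup.normalizer_eq_top, ← MonoidHom.range_eq_map, Subgroup.range_subtype] at h1
  exact h1

theorem mem_fittingHallOf_iff {M : Subgroup G} {x : G} (hx : x ∈ M) :
    x ∈ Cfsg.fittingHallOf M ↔ (⟨x, hx⟩ : ↥M) ∈ Cfsg.fittingHall ↥M := by
  unfold Cfsg.fittingHallOf
  constructor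
  · rintro ⟨y, hy, hyx⟩
    have : y = ⟨x, hx⟩ := Subtype.ext hyx
    rwa [this] at hy
  · intro h
    exact ⟨⟨x, hx⟩, h, rfl⟩

/-- `p`-elements of `M` lie in `fittingHallOf M` if `p` divides its order. -/
theorem mem_fittingHallOf_of_dvd {M : Subgroup G} {p : ℕ} [hp : Fact p.Prime]
    (hdvd : p ∣ Nat.card (Cfsg.fittingHallOf M)) {x : G} (hx : x ∈ M) {k : ℕ}
    (hxo : orderOf x = p ^ k) : x ∈ Cfsg.fittingHallOf M := by
  rw [mem_fittingHallOf_iff hx]
  rw [card_fittingHallOf] at hdvd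
  exact mem_fittingHall_of_dvd hdvd (k := k) (by rw [Subgroup.orderOf_mk, hxo])

/-- the normalizer of a nilpotent subgroup normalizes its Sylow parts. -/
theorem normalizer_le_normalizer_sylowPart {K : Subgroup G} (hK : Group.IsNilpotent K) (p : ℕ)
    [Fact p.Prime] :
    Subgroup.normalizer (K : Set G) ≤ Subgroup.normalizer (sylowPart K p : Set G) := by
  rw [Subgroup.le_normalizer_iff]
  intro g hg x hx
  obtain ⟨j, hj⟩ := pgroup_orderOf (sylowPart_isPGroup K p) hx
  have hxK : x ∈ K := sylowPart_le K p hx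
  have h1 : g * x * g⁻¹ ∈ K := (Subgroup.mem_normalizer_iff.mp hg x).mp hxK
  have hord : orderOf (g * x * g⁻¹) = p ^ j := by
    rw [← hj, ← MulAut.conj_apply]
    exact MulEquiv.orderOf_eq _ _
  exact mem_sylowPart hK h1 hord

/-- for a maximal subgroup `M` and a prime `p` dividing the order of `fittingHallOf M`: the
`p`-part of `fittingHallOf M` has normalizer `M` and is a Sylow `p`-subgroup of `G`. -/
theorem sylowPart_fittingHallOf (hG : Cfsg.IsMinSimpleOddOrder G) {M : Subgroup G}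
    (hM : IsCoatom M) {p : ℕ} [hp : Fact p.Prime] (hdvd : p ∣ Nat.card (Cfsg.fittingHallOf M)) :
    Subgroup.normalizer (sylowPart (Cfsg.fittingHallOf M) p : Set G) = M ∧
      ¬ p ∣ (sylowPart (Cfsg.fittingHallOf M) p).index := by
  have hnil := nilpotent_fittingHallOf M
  have hQp : IsPGroup p (sylowPart (Cfsg.fittingHallOf M) p) := sylowPart_isPGroup _ p
  have hQ1 : sylowPart (Cfsg.fittingHallOf M) p ≠ ⊥ := sylowPart_ne_bot hdvd
  have hQN : Subgroup.normalizer (sylowPart (Cfsg.fittingHallOf M) p : Set G) = M := by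
    have hle : M ≤ Subgroup.normalizer (sylowPart (Cfsg.fittingHallOf M) p : Set G) :=
      (le_normalizer_fittingHallOf M).trans (normalizer_le_normalizer_sylowPart hnil p)
    rcases hM.le_iff.mp hle with h | h
    · exact absurd h (normalizer_ne_top hG hQp hQ1)
    · exact h
  refine ⟨hQN, ?_⟩
  obtain ⟨P, hQP⟩ := hQp.exists_le_sylow
  by_cases hQeq : sylowPart (Cfsg.fittingHallOf M) p = (P : Subgroup G)
  · rw [hQeq]
    exact P.not_dvd_index
  · exfalso
    have hlt : sylowPart (Cfsg.fittingHallOf M) p < (P : Subgroup G) := lt_of_le_of_ne hQP hQeq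
    have h1 := lt_inf_normalizer P.isPGroup' hlt
    obtain ⟨x, hx, hxQ⟩ := SetLike.exists_of_lt h1
    have hxm := Subgroup.mem_inf.mp hx
    have hxM : x ∈ M := by rw [← hQN]; exact hxm.2
    obtain ⟨k, hk⟩ := pgroup_orderOf P.isPGroup' hxm.1
    exact hxQ (mem_sylowPart hnil (mem_fittingHallOf_of_dvd hdvd hxM hk) hk)

/-- `fittingHallOf M` is a Hall subgroup of `G`, for `M` maximal. -/
theorem fittingHallOf_coprime (hG : Cfsg.IsMinSimpleOddOrder G) {M : Subgroup G}
    (hM : IsCoatom M) :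
    (Nat.card (Cfsg.fittingHallOf M)).Coprime (Cfsg.fittingHallOf M).index := by
  apply Nat.Coprime.symm
  apply Nat.coprime_of_dvd
  intro k hk hk2 hk1
  have : Fact k.Prime := ⟨hk⟩
  apply (sylowPart_fittingHallOf hG hM hk1).2
  exact hk2.trans (Subgroup.index_dvd_of_le (sylowPart_le _ k))

/-- `fittingHallOf M` is a maximal nilpotent subgroup of `G`, for `M` maximal (and not
nilpotent). -/
theorem fittingHallOf_isMaxNilp (hG : Cfsg.IsMinSimpleOddOrder G) (hCN : Cfsg.IsCNGroup G)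
    {M : Subgroup G} (hM : IsCoatom M) (hnn : ¬ Group.IsNilpotent ↥M) :
    IsMaxNilp (Cfsg.fittingHallOf M) := by
  obtain ⟨hF1, hFtop, ⟨E, hE, hEfrob, hfpf⟩, hq⟩ := frob_type hG hCN hM.1 hnn
  have hnil := nilpotent_fittingHallOf M
  have hFG1 : Cfsg.fittingHallOf M ≠ ⊥ := by
    intro h
    apply hF1
    exact (Subgroup.map_eq_bot_iff_of_injective _ M.subtype_injective).mp h
  refine ⟨hnil, ?_⟩
  intro L hL hFL
  apply le_antisymm _ hFL
  have hcard1 : Nat.card (Cfsg.fittingHallOf M) ≠ 1 := by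
    rw [Ne, Subgroup.card_eq_one]
    exact hFG1
  obtain ⟨s, hs, hsdvd⟩ := Nat.exists_prime_and_dvd hcard1
  have key : ∀ (r : ℕ) [Fact r.Prime], r ∣ Nat.card (Cfsg.fittingHallOf M) →
      sylowPart L r = sylowPart (Cfsg.fittingHallOf M) r := by
    intro r _ hr
    obtain ⟨hN, hsyl⟩ := sylowPart_fittingHallOf hG hM hr
    have hle : sylowPart (Cfsg.fittingHallOf M) r ≤ sylowPart L r := by
      intro x hx
      obtain ⟨j, hj⟩ := pgroup_orderOf (sylowPart_isPGroup (Cfsg.fittingHallOf M) r) hx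
      exact mem_sylowPart hL (hFL (sylowPart_le _ r hx)) hj
    have := ((sylowPart_isPGroup (Cfsg.fittingHallOf M) r).toSylow hsyl).is_maximal'
      (sylowPart_isPGroup L r) (by rw [IsPGroup.toSylow_coe]; exact hle)
    rw [IsPGroup.toSylow_coe] at this
    exact this
  have hLM : L ≤ M := by
    have : Fact s.Prime := ⟨hs⟩
    have h1 := (sylowPart_fittingHallOf hG hM hsdvd).1
    rw [← key s hsdvd] at h1
    rw [← h1]
    exact Subgroup.le_normalizer.trans (normalizer_le_normalizer_sylowPart hL s)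
  apply le_of_pp_mem
  rintro y hyL ⟨r, k, hr, hyo⟩
  have : Fact r.Prime := ⟨hr⟩
  by_cases hrd : r ∣ Nat.card (Cfsg.fittingHallOf M)
  · have : y ∈ sylowPart L r := mem_sylowPart hL hyL hyo
    rw [key r hrd] at this
    exact sylowPart_le _ r this
  · by_contra hyF
    have hy1 : y ≠ 1 := fun h => hyF (h ▸ (Cfsg.fittingHallOf M).one_mem)
    have : Fact s.Prime := ⟨hs⟩
    obtain ⟨f, hf⟩ := exists_prime_orderOf_dvd_card' s hsdvd
    have hfo : orderOf (f : G) = s ^ 1 := by rw [pow_one, Subgroup.orderOf_coe, hf]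
    have hf1 : (f : G) ≠ 1 := by
      intro h
      rw [← orderOf_eq_one_iff, hfo, pow_one] at h
      exact hs.one_lt.ne' h
    have hrs : r ≠ s := fun h => hrd (h ▸ hsdvd)
    have hc : Commute (⟨y, hyL⟩ : L) ⟨(f : G), hFL f.2⟩ :=
      commute_of_pp hr hs hrs (by rw [Subgroup.orderOf_mk, hyo]) (by rw [Subgroup.orderOf_mk, hfo])
    have hc' : y * (f : G) = (f : G) * y := congrArg Subtype.val hc.eq
    have hyM := hLM hyL
    have hfM := fittingHallOf_le M f.2
    have hnc := frob_not_commute (Cfsg.fittingHall ↥M) E hE fittingHall_coprime hfpf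
      (y := ⟨y, hyM⟩) (f := ⟨(f : G), hfM⟩)
      (by rw [← mem_fittingHallOf_iff hyM]; exact hyF)
      (by rw [← mem_fittingHallOf_iff hfM]; exact f.2)
      (by intro h; exact hf1 (congrArg Subtype.val h))
    exact hnc (Subtype.ext hc')

theorem coatom_ne_bot (hG : Cfsg.IsMinSimpleOddOrder G) {M : Subgroup G} (hM : IsCoatom M) :
    M ≠ ⊥ := by
  intro hbot
  apply hG.2.2.1
  refine ⟨⟨fun a b => ?_⟩⟩
  by_cases ha : a = 1
  · rw [ha, one_mul, mul_one]
  · have h1 : M < Subgroup.zpowers a := by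
      rw [hbot, bot_lt_iff_ne_bot, Ne, Subgroup.zpowers_eq_bot]
      exact ha
    have h2 := hM.2 _ h1
    have hb : b ∈ Subgroup.zpowers a := h2 ▸ Subgroup.mem_top b
    obtain ⟨n, rfl⟩ := Subgroup.mem_zpowers_iff.mp hb
    exact (Commute.zpow_right (Commute.refl a) n).eq

/-- maximal subgroups are not nilpotent. -/
theorem coatom_not_nilpotent (hG : Cfsg.IsMinSimpleOddOrder G) (hCN : Cfsg.IsCNGroup G)
    {M : Subgroup G} (hM : IsCoatom M) : ¬ Group.IsNilpotent ↥M := by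
  intro hnil
  have hM1 := coatom_ne_bot hG hM
  have hmax : IsMaxNilp M := by
    refine ⟨hnil, fun L hL hML => ?_⟩
    rcases hM.le_iff.mp hML with h | h
    · exfalso
      rw [h] at hL
      have : Group.IsNilpotent G := Group.nilpotent_of_mulEquiv Subgroup.topEquiv
      exact not_solvable hG inferInstance
    · exact h
  have hcard1 : Nat.card M ≠ 1 := by
    rw [Ne, Subgroup.card_eq_one]
    exact hM1
  obtain ⟨p, hp, hpdvd⟩ := Nat.exists_prime_and_dvd hcard1
  have hpF : Fact p.Prime := ⟨hp⟩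
  have hPc : ((sylowOf hCN hmax hpdvd : Sylow p G) : Subgroup G) = sylowPart M p :=
    coe_sylowOf hCN hmax hpdvd
  have hP1 : ((sylowOf hCN hmax hpdvd : Sylow p G) : Subgroup G) ≠ ⊥ := by
    rw [hPc]
    exact sylowPart_ne_bot hpdvd
  have hle : M ≤ Subgroup.normalizer
      (ZJ ((sylowOf hCN hmax hpdvd : Sylow p G) : Subgroup G) : Set G) := by
    have h1 : M ≤ Subgroup.normalizer
        (((sylowOf hCN hmax hpdvd : Sylow p G) : Subgroup G) : Set G) := by
      rw [hPc]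
      exact Subgroup.le_normalizer.trans (normalizer_le_normalizer_sylowPart hnil p)
    exact h1.trans (normalizer_le_normalizer_W goodAx_comm _)
  have hZ1 := ZJ_ne_bot (sylowOf hCN hmax hpdvd : Sylow p G).isPGroup' hP1
  have hZP : ZJ ((sylowOf hCN hmax hpdvd : Sylow p G) : Subgroup G) ≤
      ((sylowOf hCN hmax hpdvd : Sylow p G) : Subgroup G) := W_le goodAx_comm _
  have hN : Subgroup.normalizer
      (ZJ ((sylowOf hCN hmax hpdvd : Sylow p G) : Subgroup G) : Set G) = M := by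
    rcases hM.le_iff.mp hle with h | h
    · exact absurd h (normalizer_ne_top hG
        ((sylowOf hCN hmax hpdvd : Sylow p G).isPGroup'.to_le hZP) hZ1)
    · exact h
  exact (coatom_props hG hCN _ hP1 hM hN.le).1 hnil

theorem maxNilp_ne_bot (hG : Cfsg.IsMinSimpleOddOrder G) (hCN : Cfsg.IsCNGroup G)
    {H : Subgroup G} (hH : IsMaxNilp H) : H ≠ ⊥ := by
  intro hbot
  apply hG.2.2.1
  have hall : ∀ g : G, g = 1 := by
    intro g
    by_contra hg1
    have h1 := hH.2 _ (hCN g hg1) (hbot ▸ bot_le)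
    have h2 : g ∈ Subgroup.centralizer ({g} : Set G) := by
      rw [Subgroup.mem_centralizer_singleton_iff]
    rw [h1, hbot, Subgroup.mem_bot] at h2
    exact hg1 h2
  exact ⟨⟨fun a b => by rw [hall a, hall b]⟩⟩

/-- every maximal nilpotent subgroup is the largest normal nilpotent Hall subgroup of a maximal
subgroup. -/
theorem maxNilp_eq_fittingHallOf (hG : Cfsg.IsMinSimpleOddOrder G) (hCN : Cfsg.IsCNGroup G)
    {H : Subgroup G} (hH : IsMaxNilp H) :
    ∃ M : Subgroup G, IsCoatom M ∧ H = Cfsg.fittingHallOf M := by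
  have hH1 := maxNilp_ne_bot hG hCN hH
  have hcard1 : Nat.card H ≠ 1 := by
    rw [Ne, Subgroup.card_eq_one]
    exact hH1
  obtain ⟨p, hp, hpdvd⟩ := Nat.exists_prime_and_dvd hcard1
  have hpF : Fact p.Prime := ⟨hp⟩
  obtain ⟨P, hPc⟩ : ∃ P : Sylow p G, (P : Subgroup G) = sylowPart H p :=
    ⟨sylowOf hCN hH hpdvd, coe_sylowOf hCN hH hpdvd⟩
  have hP1 : (P : Subgroup G) ≠ ⊥ := by
    rw [hPc]
    exact sylowPart_ne_bot hpdvd
  have hZ1 := ZJ_ne_bot P.isPGroup' hP1
  have hZP : ZJ (P : Subgroup G) ≤ (P : Subgroup G) := W_le goodAx_comm _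
  have hLtop := normalizer_ne_top hG (P.isPGroup'.to_le hZP) hZ1
  obtain ⟨M, hM, hLM⟩ := (eq_top_or_exists_le_coatom _).resolve_left hLtop
  obtain ⟨hnn, hpF'⟩ := coatom_props hG hCN P hP1 hM hLM
  rw [← card_fittingHallOf] at hpF'
  have hFmax := fittingHallOf_isMaxNilp hG hCN hM hnn
  have hPM : (P : Subgroup G) ≤ M := (le_normalizer_W goodAx_comm _).trans hLM
  have hPQ : (P : Subgroup G) ≤ sylowPart (Cfsg.fittingHallOf M) p := by
    intro x hx
    obtain ⟨k, hk⟩ := pgroup_orderOf P.isPGroup' hx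
    exact mem_sylowPart hFmax.1 (mem_fittingHallOf_of_dvd hpF' (hPM hx) hk) hk
  have hQP : sylowPart (Cfsg.fittingHallOf M) p = (P : Subgroup G) :=
    P.is_maximal' (sylowPart_isPGroup _ p) hPQ
  obtain ⟨z, hz1⟩ := Subgroup.ne_bot_iff_exists_ne_one.mp
    (Cfsg.Agent.Helper46.center_sylow_ne_bot P hP1)
  have hzmem := Subgroup.mem_inf.mp z.2
  have hz1' : (z : G) ≠ 1 := fun h => hz1 (Subtype.ext h)
  have hzc : ∀ h ∈ (P : Subgroup G), h * z = z * h := Subgroup.mem_centralizer_iff.mp hzmem.2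
  have hC₁ : Subgroup.centralizer ({(z : G)} : Set G) = H :=
    centralizer_eq hCN hH (by rw [← hPc]; exact hzmem.1) (by rw [← hPc]; exact hzc) hz1'
  have hC₂ : Subgroup.centralizer ({(z : G)} : Set G) = Cfsg.fittingHallOf M :=
    centralizer_eq hCN hFmax (by rw [hQP]; exact hzmem.1) (by rw [hQP]; exact hzc) hz1'
  exact ⟨M, hM, hC₁.symm.trans hC₂⟩

theorem card_lt_of_lt'' {A B : Subgroup G} (h : A < B) : Nat.card A < Nat.card B := by
  refine lt_of_le_of_ne (Subgroup.card_le_of_le h.le) ?_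
  intro heq
  exact h.ne (Subgroup.eq_of_le_of_card_ge h.le heq.ge)

theorem sylow_ti_aux (hG : Cfsg.IsMinSimpleOddOrder G) (hCN : Cfsg.IsCNGroup G) {p : ℕ}
    [hp : Fact p.Prime] : ∀ d : ℕ, ∀ P P' : Sylow p G, P ≠ P' →
      (P : Subgroup G) ⊓ (P' : Subgroup G) ≠ ⊥ →
      Nat.card (P : Subgroup G) - Nat.card ↥((P : Subgroup G) ⊓ (P' : Subgroup G)) = d →
      False := by
  intro d
  induction d using Nat.strong_induction_on with
  | _ d ih =>
  intro P P' hne hI hd
  have hcard : Nat.card (P : Subgroup G) = Nat.card (P' : Subgroup G) := by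
    rw [Sylow.card_eq_multiplicity, Sylow.card_eq_multiplicity]
  have hDP : (P : Subgroup G) ⊓ (P' : Subgroup G) < (P : Subgroup G) := by
    refine lt_of_le_of_ne inf_le_left ?_
    intro h
    apply hne
    have hle : (P : Subgroup G) ≤ (P' : Subgroup G) := inf_eq_left.mp h
    exact Sylow.ext (Subgroup.eq_of_le_of_card_ge hle hcard.symm.le)
  have hDP' : (P : Subgroup G) ⊓ (P' : Subgroup G) < (P' : Subgroup G) := by
    refine lt_of_le_of_ne inf_le_right ?_
    intro h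
    apply hne
    have hle : (P' : Subgroup G) ≤ (P : Subgroup G) := inf_eq_right.mp h
    exact (Sylow.ext (Subgroup.eq_of_le_of_card_ge hle hcard.le)).symm
  have hT := lt_inf_normalizer P.isPGroup' hDP
  have hT' := lt_inf_normalizer P'.isPGroup' hDP'
  have hcT := card_lt_of_lt'' hT
  have hcT' := card_lt_of_lt'' hT'
  have hcDP := Subgroup.card_le_of_le (inf_le_left :
    (P : Subgroup G) ⊓ (P' : Subgroup G) ≤ (P : Subgroup G))
  have claimA : ∀ P₁ : Sylow p G, (P : Subgroup G) ⊓ Subgroup.normalizer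
      (((P : Subgroup G) ⊓ (P' : Subgroup G) : Subgroup G) : Set G) ≤ (P₁ : Subgroup G) →
      P₁ = P := by
    intro P₁ hle
    by_contra hP₁
    have hle2 : (P : Subgroup G) ⊓ Subgroup.normalizer
        (((P : Subgroup G) ⊓ (P' : Subgroup G) : Subgroup G) : Set G) ≤
        (P : Subgroup G) ⊓ (P₁ : Subgroup G) := le_inf inf_le_left hle
    have hc2 := Subgroup.card_le_of_le hle2
    have hc3 := Subgroup.card_le_of_le (inf_le_left :
      (P : Subgroup G) ⊓ (P₁ : Subgroup G) ≤ (P : Subgroup G))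
    have hne2 : (P : Subgroup G) ⊓ (P₁ : Subgroup G) ≠ ⊥ := by
      intro h
      apply hI
      rw [eq_bot_iff, ← h]
      exact hT.le.trans hle2
    exact ih _ (by omega) P P₁ (Ne.symm hP₁) hne2 rfl
  have claimA' : ∀ P₁ : Sylow p G, (P' : Subgroup G) ⊓ Subgroup.normalizer
      (((P : Subgroup G) ⊓ (P' : Subgroup G) : Subgroup G) : Set G) ≤ (P₁ : Subgroup G) →
      P₁ = P' := by
    intro P₁ hle
    by_contra hP₁
    have hle2 : (P' : Subgroup G) ⊓ Subgroup.normalizer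
        (((P : Subgroup G) ⊓ (P' : Subgroup G) : Subgroup G) : Set G) ≤
        (P' : Subgroup G) ⊓ (P₁ : Subgroup G) := le_inf inf_le_left hle
    have hc2 := Subgroup.card_le_of_le hle2
    have hc3 := Subgroup.card_le_of_le (inf_le_left :
      (P' : Subgroup G) ⊓ (P₁ : Subgroup G) ≤ (P' : Subgroup G))
    have hne2 : (P' : Subgroup G) ⊓ (P₁ : Subgroup G) ≠ ⊥ := by
      intro h
      apply hI
      rw [eq_bot_iff, ← h]
      exact hT'.le.trans hle2
    exact ih _ (by omega) P' P₁ (Ne.symm hP₁) hne2 rfl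
  set D := (P : Subgroup G) ⊓ (P' : Subgroup G) with hD
  have hDp : IsPGroup p D := P.isPGroup'.to_le inf_le_left
  have hNtop := normalizer_ne_top hG hDp hI
  by_cases hS : ∃ S : Sylow p ↥(Subgroup.normalizer (D : Set G)),
      (S : Subgroup ↥(Subgroup.normalizer (D : Set G))).Normal
  · obtain ⟨S, hSn⟩ := hS
    obtain ⟨P₁, hP₁⟩ := (S.isPGroup'.map (Subgroup.normalizer (D : Set G)).subtype).exists_le_sylow
    have hmem : ∀ x : G, x ∈ Subgroup.normalizer (D : Set G) → (∃ k : ℕ, orderOf x = p ^ k) →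
        x ∈ (P₁ : Subgroup G) := by
      rintro x hxN ⟨k, hk⟩
      apply hP₁
      refine ⟨⟨x, hxN⟩, ?_, rfl⟩
      exact mem_sylow_of_normal S hSn (k := k) (by rw [Subgroup.orderOf_mk, hk])
    have h1 : P₁ = P := claimA P₁ (fun x hx =>
      hmem x (Subgroup.mem_inf.mp hx).2 (pgroup_orderOf P.isPGroup' (Subgroup.mem_inf.mp hx).1))
    have h2 : P₁ = P' := claimA' P₁ (fun x hx =>
      hmem x (Subgroup.mem_inf.mp hx).2 (pgroup_orderOf P'.isPGroup' (Subgroup.mem_inf.mp hx).1))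
    exact hne (h1.symm.trans h2)
  · have hnn : ¬ Group.IsNilpotent ↥(Subgroup.normalizer (D : Set G)) := by
      intro hnil
      exact hS ⟨default, inferInstance⟩
    obtain ⟨hF1, hFtop, ⟨E, hE, hEfrob, hfpf⟩, hq⟩ := frob_type hG hCN hNtop hnn
    have hpF : ¬ p ∣ Nat.card (Cfsg.fittingHall ↥(Subgroup.normalizer (D : Set G))) := by
      intro hdvd
      exact hS ⟨default, (sylow_le_of_dvd hdvd default).2⟩
    have hFcop : (Nat.card (Cfsg.fittingHall ↥(Subgroup.normalizer (D : Set G)))).Coprime p :=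
      ((Nat.Prime.coprime_iff_not_dvd hp.out).mpr hpF).symm
    have hDNn : (D.subgroupOf (Subgroup.normalizer (D : Set G))).Normal :=
      Subgroup.normal_in_normalizer
    have hDNp : IsPGroup p (D.subgroupOf (Subgroup.normalizer (D : Set G))) :=
      hDp.comap_of_injective _ (Subgroup.subtype_injective _)
    obtain ⟨d₀, hd₀⟩ := Subgroup.ne_bot_iff_exists_ne_one.mp hI
    have hd₀1 : (d₀ : G) ≠ 1 := fun h => hd₀ (Subtype.ext h)
    have hd₀N : (d₀ : G) ∈ Subgroup.normalizer (D : Set G) := Subgroup.le_normalizer d₀.2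
    obtain ⟨f, hfF, hf1'⟩ : ∃ f : ↥(Subgroup.normalizer (D : Set G)),
        f ∈ Cfsg.fittingHall ↥(Subgroup.normalizer (D : Set G)) ∧ f ≠ 1 := by
      obtain ⟨f, hf1⟩ := Subgroup.ne_bot_iff_exists_ne_one.mp hF1
      exact ⟨f, f.2, fun h => hf1 (Subtype.ext h)⟩
    have hFn : (Cfsg.fittingHall ↥(Subgroup.normalizer (D : Set G))).Normal :=
      Cfsg.fittingHall_normal _
    have hdmem : (⟨(d₀ : G), hd₀N⟩ : ↥(Subgroup.normalizer (D : Set G))) ∈
        D.subgroupOf (Subgroup.normalizer (D : Set G)) := Subgroup.mem_subgroupOf.mpr d₀.2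
    have hdF : (⟨(d₀ : G), hd₀N⟩ : ↥(Subgroup.normalizer (D : Set G))) ∉
        Cfsg.fittingHall ↥(Subgroup.normalizer (D : Set G)) := by
      intro h
      have := eq_one_of_mem_of_coprime hDNp hFcop hdmem h
      exact hd₀1 (congrArg Subtype.val this)
    apply frob_not_commute _ E hE fittingHall_coprime hfpf hdF hfF hf1'
    set d : ↥(Subgroup.normalizer (D : Set G)) := ⟨(d₀ : G), hd₀N⟩ with hddef
    have h1 : d * f * d⁻¹ * f⁻¹ ∈ D.subgroupOf (Subgroup.normalizer (D : Set G)) := by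
      have := hDNn.conj_mem _ (inv_mem hdmem) f
      have h2 := mul_mem hdmem this
      have h3 : d * (f * d⁻¹ * f⁻¹) = d * f * d⁻¹ * f⁻¹ := by group
      rwa [h3] at h2
    have h2 : d * f * d⁻¹ * f⁻¹ ∈ Cfsg.fittingHall ↥(Subgroup.normalizer (D : Set G)) :=
      mul_mem (hFn.conj_mem _ hfF d) (inv_mem hfF)
    have h3 := eq_one_of_mem_of_coprime hDNp hFcop h1 h2
    show d * f = f * d
    calc d * f = (d * f * d⁻¹ * f⁻¹) * f * d := by group
      _ = f * d := by rw [h3, one_mul]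

/-- **Sylow subgroups are TI.** -/
theorem sylow_inf_eq_bot (hG : Cfsg.IsMinSimpleOddOrder G) (hCN : Cfsg.IsCNGroup G) {p : ℕ}
    [hp : Fact p.Prime] {P P' : Sylow p G} (hne : P ≠ P') :
    (P : Subgroup G) ⊓ (P' : Subgroup G) = ⊥ := by
  by_contra h
  exact sylow_ti_aux hG hCN _ P P' hne h rfl

/-- the structure of a maximal subgroup: `fittingHallOf M` is a maximal nilpotent subgroup of
`G`, normal in `M`, with a fixed-point-free complement. -/
theorem coatom_structure (hG : Cfsg.IsMinSimpleOddOrder G) (hCN : Cfsg.IsCNGroup G)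
    {M : Subgroup G} (hM : IsCoatom M) :
    ∃ E : Subgroup G, IsMaxNilp (Cfsg.fittingHallOf M) ∧
      M ≤ Subgroup.normalizer (Cfsg.fittingHallOf M : Set G) ∧
      Cfsg.IsComplIn (Cfsg.fittingHallOf M) E M ∧ Cfsg.fittingHallOf M ≠ ⊥ ∧ E ≠ ⊥ ∧
      ∀ e ∈ E, e ≠ 1 → Cfsg.fittingHallOf M ⊓ Subgroup.centralizer ({e} : Set G) = ⊥ := by
  have hnn := coatom_not_nilpotent hG hCN hM
  obtain ⟨hF1, hFtop, ⟨E, hE, hEfrob, hfpf⟩, hq⟩ := frob_type hG hCN hM.1 hnn
  have hFG1 : Cfsg.fittingHallOf M ≠ ⊥ := by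
    intro h
    apply hF1
    exact (Subgroup.map_eq_bot_iff_of_injective _ M.subtype_injective).mp h
  refine ⟨E.map M.subtype, fittingHallOf_isMaxNilp hG hCN hM hnn, le_normalizer_fittingHallOf M,
    ⟨fittingHallOf_le M, Subgroup.map_subtype_le E, ?_, ?_⟩, hFG1, ?_, ?_⟩
  · rw [eq_bot_iff]
    intro x hx
    obtain ⟨hxF, hxE⟩ := Subgroup.mem_inf.mp hx
    obtain ⟨e, he, hex⟩ := Subgroup.mem_map.mp hxE
    have hxM : x ∈ M := fittingHallOf_le M hxF
    have hxF' := (mem_fittingHallOf_iff hxM).mp hxF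
    have hex' : e = ⟨x, hxM⟩ := Subtype.ext hex
    have h1 : (⟨x, hxM⟩ : ↥M) ∈ Cfsg.fittingHall ↥M ⊓ E :=
      Subgroup.mem_inf.mpr ⟨hxF', hex' ▸ he⟩
    rw [disjoint_iff.mp hE.disjoint, Subgroup.mem_bot] at h1
    rw [Subgroup.mem_bot]
    exact congrArg Subtype.val h1
  · intro m hm
    obtain ⟨⟨f, e⟩, hfe⟩ := hE.2 ⟨m, hm⟩
    refine ⟨((f : ↥M) : G), ⟨(f : ↥M), f.2, rfl⟩, ((e : ↥M) : G), ⟨(e : ↥M), e.2, rfl⟩, ?_⟩
    have := congrArg Subtype.val hfe
    exact this.symm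
  · intro h
    apply hEfrob.1
    exact (Subgroup.map_eq_bot_iff_of_injective _ M.subtype_injective).mp h
  · rintro e₀ ⟨e, he, rfl⟩ he1
    have he1' : e ≠ 1 := by
      intro h
      apply he1
      rw [h]
      rfl
    rw [eq_bot_iff]
    intro x hx
    obtain ⟨hxF, hxC⟩ := Subgroup.mem_inf.mp hx
    have hxM : x ∈ M := fittingHallOf_le M hxF
    have hxF' := (mem_fittingHallOf_iff hxM).mp hxF
    have h1 : (⟨x, hxM⟩ : ↥M) ∈ Cfsg.fittingHall ↥M ⊓ Subgroup.centralizer ({e} : Set ↥M) := by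
      refine Subgroup.mem_inf.mpr ⟨hxF', ?_⟩
      rw [Subgroup.mem_centralizer_singleton_iff] at hxC ⊢
      exact Subtype.ext hxC
    rw [hfpf e he he1', Subgroup.mem_bot] at h1
    rw [Subgroup.mem_bot]
    exact congrArg Subtype.val h1

/-- maximal nilpotent subgroups are TI. -/
theorem maxNilp_ti (hG : Cfsg.IsMinSimpleOddOrder G) (hCN : Cfsg.IsCNGroup G)
    {H : Subgroup G} (hH : IsMaxNilp H) (g : G)
    (hg : H.map (MulAut.conj g).toMonoidHom ≠ H) :
    H ⊓ H.map (MulAut.conj g).toMonoidHom = ⊥ := by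
  obtain ⟨M, hM, hHM⟩ := maxNilp_eq_fittingHallOf hG hCN hH
  by_contra hne
  obtain ⟨x, hx1⟩ := Subgroup.ne_bot_iff_exists_ne_one.mp hne
  have hx1' : (x : G) ≠ 1 := fun h => hx1 (Subtype.ext h)
  have ho1 : orderOf (x : G) ≠ 1 := fun h => hx1' (orderOf_eq_one_iff.mp h)
  obtain ⟨q, hq, hqdvd⟩ := Nat.exists_prime_and_dvd ho1
  have hqF : Fact q.Prime := ⟨hq⟩
  have hx0 : orderOf (x : G) ≠ 0 := (orderOf_pos _).ne'
  have hyo : orderOf ((x : G) ^ (orderOf (x : G) / q)) = q ^ 1 := by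
    rw [pow_one]
    exact orderOf_pow_orderOf_div hx0 hqdvd
  have hymem : (x : G) ^ (orderOf (x : G) / q) ∈ H ⊓ H.map (MulAut.conj g).toMonoidHom :=
    Subgroup.pow_mem _ x.2 _
  obtain ⟨hyH, hyHg⟩ := Subgroup.mem_inf.mp hymem
  have hy1 : (x : G) ^ (orderOf (x : G) / q) ≠ 1 := by
    intro h
    rw [← orderOf_eq_one_iff, hyo, pow_one] at h
    exact hq.one_lt.ne' h
  have hqH : q ∣ Nat.card H := dvd_card_of_mem hyH hy1 hyo
  have hQc : ((sylowOf hCN hH hqH : Sylow q G) : Subgroup G) = sylowPart H q :=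
    coe_sylowOf hCN hH hqH
  have hyQ : (x : G) ^ (orderOf (x : G) / q) ∈ ((sylowOf hCN hH hqH : Sylow q G) : Subgroup G) := by
    rw [hQc]
    exact mem_sylowPart hH.1 hyH hyo
  obtain ⟨h, hhH, hhy⟩ := Subgroup.mem_map.mp hyHg
  have hhy' : g * h * g⁻¹ = (x : G) ^ (orderOf (x : G) / q) := hhy
  have hho : orderOf h = q ^ 1 := by
    rw [← hyo, ← hhy', ← MulAut.conj_apply]
    exact (MulEquiv.orderOf_eq _ _).symm
  have hhQ : h ∈ ((sylowOf hCN hH hqH : Sylow q G) : Subgroup G) := by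
    rw [hQc]
    exact mem_sylowPart hH.1 hhH hho
  have hyQg : (x : G) ^ (orderOf (x : G) / q) ∈
      ((g • (sylowOf hCN hH hqH : Sylow q G) : Sylow q G) : Subgroup G) := by
    rw [Sylow.coe_subgroup_smul, Subgroup.mem_pointwise_smul_iff_inv_smul_mem]
    have : (MulAut.conj g)⁻¹ • ((x : G) ^ (orderOf (x : G) / q)) = h := by
      rw [← map_inv, MulAut.smul_def, MulAut.conj_apply, inv_inv, ← hhy']
      group
    rw [this]
    exact hhQ
  have heq : g • (sylowOf hCN hH hqH : Sylow q G) = sylowOf hCN hH hqH := by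
    by_contra hne'
    have h1 := sylow_inf_eq_bot hG hCN (Ne.symm hne')
    have h2 : (x : G) ^ (orderOf (x : G) / q) ∈
        ((sylowOf hCN hH hqH : Sylow q G) : Subgroup G) ⊓
          ((g • (sylowOf hCN hH hqH : Sylow q G) : Sylow q G) : Subgroup G) :=
      Subgroup.mem_inf.mpr ⟨hyQ, hyQg⟩
    rw [h1, Subgroup.mem_bot] at h2
    exact hy1 h2
  have hgN0 := Sylow.smul_eq_iff_mem_normalizer.mp heq
  have hgN : g ∈ Subgroup.normalizer ((sylowPart H q : Subgroup G) : Set G) := by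
    rw [← hQc]
    exact hgN0
  have hqH' : q ∣ Nat.card (Cfsg.fittingHallOf M) := hHM ▸ hqH
  have hNM := (sylowPart_fittingHallOf hG hM hqH').1
  rw [← hHM] at hNM
  rw [hNM] at hgN
  have hgNH : g ∈ Subgroup.normalizer (H : Set G) := by
    have := le_normalizer_fittingHallOf M
    rw [← hHM] at this
    exact this hgN
  exact hg (Subgroup.mem_normalizer_iff_map_conj_eq.mp hgNH)

/-- conjugates of maximal nilpotent subgroups are maximal nilpotent. -/
theorem isMaxNilp_map_conj {H : Subgroup G} (hH : IsMaxNilp H) (g : G) :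
    IsMaxNilp (H.map (MulAut.conj g).toMonoidHom) := by
  have hnil := hH.1
  refine ⟨Group.nilpotent_of_mulEquiv
    (H.equivMapOfInjective _ (MulAut.conj g).injective), ?_⟩
  intro L hL hHL
  have hL' : Group.IsNilpotent (L.map (MulAut.conj g⁻¹).toMonoidHom) :=
    Group.nilpotent_of_mulEquiv (L.equivMapOfInjective _ (MulAut.conj g⁻¹).injective)
  have hle : H ≤ L.map (MulAut.conj g⁻¹).toMonoidHom := by
    intro h hh
    refine ⟨g * h * g⁻¹, hHL ⟨h, hh, rfl⟩, ?_⟩
    show g⁻¹ * (g * h * g⁻¹) * g⁻¹⁻¹ = h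
    group
  have heq := hH.2 _ hL' hle
  apply le_antisymm _ hHL
  intro l hl
  have h1 : g⁻¹ * l * g ∈ L.map (MulAut.conj g⁻¹).toMonoidHom := by
    refine ⟨l, hl, ?_⟩
    show g⁻¹ * l * g⁻¹⁻¹ = g⁻¹ * l * g
    rw [inv_inv]
  rw [heq] at h1
  refine ⟨g⁻¹ * l * g, h1, ?_⟩
  show g * (g⁻¹ * l * g) * g⁻¹ = l
  group

theorem maxNilp_ne_top (hG : Cfsg.IsMinSimpleOddOrder G) {H : Subgroup G} (hH : IsMaxNilp H) :
    H ≠ ⊤ := by
  intro h
  have hnil := hH.1
  rw [h] at hnil
  have : Group.IsNilpotent G := Group.nilpotent_of_mulEquiv Subgroup.topEquiv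
  exact not_solvable hG inferInstance

theorem normalizer_fittingHallOf (hG : Cfsg.IsMinSimpleOddOrder G) (hCN : Cfsg.IsCNGroup G)
    {M : Subgroup G} (hM : IsCoatom M) :
    Subgroup.normalizer (Cfsg.fittingHallOf M : Set G) = M := by
  have hmax := fittingHallOf_isMaxNilp hG hCN hM (coatom_not_nilpotent hG hCN hM)
  exact normalizer_eq_of_coatom hG hM (maxNilp_ne_bot hG hCN hmax) (maxNilp_ne_top hG hmax)
    (le_normalizer_fittingHallOf M)

/-- a maximal nilpotent subgroup is determined by its normalizer. -/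
theorem eq_fittingHallOf_normalizer (hG : Cfsg.IsMinSimpleOddOrder G) (hCN : Cfsg.IsCNGroup G)
    {H : Subgroup G} (hH : IsMaxNilp H) :
    IsCoatom (Subgroup.normalizer (H : Set G)) ∧
      H = Cfsg.fittingHallOf (Subgroup.normalizer (H : Set G)) := by
  obtain ⟨M, hM, hHM⟩ := maxNilp_eq_fittingHallOf hG hCN hH
  have hN : Subgroup.normalizer (H : Set G) = M := by
    rw [hHM]
    exact normalizer_fittingHallOf hG hCN hM
  rw [hN]
  exact ⟨hM, hHM⟩

end Cfsg.Agent.Helper45.CNMax
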