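import Mathlib

/-!
# Counting conjugacy classes of `p`-elements (helper45)

`Cfsg.Agent.Helper45.PCl.two_p_mul_card_le` : if `N_G(P) ≰ C_G(P)` for a Sylow `p`-subgroup `P`
then `2 p k_p(G) ≤ (p+1) |P|`.
-/

set_option autoImplicit false

namespace Cfsg.Agent.Helper45.PCl

open Subgroup MulAction

variable {G : Type*} [Group G] [Finite G] {p : ℕ} [hp : Fact p.Prime]

/-- the type of conjugacy classes of `p`-elements -/
abbrev PClass (p : ℕ) (G : Type*) [Group G] : Type _ :=
  {c : ConjClasses G // ∀ x ∈ c.carrier, ∃ k : ℕ, orderOf x = p ^ k}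

omit [Finite G] in
theorem exists_pow_of_mem (P : Sylow p G) {x : G} (hx : x ∈ (P : Subgroup G)) :
    ∃ k : ℕ, orderOf x = p ^ k := by
  obtain ⟨k, hk⟩ := P.2 ⟨x, hx⟩
  have h1 : x ^ p ^ k = 1 := by simpa using congrArg Subtype.val hk
  obtain ⟨j, _, hj⟩ := (Nat.dvd_prime_pow hp.out).1 (orderOf_dvd_of_pow_eq_one h1)
  exact ⟨j, hj⟩

omit [Finite G] in
theorem orderOf_conj_eq (c y : G) : orderOf (c * y * c⁻¹) = orderOf y := by
  have := (MulAut.conj c).orderOf_eq y
  simpa [MulAut.conj_apply] using this

omit [Finite G] in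
theorem pclass_mk_prop (P : Sylow p G) {x : G} (hx : x ∈ (P : Subgroup G)) :
    ∀ y ∈ (ConjClasses.mk x).carrier, ∃ k : ℕ, orderOf y = p ^ k := by
  intro y hy
  rw [ConjClasses.mem_carrier_iff_mk_eq, ConjClasses.mk_eq_mk_iff_isConj, isConj_iff] at hy
  obtain ⟨c, rfl⟩ := hy
  obtain ⟨k, hk⟩ := exists_pow_of_mem P hx
  exact ⟨k, by rw [← hk, orderOf_conj_eq]⟩

/-- every class of `p`-elements meets `P` -/
theorem exists_mem_sylow (P : Sylow p G) (c : PClass p G) :
    ∃ x : G, x ∈ (P : Subgroup G) ∧ ConjClasses.mk x = c.1 := by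
  obtain ⟨c, hc⟩ := c
  obtain ⟨g, rfl⟩ := ConjClasses.exists_rep c
  obtain ⟨k, hk⟩ := hc g ConjClasses.mem_carrier_mk
  have hpg : IsPGroup p (zpowers g) := IsPGroup.of_card (n := k) (by rw [Nat.card_zpowers, hk])
  obtain ⟨Q, hQ⟩ := hpg.exists_le_sylow
  obtain ⟨h, hh⟩ := MulAction.exists_smul_eq G Q P
  refine ⟨h * g * h⁻¹, ?_, ?_⟩
  · rw [← hh, Sylow.smul_def, Sylow.pointwise_smul_def]
    have : g ∈ (Q : Subgroup G) := hQ (mem_zpowers g)
    have h2 := Subgroup.smul_mem_pointwise_smul g (MulAut.conj h) (Q : Subgroup G) this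
    simpa [MulAut.smul_def, MulAut.conj_apply] using h2
  · show ConjClasses.mk (h * g * h⁻¹) = ConjClasses.mk g
    rw [ConjClasses.mk_eq_mk_iff_isConj, isConj_iff]
    exact ⟨h⁻¹, by group⟩

/-- the fixed points of `n ∈ N_G(P)` on `P` -/
def fixSub (P : Sylow p G) (n : normalizer ((P : Subgroup G) : Set G)) :
    Subgroup (P : Subgroup G) where
  carrier := {x | n • x = x}
  one_mem' := smul_one n
  mul_mem' := by
    intro a b ha hb
    simp only [Set.mem_ofPred_eq] at *
    rw [smul_mul', ha, hb]
  inv_mem' := by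
    intro a ha
    simp only [Set.mem_ofPred_eq] at *
    rw [smul_inv', ha]

omit [Finite G] hp in
theorem fixSub_eq_top_iff (P : Sylow p G) (n : normalizer ((P : Subgroup G) : Set G)) :
    fixSub P n = ⊤ ↔ (n : G) ∈ centralizer ((P : Subgroup G) : Set G) := by
  constructor
  · intro h
    rw [mem_centralizer_iff]
    intro x hx
    have hx' : (⟨x, hx⟩ : (P : Subgroup G)) ∈ fixSub P n := by rw [h]; trivial
    have h2 : n • (⟨x, hx⟩ : (P : Subgroup G)) = ⟨x, hx⟩ := hx'
    have h3 : (n : G) * x * (n : G)⁻¹ = x := congrArg Subtype.val h2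
    calc x * (n : G) = ((n : G) * x * (n : G)⁻¹) * n := by rw [h3]
      _ = n * x := by group
  · intro h
    rw [eq_top_iff]
    intro x _
    show n • x = x
    apply Subtype.ext
    show (n : G) * x * (n : G)⁻¹ = x
    rw [mem_centralizer_iff] at h
    have := h x x.2
    calc (n : G) * x * (n : G)⁻¹ = (x * n) * (n : G)⁻¹ := by rw [this]
      _ = x := by group

theorem p_mul_card_fixSub_le (P : Sylow p G) (n : normalizer ((P : Subgroup G) : Set G))
    (hn : (n : G) ∉ centralizer ((P : Subgroup G) : Set G)) :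
    p * Nat.card (fixSub P n) ≤ Nat.card (P : Subgroup G) := by
  have hne : fixSub P n ≠ ⊤ := fun h => hn ((fixSub_eq_top_iff P n).1 h)
  obtain ⟨k, hk⟩ := (P.2 : IsPGroup p (P : Subgroup G)).index (fixSub P n)
  have hk0 : k ≠ 0 := by
    rintro rfl
    rw [pow_zero, Subgroup.index_eq_one] at hk
    exact hne hk
  have hdvd : p ∣ (fixSub P n).index := by rw [hk]; exact dvd_pow_self p hk0
  obtain ⟨m, hm⟩ := hdvd
  have hmul := (fixSub P n).card_mul_index
  have hm0 : 0 < m := by
    rcases Nat.eq_zero_or_pos m with h | h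
    · rw [h, mul_zero] at hm
      exact absurd hm (Subgroup.index_ne_zero_of_finite)
    · exact h
  calc p * Nat.card (fixSub P n) ≤ p * Nat.card (fixSub P n) * m := Nat.le_mul_of_pos_right _ hm0
    _ = Nat.card (fixSub P n) * (fixSub P n).index := by rw [hm]; ring
    _ = Nat.card (P : Subgroup G) := hmul

/-- the map from `N_G(P)`-orbits on `P` to classes of `p`-elements -/
noncomputable def orbitToClass (P : Sylow p G) :
    orbitRel.Quotient (normalizer ((P : Subgroup G) : Set G)) (P : Subgroup G) → PClass p G :=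
  Quotient.lift (fun x : (P : Subgroup G) => (⟨ConjClasses.mk (x : G), pclass_mk_prop P x.2⟩ : PClass p G))
    (by
      intro a b hab
      change a ∈ MulAction.orbit _ b at hab
      obtain ⟨n, hn⟩ := hab
      apply Subtype.ext
      show ConjClasses.mk (a : G) = ConjClasses.mk (b : G)
      rw [ConjClasses.mk_eq_mk_iff_isConj, isConj_iff]
      refine ⟨(n : G)⁻¹, ?_⟩
      have h3 : (n : G) * b * (n : G)⁻¹ = a := congrArg Subtype.val hn
      rw [← h3]; group)

theorem orbitToClass_surjective (P : Sylow p G) : Function.Surjective (orbitToClass P) := by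
  intro c
  obtain ⟨x, hx, hxc⟩ := exists_mem_sylow P c
  refine ⟨Quotient.mk'' (⟨x, hx⟩ : (P : Subgroup G)), ?_⟩
  apply Subtype.ext
  exact hxc

theorem card_pclass_le_orbits (P : Sylow p G) :
    Nat.card (PClass p G) ≤
      Nat.card (orbitRel.Quotient (normalizer ((P : Subgroup G) : Set G)) (P : Subgroup G)) :=
  Nat.card_le_card_of_surjective _ (orbitToClass_surjective P)

theorem two_p_mul_orbits_le (P : Sylow p G)
    (hN : ¬ normalizer ((P : Subgroup G) : Set G) ≤ centralizer ((P : Subgroup G) : Set G)) :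
    2 * p * Nat.card (orbitRel.Quotient (normalizer ((P : Subgroup G) : Set G)) (P : Subgroup G)) ≤
      (p + 1) * Nat.card (P : Subgroup G) := by
  classical
  set N := normalizer ((P : Subgroup G) : Set G) with hNdef
  let _ : Fintype N := Fintype.ofFinite _
  let _ : Fintype (P : Subgroup G) := Fintype.ofFinite _
  let _ : Fintype (orbitRel.Quotient N (P : Subgroup G)) := Fintype.ofFinite _
  have hB := MulAction.sum_card_fixedBy_eq_card_orbits_mul_card_group N (P : Subgroup G)
  set s := Nat.card (P : Subgroup G) with hs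
  set w := Nat.card (orbitRel.Quotient N (P : Subgroup G)) with hw
  have hfix : ∀ n : N, Fintype.card (fixedBy (P : Subgroup G) n) = Nat.card (fixSub P n) := by
    intro n
    rw [← Nat.card_eq_fintype_card]
    rfl
  -- the centralizing part
  set C : Finset N := Finset.univ.filter (fun n : N => (n : G) ∈ centralizer ((P : Subgroup G) : Set G)) with hC
  set C' : Finset N := Finset.univ.filter (fun n : N => ¬ (n : G) ∈ centralizer ((P : Subgroup G) : Set G)) with hC'
  have hab : C.card + C'.card = Fintype.card N := by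
    rw [hC, hC']
    exact Finset.card_filter_add_card_filter_not (s := (Finset.univ : Finset N)) _ |>.trans (by simp)
  -- bound on the sum
  have hsum : ∑ n : N, p * Fintype.card (fixedBy (P : Subgroup G) n) ≤
      ∑ n : N, (if (n : G) ∈ centralizer ((P : Subgroup G) : Set G) then p * s else s) := by
    apply Finset.sum_le_sum
    intro n _
    rw [hfix n]
    split_ifs with h
    · apply Nat.mul_le_mul_left
      exact Nat.card_le_card_of_injective _ Subtype.val_injective
    · exact p_mul_card_fixSub_le P n h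
  have hsum2 : ∑ n : N, (if (n : G) ∈ centralizer ((P : Subgroup G) : Set G) then p * s else s) =
      C.card * (p * s) + C'.card * s := by
    rw [Finset.sum_ite, Finset.sum_const, Finset.sum_const, smul_eq_mul, smul_eq_mul]
  -- 2 |C| ≤ |N|
  have hCle : C.card ≤ C'.card := by
    have hsub : ((centralizer ((P : Subgroup G) : Set G)).subgroupOf N) ≠ ⊤ := by
      intro h
      apply hN
      rw [Subgroup.subgroupOf_eq_top] at h
      exact h
    have hidx : 2 ≤ ((centralizer ((P : Subgroup G) : Set G)).subgroupOf N).index := by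
      have h1 : ((centralizer ((P : Subgroup G) : Set G)).subgroupOf N).index ≠ 1 := by
        rw [Ne, Subgroup.index_eq_one]; exact hsub
      have h0 : ((centralizer ((P : Subgroup G) : Set G)).subgroupOf N).index ≠ 0 :=
        Subgroup.index_ne_zero_of_finite
      omega
    have hcard : Nat.card ((centralizer ((P : Subgroup G) : Set G)).subgroupOf N) = C.card := by
      rw [hC, ← Fintype.card_subtype, ← Nat.card_eq_fintype_card]
      rfl
    have hmul := ((centralizer ((P : Subgroup G) : Set G)).subgroupOf N).card_mul_index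
    rw [hcard, Nat.card_eq_fintype_card] at hmul
    have : C.card * 2 ≤ Fintype.card N := by
      rw [← hmul]; exact Nat.mul_le_mul_left _ hidx
    omega
  have hBsum : p * (w * Fintype.card N) ≤ C.card * (p * s) + C'.card * s := by
    rw [hw, Nat.card_eq_fintype_card, ← hB, Finset.mul_sum]
    exact hsum.trans hsum2.le
  have hNpos : 0 < Fintype.card N := Fintype.card_pos
  have hp1 : 1 ≤ p := hp.out.one_lt.le
  -- final arithmetic
  have key : (2 * p * w) * Fintype.card N ≤ ((p + 1) * s) * Fintype.card N := by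
    rw [← hab]
    obtain ⟨q, rfl⟩ : ∃ q, p = q + 1 := ⟨p - 1, by omega⟩
    obtain ⟨d, hd⟩ : ∃ d, C'.card = C.card + d := ⟨C'.card - C.card, by omega⟩
    rw [← hab, hd] at hBsum
    rw [hd]
    nlinarith [hBsum, Nat.zero_le (q * s * d)]
  exact Nat.le_of_mul_le_mul_right key hNpos

theorem two_p_mul_card_le (P : Sylow p G)
    (hN : ¬ normalizer ((P : Subgroup G) : Set G) ≤ centralizer ((P : Subgroup G) : Set G)) :
    2 * p * Nat.card (PClass p G) ≤ (p + 1) * Nat.card (P : Subgroup G) :=
  (Nat.mul_le_mul_left _ (card_pclass_le_orbits P)).trans (two_p_mul_orbits_le P hN)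

end Cfsg.Agent.Helper45.PCl
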