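import Mathlib
import Cfsg.Agent.Lib.Helper43.Tri.Rel

/-!
TRI (UF) for helper43's lemma server (row S0817): `Zb_le_imp_le`.
-/

set_option autoImplicit false
set_option linter.unusedSectionVars false
set_option linter.unusedVariables false

namespace Cfsg.Agent.Helper45.Tri

open Matrix QuadraticMap Cfsg.Agent.Helper13 Cfsg.Agent.Helper43 Cfsg.Agent.Helper5.OAut Module
open Cfsg.Agent.Helper43.Tri Cfsg.Agent.Helper43.OGam

variable {F : Type*} [Field F] [Fintype F] {ι : Type} [Fintype ι] [DecidableEq ι]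
  {Q : QuadraticForm F (ι → F)}

local infixr:73 " ⋆ " => act _

/-- on a totally singular subspace all polars vanish -/
theorem polar_eq_zero_of_ts (Y : Submodule F (ι → F)) (hY : ∀ y ∈ Y, Q y = 0) {y y' : ι → F}
    (hy : y ∈ Y) (hy' : y' ∈ Y) : polar (⇑Q) y y' = 0 := by
  unfold polar
  rw [hY _ (Y.add_mem hy hy'), hY _ hy, hY _ hy']
  simp

/-- elements of `Zrad Y` fix `Y` pointwise -/
theorem Zrad_fix (C : Ctx Q) (Y : Submodule F (ι → F)) (hY : ∀ y ∈ Y, Q y = 0)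
    {g : ↥(Cfsg.Omega F ⇑Q)} (hg : g ∈ Zrad Q Y) {x : ι → F} (hx : x ∈ Y) : g ⋆ x = x := by
  unfold Zrad at hg
  induction hg using Subgroup.closure_induction with
  | mem g hg =>
    obtain ⟨y, hy, y', hy', rfl⟩ := hg
    rw [E_act C (hY y hy) (polar_eq_zero_of_ts Y hY hy hy'),
      polar_eq_zero_of_ts Y hY hy hx, polar_eq_zero_of_ts Y hY hy' hx]
    simp
  | one => exact act_one x
  | mul a b _ _ ha hb => rw [act_mul, hb, ha]
  | inv a _ ha =>
    rw [act_inv_eq_iff, ha]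

theorem Zb_le_imp_le (C : Ctx Q) (Y Y' : Submodule F (ι → F)) (hY : ∀ y ∈ Y, Q y = 0)
    (hY' : ∀ y ∈ Y', Q y = 0)
    (hYY' : ∀ x : ι → F, (∀ y ∈ Y', polar (⇑Q) y x = 0) → x ∈ Y')
    (hd : 3 ≤ finrank F Y) (hd' : 3 ≤ finrank F Y') (h : Zb Q Y ≤ Zb Q Y') : Y ≤ Y' := by
  classical
  intro y₁ hy₁
  by_cases hy₁0 : y₁ = 0
  · rw [hy₁0]; exact Y'.zero_mem
  -- pick y₂ ∈ Y outside span {y₁}
  obtain ⟨y₂, hy₂, hy₂s⟩ : ∃ y₂ ∈ Y, y₂ ∉ Submodule.span F ({y₁} : Set (ι → F)) := by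
    by_contra hcon
    push Not at hcon
    have hle : Y ≤ Submodule.span F ({y₁} : Set (ι → F)) := fun y hy => hcon y hy
    have h1 := Submodule.finrank_mono hle
    have h2 : finrank F ↥(Submodule.span F ({y₁} : Set (ι → F))) = 1 :=
      finrank_span_singleton hy₁0
    omega
  -- independence
  have hind : ∀ a b : F, a • y₂ - b • y₁ = 0 → a = 0 ∧ b = 0 := by
    intro a b hab
    have ha : a = 0 := by
      by_contra ha
      apply hy₂s
      have : y₂ = (a⁻¹ * b) • y₁ := by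
        have h1 : a • y₂ = b • y₁ := sub_eq_zero.mp hab
        rw [mul_smul, ← h1, smul_smul, inv_mul_cancel₀ ha, one_smul]
      rw [this]
      exact Submodule.smul_mem _ _ (Submodule.mem_span_singleton_self y₁)
    refine ⟨ha, ?_⟩
    rw [ha, zero_smul, zero_sub, neg_eq_zero] at hab
    rcases smul_eq_zero.mp hab with h | h
    · exact h
    · exact absurd h hy₁0
  have hp12 : polar (⇑Q) y₁ y₂ = 0 := polar_eq_zero_of_ts Y hY hy₁ hy₂
  -- the Eichler element
  have hgZ : E Q y₁ y₂ ∈ Zrad Q Y := Subgroup.subset_closure ⟨y₁, hy₁, y₂, hy₂, rfl⟩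
  have hgb : prj Q (E Q y₁ y₂) ∈ Zb Q Y' := h (Subgroup.mem_map_of_mem _ hgZ)
  obtain ⟨z', hz', hzz⟩ := hgb
  have hzz' : prj Q z' = prj Q (E Q y₁ y₂) := hzz
  rw [prj_eq_iff] at hzz'
  obtain ⟨c, hc⟩ := C.hcen _ hzz'
  -- action on Y'
  have hkey : ∀ x ∈ Y', (c - 1) • x = polar (⇑Q) y₁ x • y₂ - polar (⇑Q) y₂ x • y₁ := by
    intro x hx
    have h1 : (z'⁻¹ * E Q y₁ y₂) ⋆ x = c • x := hc x
    rw [act_mul, act_inv_eq_iff, act_smul, Zrad_fix C Y' hY' hz' hx,
      E_act C (hY y₁ hy₁) hp12, hY y₂ hy₂, zero_mul, zero_smul, sub_zero] at h1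
    rw [sub_smul, one_smul, ← h1]
    abel
  have hc1 : c = 1 := by
    by_contra hc1
    have hne : c - 1 ≠ 0 := sub_ne_zero.mpr hc1
    have hle : Y' ≤ Submodule.span F (({y₁, y₂} : Finset (ι → F)) : Set (ι → F)) := by
      intro x hx
      have h1 := hkey x hx
      have h2 : x = (c - 1)⁻¹ • (polar (⇑Q) y₁ x • y₂ - polar (⇑Q) y₂ x • y₁) := by
        rw [← h1, smul_smul, inv_mul_cancel₀ hne, one_smul]
      rw [h2]
      apply Submodule.smul_mem
      apply Submodule.sub_mem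
      · exact Submodule.smul_mem _ _ (Submodule.subset_span (by simp))
      · exact Submodule.smul_mem _ _ (Submodule.subset_span (by simp))
    have h1 := Submodule.finrank_mono hle
    have h2 : finrank F ↥(Submodule.span F (({y₁, y₂} : Finset (ι → F)) : Set (ι → F))) ≤
        ({y₁, y₂} : Finset (ι → F)).card := finrank_span_finset_le_card (R := F) _
    have h3 : ({y₁, y₂} : Finset (ι → F)).card ≤ 2 := Finset.card_le_two
    omega
  apply hYY'
  intro y hy
  have h1 := hkey y hy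
  rw [hc1, sub_self, zero_smul] at h1
  have h2 := (hind _ _ h1.symm).1
  rw [polar_comm]
  exact h2

end Cfsg.Agent.Helper45.Tri
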