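import Mathlib
import Cfsg.Agent.Lib.Helper15.BGV.Core3
import Cfsg.Agent.Lib.Helper15.BGW.Ctx

/-!
# Two cases of BG 13.3 (= S1428): `r ∈ τ₂(H)` and `q ∈ τ₂(H)` (helper45, for helper15's assembly)
-/

set_option autoImplicit false
set_option linter.unusedSectionVars false
set_option linter.unusedVariables false

namespace Cfsg.Agent.Helper45.BG133x

open Cfsg Subgroup Cfsg.Agent.Helper52 Cfsg.Agent.Helper15.BGU Cfsg.Agent.Helper55.BGB
open Cfsg.Agent.Helper15.BGV Cfsg.Agent.Helper15.BGW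

variable {G : Type*} [Group G] [Finite G]

/-- S1417(e) packaged: an elementary abelian `s`-subgroup of order `s ^ 2` of `H` (`s ∈ τ₂(H)`)
lying in another maximal subgroup `L` forces `H_σ ∩ L = 1`; so no subgroup of prime order `p ∈ σ(H)`
lies in `H ∩ L`. -/
theorem tau2_kill (hG : IsMinSimpleOddOrder G) {H L : Subgroup G} (hH : IsCoatom H)
    (hL : IsCoatom L) (hLH : L ≠ H) {s p : ℕ} [hs : Fact s.Prime] [hp : Fact p.Prime]
    (hsH : s ∈ tau2 H) {A : Subgroup G} (hAH : A ≤ H) (hAe : IsElementaryAbelian s A)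
    (hAc : Nat.card A = s ^ 2) (hAL : A ≤ L) (hpH : p ∈ sigma H) {P : Subgroup G}
    (hP : Nat.card P = p) (hPH : P ≤ H) (hPL : P ≤ L) : False := by
  obtain ⟨-, -, -, -, he, -⟩ := Cfsg.Agent.S1417.result hG H hH s hsH A ⟨hAH, hAe, hAc⟩
  have hbot : sigmaCore H ⊓ L = ⊥ := he L hL hLH hAL
  have hPσ : P ≤ sigmaCore H :=
    le_sigmaCore_of_isPGroup hp.out (hallOf hG hH) hpH hPH (isPGroup_of_card_prime hP)
  have hPb : P ≤ ⊥ := hbot ▸ le_inf hPσ hPL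
  exact ne_bot_of_card_prime hP (le_bot_iff.mp hPb)

/-- If `N_G(T) ≤ H` for a nontrivial `q`-subgroup `T` of `M ∩ H` (`q ∈ σ(M)`, `H ≠ M`) and
`q ∉ σ(H)`, then `q ∈ τ₂(H)` and `M ∩ H` contains an elementary abelian subgroup of order `q ^ 2`. -/
theorem exists_elemAb_inf (hG : IsMinSimpleOddOrder G) {M H : Subgroup G} (hM : IsCoatom M)
    (hH : IsCoatom H) (hHM : H ≠ M) {q : ℕ} [hq : Fact q.Prime] (hqM : q ∈ sigma M)
    (hqH : q ∉ sigma H) {T : Subgroup G} (hTq : IsPGroup q T) (hT1 : T ≠ ⊥) (hTM : T ≤ M)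
    (hTH : T ≤ H) (hNH : normalizer (T : Set G) ≤ H) :
    q ∈ tau2 H ∧ ∃ Aq : Subgroup G, Aq ≤ M ∧ Aq ≤ H ∧ IsElementaryAbelian q Aq ∧
      Nat.card Aq = q ^ 2 := by
  obtain ⟨Sq, hTSq⟩ := exists_sylow_ge hTq (le_inf hTM hTH)
  obtain ⟨-, hNS, hnd⟩ :=
    Cfsg.Agent.S1424.result hG M hM q hqM T hTq hT1 hTM H hH hHM hNH Sq hTSq
  have hSq'MH : (Sq : Subgroup ↥(M ⊓ H)).map (M ⊓ H).subtype ≤ M ⊓ H := Subgroup.map_subtype_le _
  have hSq'q : IsPGroup q ((Sq : Subgroup ↥(M ⊓ H)).map (M ⊓ H).subtype) :=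
    isPGroup_of_card_sylCard q (card_sylow_map q (M ⊓ H) Sq)
  generalize (Sq : Subgroup ↥(M ⊓ H)).map (M ⊓ H).subtype = Sq' at hTSq hNS hnd hSq'MH hSq'q
  have hSq'M : Sq' ≤ M := hSq'MH.trans inf_le_left
  have hSq'H : Sq' ≤ H := hSq'MH.trans inf_le_right
  have hSq'c : Nat.card Sq' = sylCard q H := card_eq_sylCard_of_not_dvd_relIndex hSq'H hSq'q hnd
  have hqHd : q ∣ Nat.card H := dvd_card_of_le hTq hT1 hTH
  have hnc : ¬ IsCyclic ↥Sq' := by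
    intro hcyc
    apply hqH
    refine ⟨hq.out, hqHd, ?_⟩
    obtain ⟨P, hP⟩ := exists_sylow_of_card q H Sq' hSq'H hSq'c
    refine ⟨P, ?_⟩
    rw [hP]
    intro g hg
    apply hNH
    apply Cfsg.Agent.Helper52.mem_normalizer_of_map_conj_eq
    apply map_conj_eq_of_le_cyclic hcyc hTSq g
    calc T.map (MulAut.conj g).toMonoidHom ≤ Sq'.map (MulAut.conj g).toMonoidHom :=
          Subgroup.map_mono hTSq
      _ = Sq' := map_conj_eq_of_mem_normalizer hg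
  have hT1c : 1 < Nat.card T := by
    rcases Nat.lt_or_ge 1 (Nat.card T) with h | h
    · exact h
    · exfalso
      apply hT1
      apply Subgroup.card_eq_one.mp
      have : 0 < Nat.card T := Nat.card_pos
      omega
  have hq2 : q ≠ 2 := p_ne_two_of_odd hG.1 hTq hT1c
  obtain ⟨F, hFS, hFe, hFc⟩ :=
    Cfsg.Agent.Helper96.BGU.exists_elemAb_of_not_isCyclic hq2 Sq' hSq'q hnc
  rw [pow_one] at hFc
  obtain ⟨Aq, hAqF, hAqe, hAqc⟩ := exists_elemAb_sq hFe hFc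
  have hAqS : Aq ≤ Sq' := hAqF.trans hFS
  have hAqH : Aq ≤ H := hAqS.trans hSq'H
  have hAqM : Aq ≤ M := hAqS.trans hSq'M
  have hqq : q < q ^ 2 := by
    have := hq.out.one_lt
    nlinarith
  have hlt : q ^ 1 < Nat.card Aq := by rw [hAqc, pow_one]; exact hqq
  have h05 := Cfsg.Agent.S1405.result hG H hH
  have hτ2 : q ∈ tau2 H :=
    ⟨hq.out, hqH, prankLE_two_of_not_mem_sigma hq.out h05.1 h05.2.2.1 hqH,
      not_pRankLE_of_le hAqH hAqe hlt⟩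
  exact ⟨hτ2, Aq, hAqM, hAqH, hAqe, hAqc⟩

/-- The common endgame: an elementary abelian `s`-subgroup `A₁` of order `s ^ 2` of `H`
(`s ∈ τ₂(H)`) centralizes the nontrivial `q`-subgroup `T ≤ M ∩ H` (`q ∈ σ(M) ∖ σ(H)`), and a subgroup
`P ≤ H ∩ M` of prime order `p ∈ σ(H)` centralizes `T`. -/
theorem endgame (hG : IsMinSimpleOddOrder G) {M H : Subgroup G} (hM : IsCoatom M)
    (hH : IsCoatom H) (hHM : H ≠ M) {s p q : ℕ} [hs : Fact s.Prime] [hp : Fact p.Prime]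
    [hq : Fact q.Prime] (hsH : s ∈ tau2 H) (hpH : p ∈ sigma H) (hqM : q ∈ sigma M)
    (hqH : q ∉ sigma H) {A₁ P T : Subgroup G} (hA₁H : A₁ ≤ H) (hA₁e : IsElementaryAbelian s A₁)
    (hA₁c : Nat.card A₁ = s ^ 2) (hA₁T : A₁ ≤ centralizer (T : Set G)) (hP : Nat.card P = p)
    (hPH : P ≤ H) (hPM : P ≤ M) (hPT : P ≤ centralizer (T : Set G)) (hTq : IsPGroup q T)
    (hT1 : T ≠ ⊥) (hTM : T ≤ M) (hTH : T ≤ H) : False := by
  obtain ⟨L, hL, hNL⟩ := exists_coatom_ge (normalizer_ne_top_of_le_coatom hG hM hTM hT1)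
  have hCN : centralizer (T : Set G) ≤ L := (Subgroup.centralizer_le_normalizer _).trans hNL
  have hA₁L : A₁ ≤ L := hA₁T.trans hCN
  have hPL : P ≤ L := hPT.trans hCN
  by_cases hLH : L = H
  · subst hLH
    obtain ⟨hτ2, Aq, hAqM, hAqH, hAqe, hAqc⟩ :=
      exists_elemAb_inf hG hM hL hHM hqM hqH hTq hT1 hTM hTH hNL
    exact tau2_kill hG hL hM (Ne.symm hHM) hτ2 hAqH hAqe hAqc hAqM hpH hP hPH hPM
  · exact tau2_kill hG hH hL hLH hsH hA₁H hA₁e hA₁c hA₁L hpH hP hPH hPL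

/-- **Case `p ∈ σ(H)`, `r ∈ τ₂(H)`** of BG 13.3. -/
theorem case_r_tau2 (hG : IsMinSimpleOddOrder G) {M H E P R T : Subgroup G} {p q r : ℕ}
    [Fact p.Prime] [Fact q.Prime] [Fact r.Prime] (C : Ctx M H E p q r P R T)
    (hpH : p ∈ sigma H) (hrH : r ∈ tau2 H) : False := by
  by_cases hqH : q ∈ sigma H
  · exact tau2_sigma_false hG C.hM C.hH C.hnc hrH C.hqM hqH
  have hRr : IsPGroup r R := isPGroup_of_card_prime C.hR
  obtain ⟨A₁, hA₁H, hA₁e, hA₁c, hA₁T⟩ :=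
    exists_elemAb_centralizing hG C.hH (Ne.symm C.hqr) hrH hqH hRr C.hRH C.hT C.hTH C.hRT
  rw [C.hTR] at hA₁T
  exact endgame hG C.hM C.hH C.hHM hrH hpH C.hqM hqH hA₁H hA₁e hA₁c hA₁T C.hP C.hPH C.hPM
    C.hPT C.hT C.hT1 C.hTM C.hTH

/-- **Case `p ∈ σ(H)`, `q ∈ τ₂(H)`** of BG 13.3. -/
theorem case_q_tau2 (hG : IsMinSimpleOddOrder G) {M H E P R T : Subgroup G} {p q r : ℕ}
    [Fact p.Prime] [hq : Fact q.Prime] [Fact r.Prime] (C : Ctx M H E p q r P R T)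
    (hpH : p ∈ sigma H) (hqH : q ∈ tau2 H) : False := by
  have hqσ : q ∉ sigma H := hqH.2.1
  -- an elementary abelian subgroup of order `q ^ 2` inside a Sylow `q`-subgroup of `H` over `T`
  obtain ⟨F, hFH, hFe, hFc⟩ := exists_of_not_pRankLE hqH.2.2.2
  rw [pow_one] at hFc
  obtain ⟨A, hAF, hAe, hAc⟩ := exists_elemAb_sq hFe hFc
  have hAH : A ≤ H := hAF.trans hFH
  obtain ⟨P₁, hTP₁⟩ := exists_sylow_ge C.hT C.hTH
  have hP₁H : (P₁ : Subgroup ↥H).map H.subtype ≤ H := Subgroup.map_subtype_le _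
  obtain ⟨l, hl, hAl⟩ := exists_conj_le_sylow (isPGroup_of_isElementaryAbelian hAe) hAH hP₁H
    (card_sylow_map q H P₁)
  have hA₂e : IsElementaryAbelian q (A.map (MulAut.conj l).toMonoidHom) :=
    isElementaryAbelian_conj hAe l
  have hA₂c : Nat.card (A.map (MulAut.conj l).toMonoidHom) = q ^ 2 := by
    rw [card_conj]; exact hAc
  have hA₂H : A.map (MulAut.conj l).toMonoidHom ≤ H := hAl.trans hP₁H
  generalize A.map (MulAut.conj l).toMonoidHom = A₂ at hAl hA₂e hA₂c hA₂H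
  obtain ⟨-, hPab, -, -, -, -⟩ :=
    Cfsg.Agent.S1417.result hG H C.hH q hqH A₂ ⟨hA₂H, hA₂e, hA₂c⟩
  have hA₂T : A₂ ≤ centralizer (T : Set G) := by
    intro a ha
    rw [Subgroup.mem_centralizer_iff]
    intro t ht
    obtain ⟨t', ht', rfl⟩ := hTP₁ ht
    obtain ⟨a', ha', rfl⟩ := hAl ha
    have hc := (hPab P₁).1
    have h1 := hc.is_comm.comm (⟨t', ht'⟩ : ↥(P₁ : Subgroup ↥H)) ⟨a', ha'⟩
    have h2 := congrArg Subtype.val h1
    have h3 := congrArg Subtype.val h2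
    simpa using h3
  exact endgame hG C.hM C.hH C.hHM hqH hpH C.hqM hqσ hA₂H hA₂e hA₂c hA₂T C.hP C.hPH C.hPM
    C.hPT C.hT C.hT1 C.hTM C.hTH

end Cfsg.Agent.Helper45.BG133x
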