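import Mathlib

/-!
# A linear space with 16 points and lines of size 4 is an affine plane of order 4

If a group acts on such a space, the stabilizer of a parallel class has index at most 5.
-/

set_option autoImplicit false
set_option linter.unusedSectionVars false

open scoped Pointwise

namespace Cfsg.Agent.Helper45.Design16

section plane

variable {X : Type*} [Fintype X] [DecidableEq X] (L : Set (Finset X))

/-- The hypotheses: 16 points, lines of size 4, two points on exactly one line. -/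
def IsLin : Prop :=
  Fintype.card X = 16 ∧ (∀ ℓ ∈ L, ℓ.card = 4) ∧
  (∀ a b : X, a ≠ b → ∃ ℓ ∈ L, a ∈ ℓ ∧ b ∈ ℓ) ∧
  (∀ ℓ ∈ L, ∀ m ∈ L, ∀ a b : X, a ≠ b → a ∈ ℓ → b ∈ ℓ → a ∈ m → b ∈ m → ℓ = m)

open Classical in
/-- The lines through a point. -/
noncomputable def pencil (p : X) : Finset (Finset X) :=
  Finset.univ.filter (fun ℓ => ℓ ∈ L ∧ p ∈ ℓ)

theorem mem_pencil {p : X} {ℓ : Finset X} : ℓ ∈ pencil L p ↔ ℓ ∈ L ∧ p ∈ ℓ := by
  classical
  simp [pencil]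

variable {L}

theorem card_pencil (h : IsLin L) (p : X) : (pencil L p).card = 5 := by
  classical
  obtain ⟨hX, h4, hjoin, huniq⟩ := h
  have hU : (Finset.univ.erase p : Finset X) = (pencil L p).biUnion (fun ℓ => ℓ.erase p) := by
    ext q
    simp only [Finset.mem_erase, Finset.mem_univ, and_true, Finset.mem_biUnion, mem_pencil]
    constructor
    · intro hq
      obtain ⟨ℓ, hℓ, hp, hqℓ⟩ := hjoin p q (Ne.symm hq)
      exact ⟨ℓ, ⟨hℓ, hp⟩, hq, hqℓ⟩
    · rintro ⟨ℓ, _, hq, _⟩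
      exact hq
  have hcard : (Finset.univ.erase p : Finset X).card = 15 := by
    rw [Finset.card_erase_of_mem (Finset.mem_univ p), Finset.card_univ, hX]
  rw [hU, Finset.card_biUnion] at hcard
  · have h3 : ∀ ℓ ∈ pencil L p, (ℓ.erase p).card = 3 := by
      intro ℓ hℓ
      rw [mem_pencil] at hℓ
      rw [Finset.card_erase_of_mem hℓ.2, h4 ℓ hℓ.1]
    rw [Finset.sum_congr rfl h3, Finset.sum_const, smul_eq_mul] at hcard
    omega
  · intro ℓ hℓ m hm hne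
    rw [Finset.mem_coe, mem_pencil] at hℓ hm
    rw [Function.onFun, Finset.disjoint_left]
    intro q hq1 hq2
    rw [Finset.mem_erase] at hq1 hq2
    exact hne (huniq ℓ hℓ.1 m hm.1 p q (Ne.symm hq1.1) hℓ.2 hq1.2 hm.2 hq2.2)

theorem inter_card_le_one (h : IsLin L) {ℓ m : Finset X} (hℓ : ℓ ∈ L) (hm : m ∈ L) (hne : m ≠ ℓ) :
    (m ∩ ℓ).card ≤ 1 := by
  classical
  obtain ⟨hX, h4, hjoin, huniq⟩ := h
  rw [Finset.card_le_one]
  intro a ha b hb
  rw [Finset.mem_inter] at ha hb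
  by_contra hab
  exact hne (huniq m hm ℓ hℓ a b hab ha.1 hb.1 ha.2 hb.2)

theorem playfair (h : IsLin L) {ℓ : Finset X} (hℓ : ℓ ∈ L) {p : X} (hp : p ∉ ℓ) :
    ∃ m ∈ L, p ∈ m ∧ Disjoint m ℓ ∧ ∀ m' ∈ L, p ∈ m' → Disjoint m' ℓ → m' = m := by
  classical
  have h5 := card_pencil h p
  have hle : ∀ m ∈ pencil L p, (m ∩ ℓ).card ≤ 1 := by
    intro m hm
    rw [mem_pencil] at hm
    apply inter_card_le_one h hℓ hm.1
    rintro rfl
    exact hp hm.2
  obtain ⟨hX, h4, hjoin, huniq⟩ := h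
  have hU : ℓ = (pencil L p).biUnion (fun m => m ∩ ℓ) := by
    ext a
    simp only [Finset.mem_biUnion, mem_pencil, Finset.mem_inter]
    constructor
    · intro ha
      have hap : p ≠ a := by rintro rfl; exact hp ha
      obtain ⟨m, hm, hpm, ham⟩ := hjoin p a hap
      exact ⟨m, ⟨hm, hpm⟩, ham, ha⟩
    · rintro ⟨m, _, _, ha⟩
      exact ha
  have hcard : ℓ.card = 4 := h4 ℓ hℓ
  rw [hU, Finset.card_biUnion] at hcard
  swap
  · intro m hm m' hm' hne
    rw [Finset.mem_coe, mem_pencil] at hm hm'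
    rw [Function.onFun, Finset.disjoint_left]
    intro a ha1 ha2
    rw [Finset.mem_inter] at ha1 ha2
    have hap : p ≠ a := by rintro rfl; exact hp ha1.2
    exact hne (huniq m hm.1 m' hm'.1 p a hap hm.2 ha1.1 hm'.2 ha2.1)
  -- split the pencil
  have hsplit := Finset.card_filter_add_card_filter_not (s := pencil L p)
    (fun m => (m ∩ ℓ).card = 0)
  have hsum : ∑ m ∈ pencil L p, (m ∩ ℓ).card
      = ((pencil L p).filter (fun m => ¬ (m ∩ ℓ).card = 0)).card := by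
    rw [Finset.card_eq_sum_ones, Finset.sum_filter]
    apply Finset.sum_congr rfl
    intro m hm
    have := hle m hm
    by_cases h0 : (m ∩ ℓ).card = 0
    · simp [h0]
    · simp only [h0, not_false_eq_true, if_true]
      omega
  have hZ : ((pencil L p).filter (fun m => (m ∩ ℓ).card = 0)).card = 1 := by omega
  rw [Finset.card_eq_one] at hZ
  obtain ⟨m, hm⟩ := hZ
  have hmem : m ∈ (pencil L p).filter (fun m => (m ∩ ℓ).card = 0) := by
    rw [hm]; exact Finset.mem_singleton_self m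
  rw [Finset.mem_filter, mem_pencil, Finset.card_eq_zero, ← Finset.disjoint_iff_inter_eq_empty]
    at hmem
  refine ⟨m, hmem.1.1, hmem.1.2, hmem.2, ?_⟩
  intro m' hm'L hpm' hdis
  have : m' ∈ (pencil L p).filter (fun m => (m ∩ ℓ).card = 0) := by
    rw [Finset.mem_filter, mem_pencil, Finset.card_eq_zero,
      ← Finset.disjoint_iff_inter_eq_empty]
    exact ⟨⟨hm'L, hpm'⟩, hdis⟩
  rw [hm, Finset.mem_singleton] at this
  exact this

/-- Parallelism: equal or disjoint. -/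
def Par (ℓ m : Finset X) : Prop := ℓ = m ∨ Disjoint ℓ m

theorem Par.symm {ℓ m : Finset X} (h : Par ℓ m) : Par m ℓ := by
  rcases h with h | h
  · exact Or.inl h.symm
  · exact Or.inr h.symm

theorem par_trans (h : IsLin L) {ℓ m n : Finset X} (hℓ : ℓ ∈ L) (hm : m ∈ L) (hn : n ∈ L)
    (h1 : Par ℓ m) (h2 : Par m n) : Par ℓ n := by
  classical
  rcases h1 with rfl | h1
  · exact h2
  rcases h2 with rfl | h2
  · exact Or.inr h1
  by_cases hln : ℓ = n
  · exact Or.inl hln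
  right
  by_contra hnd
  rw [Finset.not_disjoint_iff] at hnd
  obtain ⟨p, hpℓ, hpn⟩ := hnd
  have hpm : p ∉ m := fun hpm => (Finset.disjoint_left.1 h1 hpℓ) hpm
  obtain ⟨m0, _, _, _, hu⟩ := playfair h hm hpm
  exact hln ((hu ℓ hℓ hpℓ h1).trans (hu n hn hpn h2.symm).symm)

/-- Through every point there is a unique line parallel to a given line. -/
theorem exists_par (h : IsLin L) {ℓ : Finset X} (hℓ : ℓ ∈ L) (p : X) :
    ∃ m ∈ L, p ∈ m ∧ Par m ℓ := by
  by_cases hp : p ∈ ℓ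
  · exact ⟨ℓ, hℓ, hp, Or.inl rfl⟩
  · obtain ⟨m, hm, hpm, hd, _⟩ := playfair h hℓ hp
    exact ⟨m, hm, hpm, Or.inr hd⟩

theorem par_unique (h : IsLin L) {ℓ m m' : Finset X} (hℓ : ℓ ∈ L) (hm : m ∈ L) (hm' : m' ∈ L)
    {p : X} (hp : p ∈ m) (hp' : p ∈ m') (h1 : Par m ℓ) (h2 : Par m' ℓ) : m = m' := by
  rcases par_trans h hm hℓ hm' h1 h2.symm with h3 | h3
  · exact h3
  · exact absurd hp' (Finset.disjoint_left.1 h3 hp)

end plane

section action

variable {G : Type*} {X : Type*} [Group G] [MulAction G X] [Fintype X] [DecidableEq X]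
  {L : Set (Finset X)}

theorem disjoint_smul_iff (g : G) (ℓ m : Finset X) : Disjoint (g • ℓ) (g • m) ↔ Disjoint ℓ m := by
  rw [Finset.disjoint_iff_inter_eq_empty, Finset.disjoint_iff_inter_eq_empty,
    ← Finset.smul_finset_inter, Finset.smul_finset_eq_empty]

theorem par_smul_iff (g : G) (ℓ m : Finset X) : Par (g • ℓ) (g • m) ↔ Par ℓ m := by
  unfold Par
  rw [disjoint_smul_iff, smul_left_cancel_iff]

/-- The stabilizer of the parallel class of `ℓ0`. -/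
def parStab (h : IsLin L) (hinv : ∀ g : G, ∀ ℓ ∈ L, g • ℓ ∈ L) (ℓ0 : Finset X) (hℓ0 : ℓ0 ∈ L) :
    Subgroup G where
  carrier := {g | Par (g • ℓ0) ℓ0}
  one_mem' := by
    change Par ((1 : G) • ℓ0) ℓ0
    rw [one_smul]
    exact Or.inl rfl
  mul_mem' := by
    intro a b ha hb
    change Par ((a * b) • ℓ0) ℓ0
    rw [mul_smul]
    have h1 : Par (a • b • ℓ0) (a • ℓ0) := (par_smul_iff a _ _).2 hb
    exact par_trans h (hinv a _ (hinv b _ hℓ0)) (hinv a _ hℓ0) hℓ0 h1 ha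
  inv_mem' := by
    intro a ha
    change Par (a⁻¹ • ℓ0) ℓ0
    have h1 : Par (a⁻¹ • a • ℓ0) (a⁻¹ • ℓ0) := (par_smul_iff a⁻¹ _ _).2 ha
    rw [inv_smul_smul] at h1
    exact h1.symm

theorem mem_parStab (h : IsLin L) (hinv : ∀ g : G, ∀ ℓ ∈ L, g • ℓ ∈ L) (ℓ0 : Finset X)
    (hℓ0 : ℓ0 ∈ L) (g : G) : g ∈ parStab h hinv ℓ0 hℓ0 ↔ (g • ℓ0 = ℓ0 ∨ Disjoint (g • ℓ0) ℓ0) :=
  Iff.rfl

theorem parStab_index (h : IsLin L) (hinv : ∀ g : G, ∀ ℓ ∈ L, g • ℓ ∈ L) (ℓ0 : Finset X)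
    (hℓ0 : ℓ0 ∈ L) : (parStab h hinv ℓ0 hℓ0).index ≠ 0 ∧ (parStab h hinv ℓ0 hℓ0).index ≤ 5 := by
  classical
  have hne : ℓ0.Nonempty := by
    rw [← Finset.card_pos, h.2.1 ℓ0 hℓ0]; norm_num
  obtain ⟨α, hα⟩ := hne
  set K := parStab h hinv ℓ0 hℓ0 with hK
  have hex : ∀ g : G, ∃ m ∈ L, α ∈ m ∧ Par m (g • ℓ0) := fun g => exists_par h (hinv g _ hℓ0) α
  choose F hFL hFα hFp using hex
  let f : G ⧸ K → ↥(pencil L α) := fun q => ⟨F q.out, (mem_pencil L).2 ⟨hFL _, hFα _⟩⟩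
  have hf : Function.Injective f := by
    intro q q' hqq
    have h1 : F q.out = F q'.out := congrArg Subtype.val hqq
    have h2 : Par (q.out • ℓ0) (q'.out • ℓ0) := by
      have ha := (hFp q.out).symm
      have hb := hFp q'.out
      rw [← h1] at hb
      exact par_trans h (hinv _ _ hℓ0) (hFL _) (hinv _ _ hℓ0) ha hb
    have h3 : Par ((q'.out⁻¹ * q.out) • ℓ0) ℓ0 := by
      have := (par_smul_iff q'.out⁻¹ _ _).2 h2
      rwa [inv_smul_smul, ← mul_smul] at this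
    have h4 : (q'.out : G ⧸ K) = (q.out : G ⧸ K) := QuotientGroup.eq.2 h3
    rw [QuotientGroup.out_eq', QuotientGroup.out_eq'] at h4
    exact h4.symm
  have hfin : Finite (G ⧸ K) := Finite.of_injective f hf
  have hle := Nat.card_le_card_of_injective f hf
  have h5 : Nat.card ↥(pencil L α) = 5 := by
    rw [Nat.card_eq_fintype_card, Fintype.card_coe, card_pencil h α]
  rw [h5] at hle
  exact ⟨Subgroup.index_ne_zero_of_finite, hle⟩

/-- **Main statement.** A group acting on a linear space with 16 points and lines of size 4 has a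
subgroup of index at most 5: the stabilizer of the parallel class of a line `ℓ0`. -/
theorem exists_subgroup_index_le_five (hX : Fintype.card X = 16) (h4 : ∀ ℓ ∈ L, ℓ.card = 4)
    (hjoin : ∀ a b : X, a ≠ b → ∃ ℓ ∈ L, a ∈ ℓ ∧ b ∈ ℓ)
    (huniq : ∀ ℓ ∈ L, ∀ m ∈ L, ∀ a b : X, a ≠ b → a ∈ ℓ → b ∈ ℓ → a ∈ m → b ∈ m → ℓ = m)
    (hinv : ∀ g : G, ∀ ℓ ∈ L, g • ℓ ∈ L) (ℓ0 : Finset X) (hℓ0 : ℓ0 ∈ L) :
    ∃ K : Subgroup G, K.index ≠ 0 ∧ K.index ≤ 5 ∧
      ∀ g : G, g ∈ K ↔ (g • ℓ0 = ℓ0 ∨ Disjoint (g • ℓ0) ℓ0) :=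
  have h : IsLin L := ⟨hX, h4, hjoin, huniq⟩
  ⟨parStab h hinv ℓ0 hℓ0, (parStab_index h hinv ℓ0 hℓ0).1, (parStab_index h hinv ℓ0 hℓ0).2,
    mem_parStab h hinv ℓ0 hℓ0⟩

end action

section setversion

variable {G : Type*} {X : Type*} [Group G] [MulAction G X] [Finite X]

/-- The same statement for lines given as `Set X` (with `Set.ncard`), images written with `''`. -/
theorem exists_subgroup_index_le_five_set (hX : Nat.card X = 16) (L : Set (Set X))
    (hL4 : ∀ l ∈ L, l.ncard = 4) (hinv : ∀ (g : G), ∀ l ∈ L, (fun a => g • a) '' l ∈ L)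
    (huniq : ∀ a b : X, a ≠ b → ∃! l, l ∈ L ∧ a ∈ l ∧ b ∈ l) (l0 : Set X) (hl0 : l0 ∈ L) :
    ∃ K : Subgroup G, K.index ≠ 0 ∧ K.index ≤ 5 ∧
      ∀ g : G, g ∈ K ↔ ((fun a => g • a) '' l0 = l0 ∨ Disjoint ((fun a => g • a) '' l0) l0) := by
  classical
  have : Fintype X := Fintype.ofFinite X
  let L' : Set (Finset X) := {s | (s : Set X) ∈ L}
  have hcoe : ∀ l : Set X, ∃ s : Finset X, (s : Set X) = l := fun l =>
    ⟨l.toFinite.toFinset, Set.Finite.coe_toFinset _⟩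
  obtain ⟨s0, hs0⟩ := hcoe l0
  have hsm : ∀ (g : G) (s : Finset X), ((g • s : Finset X) : Set X) = (fun a => g • a) '' (s : Set X) := by
    intro g s
    rw [Finset.coe_smul_finset, Set.image_smul]
  have hX' : Fintype.card X = 16 := by rw [← Nat.card_eq_fintype_card]; exact hX
  have h4 : ∀ ℓ ∈ L', ℓ.card = 4 := by
    intro ℓ hℓ
    rw [← Set.ncard_coe_finset]
    exact hL4 _ hℓ
  have hjoin : ∀ a b : X, a ≠ b → ∃ ℓ ∈ L', a ∈ ℓ ∧ b ∈ ℓ := by
    intro a b hab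
    obtain ⟨l, ⟨hl, ha, hb⟩, _⟩ := huniq a b hab
    obtain ⟨s, rfl⟩ := hcoe l
    exact ⟨s, hl, Finset.mem_coe.1 ha, Finset.mem_coe.1 hb⟩
  have huniq' : ∀ ℓ ∈ L', ∀ m ∈ L', ∀ a b : X, a ≠ b → a ∈ ℓ → b ∈ ℓ → a ∈ m → b ∈ m → ℓ = m := by
    intro ℓ hℓ m hm a b hab ha hb ha' hb'
    obtain ⟨l, _, hu⟩ := huniq a b hab
    have h1 := hu (ℓ : Set X) ⟨hℓ, Finset.mem_coe.2 ha, Finset.mem_coe.2 hb⟩
    have h2 := hu (m : Set X) ⟨hm, Finset.mem_coe.2 ha', Finset.mem_coe.2 hb'⟩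
    exact Finset.coe_injective (h1.trans h2.symm)
  have hinv' : ∀ g : G, ∀ ℓ ∈ L', g • ℓ ∈ L' := by
    intro g ℓ hℓ
    change ((g • ℓ : Finset X) : Set X) ∈ L
    rw [hsm]
    exact hinv g _ hℓ
  have hs0L : s0 ∈ L' := by
    change (s0 : Set X) ∈ L
    rw [hs0]; exact hl0
  obtain ⟨K, hK0, hK5, hKmem⟩ :=
    exists_subgroup_index_le_five hX' h4 hjoin huniq' hinv' s0 hs0L
  refine ⟨K, hK0, hK5, ?_⟩
  intro g
  rw [hKmem g, ← hs0, ← hsm, Finset.coe_inj, Finset.disjoint_coe]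

end setversion

end Cfsg.Agent.Helper45.Design16
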