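import Mathlib
import Cfsg.Agent.Lib.Helper52.FLDefs
import Cfsg.Agent.Lib.Helper52.Coprime
import Cfsg.Agent.Lib.Helper9.WielandtBasic
import Cfsg.Agent.Lib.Helper97.FXDefs

/-!
# FL server (helper52, S3822): piece (DNOR) `D_normal`, by helper45
-/

set_option autoImplicit false

namespace Cfsg.Agent.Helper45.FL

open Cfsg.Agent.Helper52.FL Cfsg.Agent.Helper97.FX

variable {G : Type*} [Group G] [Finite G]

section CTX
variable {A Q V : Subgroup G} {r s : ℕ} [Fact r.Prime] [Fact s.Prime]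

theorem mem_Dsub_iff {d : G} :
    d ∈ Dsub Q V ↔ d ∈ V ∧ d ∈ Subgroup.centralizer (Q : Set G) := by
  unfold Dsub
  exact Subgroup.mem_inf

/-- a subgroup closed under conjugation by the elements of `A` is normalised by `A`. -/
theorem le_normalizer_of_conj_mem {A W : Subgroup G}
    (key : ∀ b ∈ A, ∀ d ∈ W, b * d * b⁻¹ ∈ W) : A ≤ Subgroup.normalizer (W : Set G) := by
  intro a ha
  rw [Subgroup.mem_normalizer_iff]
  intro d
  constructor
  · exact key a ha d
  · intro hd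
    have := key a⁻¹ (inv_mem ha) _ hd
    have e : a⁻¹ * (a * d * a⁻¹) * a⁻¹⁻¹ = d := by group
    rwa [e] at this

/-- `A` normalises `D = C_V(Q)`. -/
theorem A_le_normalizer_Dsub (h : Ctx A Q V r s) :
    A ≤ Subgroup.normalizer (Dsub Q V : Set G) := by
  apply le_normalizer_of_conj_mem
  intro b hb d hd
  rw [mem_Dsub_iff] at hd ⊢
  obtain ⟨hdV, hdC⟩ := hd
  refine ⟨(Subgroup.mem_normalizer_iff.mp (h.hAV hb) d).mp hdV, ?_⟩
  rw [Subgroup.mem_centralizer_iff] at hdC ⊢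
  intro q hq
  have hq' : b⁻¹ * q * b⁻¹⁻¹ ∈ Q :=
    (Subgroup.mem_normalizer_iff.mp (h.hAQ (inv_mem hb)) q).mp hq
  have hc := hdC _ hq'
  have e1 : q * (b * d * b⁻¹) = b * ((b⁻¹ * q * b⁻¹⁻¹) * d) * b⁻¹ := by group
  have e2 : b * d * b⁻¹ * q = b * (d * (b⁻¹ * q * b⁻¹⁻¹)) * b⁻¹ := by group
  rw [e1, e2, hc]

/-- **(DNOR) [S-M]** `normalizerCondition_of_isNilpotent` inside `↥V` (an `r`-group is nilpotent), the normaliser of `D` in `V` is `A`-invariant. -/
theorem D_normal (h : Ctx A Q V r s) : V ≤ Subgroup.normalizer (Dsub Q V : Set G) := by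
  by_contra hcon
  have hAD := A_le_normalizer_Dsub h
  have hDV : Dsub Q V ≤ V := fun d hd => (mem_Dsub_iff.mp hd).1
  have hDne : Dsub Q V ≠ V := by
    intro e
    apply h.hnc
    intro v hv
    rw [← e] at hv
    exact (mem_Dsub_iff.mp hv).2
  -- `N = N_V(D)`
  obtain ⟨N, hN⟩ : ∃ N : Subgroup G, N = V ⊓ Subgroup.normalizer (Dsub Q V : Set G) := ⟨_, rfl⟩
  have hmemN : ∀ n, n ∈ N ↔ n ∈ V ∧ n ∈ Subgroup.normalizer (Dsub Q V : Set G) := by
    intro n; rw [hN]; exact Subgroup.mem_inf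
  have hNV : N ≤ V := fun n hn => ((hmemN n).mp hn).1
  have hNne : N ≠ V := by
    intro e
    apply hcon
    intro v hv
    rw [← e] at hv
    exact ((hmemN v).mp hv).2
  have hAN : A ≤ Subgroup.normalizer (N : Set G) := by
    apply le_normalizer_of_conj_mem
    intro b hb n hn
    rw [hmemN] at hn ⊢
    refine ⟨(Subgroup.mem_normalizer_iff.mp (h.hAV hb) n).mp hn.1, ?_⟩
    exact mul_mem (mul_mem (hAD hb) hn.2) (inv_mem (hAD hb))
  have hNC := h.hmin _ hNV hNne hAN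
  have hND : N ≤ Dsub Q V := fun n hn => mem_Dsub_iff.mpr ⟨hNV hn, hNC hn⟩
  -- normaliser condition in `↥V`
  have hnil : Group.IsNilpotent ↥V := h.hV.isNilpotent
  have hnc : NormalizerCondition ↥V := Group.normalizerCondition_of_isNilpotent
  have hlt : (Dsub Q V).subgroupOf V < ⊤ := by
    rw [lt_top_iff_ne_top]
    intro e
    rw [Subgroup.subgroupOf_eq_top] at e
    exact hDne (le_antisymm hDV e)
  have hlt2 := hnc _ hlt
  obtain ⟨x, hxN, hxD⟩ := SetLike.exists_of_lt hlt2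
  apply hxD
  rw [Subgroup.mem_subgroupOf]
  apply hND
  rw [hmemN]
  refine ⟨x.2, ?_⟩
  rw [Subgroup.mem_normalizer_iff] at hxN ⊢
  intro d
  constructor
  · intro hd
    have h1 := (hxN ⟨d, hDV hd⟩).mp (by rw [Subgroup.mem_subgroupOf]; exact hd)
    rw [Subgroup.mem_subgroupOf] at h1
    simpa using h1
  · intro hd
    have hdV : d ∈ V := by
      have h2 : (x : G)⁻¹ * ((x : G) * d * (x : G)⁻¹) * (x : G) ∈ V :=
        mul_mem (mul_mem (inv_mem x.2) (hDV hd)) x.2
      have e : (x : G)⁻¹ * ((x : G) * d * (x : G)⁻¹) * (x : G) = d := by group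
      rwa [e] at h2
    have h1 := (hxN ⟨d, hdV⟩).mpr (by rw [Subgroup.mem_subgroupOf]; simpa using hd)
    rw [Subgroup.mem_subgroupOf] at h1
    exact h1

end CTX

end Cfsg.Agent.Helper45.FL
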