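import Mathlib
import Cfsg.Agent.Lib.Helper52.FLDefs
import Cfsg.Agent.Lib.Helper52.Coprime
import Cfsg.Agent.Lib.Helper9.WielandtBasic
import Cfsg.Agent.Lib.Helper97.FXDefs

/-!
# FL server (helper52, S3822): piece (GENV) `gen_sup_V`, by helper45
-/

set_option autoImplicit false

namespace Cfsg.Agent.Helper45.FL

open Cfsg.Agent.Helper52.FL Cfsg.Agent.Helper97.FX

variable {G : Type*} [Group G] [Finite G]

section CTX
variable {A Q V : Subgroup G} {r s : ℕ} [Fact r.Prime] [Fact s.Prime]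

/-- **(GENV) [S-M]** `a y a⁻¹ = v⁻¹ z v = z·(z⁻¹ v⁻¹ z v)` with `z = (va) y (va)⁻¹`. Only `A ≤ N(V)` is used. -/
theorem gen_sup_V (hAV : A ≤ Subgroup.normalizer (V : Set G)) (P : Subgroup G) (a : G) (ha : a ∈ A)
    (hgen : A = P ⊔ cj a P) (v : G) (hv : v ∈ V) : (P ⊔ cj (v * a) P) ⊔ V = A ⊔ V := by
  have hPA : P ≤ A := by rw [hgen]; exact le_sup_left
  have hcA : cj a P ≤ A := by rw [hgen]; exact le_sup_right
  apply le_antisymm
  · refine sup_le (sup_le (hPA.trans le_sup_left) ?_) le_sup_right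
    intro x hx
    rw [mem_cj] at hx
    have hvAV : v ∈ A ⊔ V := (le_sup_right : V ≤ A ⊔ V) hv
    have h1 : a * ((v * a)⁻¹ * x * (v * a)) * a⁻¹ ∈ A := by
      apply hcA
      rw [mem_cj]
      have e : a⁻¹ * (a * ((v * a)⁻¹ * x * (v * a)) * a⁻¹) * a = (v * a)⁻¹ * x * (v * a) := by
        group
      rw [e]; exact hx
    have h2 : a * ((v * a)⁻¹ * x * (v * a)) * a⁻¹ ∈ A ⊔ V := (le_sup_left : A ≤ A ⊔ V) h1
    have e : x = v * (a * ((v * a)⁻¹ * x * (v * a)) * a⁻¹) * v⁻¹ := by group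
    rw [e]
    exact mul_mem (mul_mem hvAV h2) (inv_mem hvAV)
  · refine sup_le ?_ le_sup_right
    rw [hgen]
    refine sup_le (le_sup_left.trans le_sup_left) ?_
    intro x hx
    rw [mem_cj] at hx
    have hvL : v ∈ (P ⊔ cj (v * a) P) ⊔ V := (le_sup_right : V ≤ (P ⊔ cj (v * a) P) ⊔ V) hv
    have h1 : v * x * v⁻¹ ∈ cj (v * a) P := by
      rw [mem_cj]
      have e : (v * a)⁻¹ * (v * x * v⁻¹) * (v * a) = a⁻¹ * x * a := by group
      rw [e]; exact hx
    have h2 : v * x * v⁻¹ ∈ (P ⊔ cj (v * a) P) ⊔ V :=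
      (le_sup_left : (P ⊔ cj (v * a) P) ≤ _) ((le_sup_right : cj (v * a) P ≤ _) h1)
    have e : x = v⁻¹ * (v * x * v⁻¹) * v := by group
    rw [e]
    exact mul_mem (mul_mem (inv_mem hvL) h2) hvL

end CTX

end Cfsg.Agent.Helper45.FL
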