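import Mathlib
import Cfsg.Agent.Lib.Helper52.FLDefs
import Cfsg.Agent.Lib.Helper52.Coprime
import Cfsg.Agent.Lib.Helper9.WielandtBasic
import Cfsg.Agent.Lib.Helper97.FXDefs

/-!
# FL server (helper52, S3822): piece (S1C) `card_S1_conj`, by helper45
-/

set_option autoImplicit false

namespace Cfsg.Agent.Helper45.FL

open Cfsg.Agent.Helper52.FL Cfsg.Agent.Helper97.FX

variable {G : Type*} [Group G] [Finite G]

section GEN

/-- conjugation by `a` maps `S1 P V D` into `S1 (cj a P) V D`, when `a` normalises `V` and `D`. -/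
theorem conj_mem_S1 (P V D : Subgroup G) (a : G) (haV : a ∈ Subgroup.normalizer (V : Set G))
    (haD : a ∈ Subgroup.normalizer (D : Set G)) {w : G} (hw : w ∈ S1 P V D) :
    a * w * a⁻¹ ∈ S1 (cj a P) V D := by
  obtain ⟨hwV, hwP⟩ := hw
  refine ⟨(Subgroup.mem_normalizer_iff.mp haV w).mp hwV, ?_⟩
  intro y hy
  rw [mem_cj] at hy
  have h1 := hwP _ hy
  have h2 := (Subgroup.mem_normalizer_iff.mp haD _).mp h1
  have e : a * (a⁻¹ * y * a * w * (a⁻¹ * y * a)⁻¹ * w⁻¹) * a⁻¹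
      = y * (a * w * a⁻¹) * y⁻¹ * (a * w * a⁻¹)⁻¹ := by group
  rw [e] at h2
  exact h2

/-- the converse direction. -/
theorem conj_inv_mem_S1 (P V D : Subgroup G) (a : G) (haV : a ∈ Subgroup.normalizer (V : Set G))
    (haD : a ∈ Subgroup.normalizer (D : Set G)) {w : G} (hw : w ∈ S1 (cj a P) V D) :
    a⁻¹ * w * a ∈ S1 P V D := by
  obtain ⟨hwV, hwP⟩ := hw
  have haV' : a⁻¹ ∈ Subgroup.normalizer (V : Set G) := inv_mem haV
  have haD' : a⁻¹ ∈ Subgroup.normalizer (D : Set G) := inv_mem haD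
  refine ⟨by simpa using (Subgroup.mem_normalizer_iff.mp haV' w).mp hwV, ?_⟩
  intro y hy
  have hy' : a * y * a⁻¹ ∈ cj a P := by
    rw [mem_cj]
    have e : a⁻¹ * (a * y * a⁻¹) * a = y := by group
    rw [e]; exact hy
  have h1 := hwP _ hy'
  have h2 := (Subgroup.mem_normalizer_iff.mp haD' _).mp h1
  have e : a⁻¹ * (a * y * a⁻¹ * w * (a * y * a⁻¹)⁻¹ * w⁻¹) * a⁻¹⁻¹
      = y * (a⁻¹ * w * a) * y⁻¹ * (a⁻¹ * w * a)⁻¹ := by group
  rw [e] at h2
  exact h2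

/-- **(S1C) [S-M]** bijection `w ↦ a w a⁻¹`. -/
theorem card_S1_conj (P V D : Subgroup G) (a : G) (haV : a ∈ Subgroup.normalizer (V : Set G))
    (haD : a ∈ Subgroup.normalizer (D : Set G)) :
    Nat.card (S1 (cj a P) V D) = Nat.card (S1 P V D) := by
  symm
  refine Nat.card_congr ⟨fun w => ⟨a * w.1 * a⁻¹, conj_mem_S1 P V D a haV haD w.2⟩,
    fun w => ⟨a⁻¹ * w.1 * a, conj_inv_mem_S1 P V D a haV haD w.2⟩, ?_, ?_⟩
  · intro w
    apply Subtype.ext
    show a⁻¹ * (a * w.1 * a⁻¹) * a = w.1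
    group
  · intro w
    apply Subtype.ext
    show a * (a⁻¹ * w.1 * a) * a⁻¹ = w.1
    group

end GEN

end Cfsg.Agent.Helper45.FL
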