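import Mathlib

/-!
# GS4 server (helper87, S2608): piece (K) `core_facts`, by helper45
-/

set_option autoImplicit false

namespace Cfsg.Agent.Helper45.GS4

theorem h45_mem_normalCore {G : Type*} [Group G] (H : Subgroup G) (a : G) :
    a ∈ H.normalCore ↔ ∀ b : G, b * a * b⁻¹ ∈ H := Iff.rfl

/-- (K) the core of `H`. -/
theorem core_facts {G : Type*} [Group G] [Finite G] (f : ℕ) (hf : 1 ≤ f)
    (hG : Nat.card G = 24 * f) (H N : Subgroup G) (hHidx : H.index = 3) (hNH : N ≤ H)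
    (hN8 : Nat.card N = 8) (c : G) (hcz : ∀ g : G, c * g = g * c) (hcH : c ∈ H)
    (hcf : c ^ f = 1) (hHgen : ∀ h ∈ H, ∃ i : ℕ, h * c ^ i ∈ N)
    (r : G) (hr : r ∈ N) (hrK : ∃ g : G, g * r * g⁻¹ ∉ H) :
    ∃ K : Subgroup G, K.Normal ∧ K ≤ H ∧ K.index = 6 ∧ Nat.card K = 4 * f ∧ c ∈ K ∧ r ∉ K ∧
      (∀ a ∈ K, ∀ b ∈ K, a * b = b * a) ∧
      (∀ a ∈ N, ∀ b ∈ N, a * b * a⁻¹ * b⁻¹ ∈ K) ∧
      (∀ k ∈ K, ∃ v ∈ K, ∃ i : ℕ, k = v * c ^ i ∧ v ^ 4 = 1) := by
  classical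
  obtain ⟨K, hKdef⟩ : ∃ K : Subgroup G, K = H.normalCore := ⟨_, rfl⟩
  have hKn : K.Normal := by rw [hKdef]; exact Subgroup.normalCore_normal H
  have hKH : K ≤ H := by rw [hKdef]; exact Subgroup.normalCore_le H
  have hcK : c ∈ K := by
    rw [hKdef, h45_mem_normalCore]
    intro b
    have e : b * c * b⁻¹ = c := by rw [← hcz b]; group
    rw [e]; exact hcH
  have hrK' : r ∉ K := by
    intro h
    obtain ⟨g, hg⟩ := hrK
    exact hg (hKH (hKn.conj_mem r h g))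
  -- the index of `K`
  have hdvd6 : K.index ∣ 6 := by
    rw [hKdef, Subgroup.normalCore_eq_ker, Subgroup.index_ker]
    have h1 : Nat.card (MulAction.toPermHom G (G ⧸ H)).range ∣ Nat.card (Equiv.Perm (G ⧸ H)) :=
      Subgroup.card_subgroup_dvd_card _
    have h2 : Nat.card (Equiv.Perm (G ⧸ H)) = 6 := by
      rw [Nat.card_perm, ← Subgroup.index_eq_card, hHidx]
      rfl
    rwa [h2] at h1
  have h3dvd : 3 ∣ K.index := by
    have := Subgroup.index_dvd_of_le hKH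
    rwa [hHidx] at this
  have hrel := Subgroup.relIndex_mul_index hKH
  rw [hHidx] at hrel
  have hidx : K.index = 6 := by
    have hle : K.index ≤ 6 := Nat.le_of_dvd (by norm_num) hdvd6
    obtain ⟨m, hm⟩ := h3dvd
    have hm2 : m = 1 ∨ m = 2 := by
      have hm0 : m ≠ 0 := by
        intro h0
        rw [h0] at hm
        rw [hm] at hdvd6
        simp at hdvd6
      omega
    rcases hm2 with h1 | h2
    · exfalso
      rw [h1] at hm
      rw [hm] at hrel
      have h1' : K.relIndex H = 1 := by omega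
      rw [Subgroup.relIndex_eq_one] at h1'
      exact hrK' (h1' (hNH hr))
    · rw [hm, h2]
  have hrelH : K.relIndex H = 2 := by
    rw [hidx] at hrel
    omega
  have hKcard : Nat.card K = 4 * f := by
    have := Subgroup.card_mul_index K
    rw [hidx, hG] at this
    omega
  -- commutators of `H` lie in `K`
  have hcomm : ∀ a ∈ H, ∀ b ∈ H, a * b * a⁻¹ * b⁻¹ ∈ K := by
    intro a ha b hb
    have hi2 : (K.subgroupOf H).index = 2 := hrelH
    have key : ∀ x y : ↥H, x * y ∈ K.subgroupOf H ↔ (x ∈ K.subgroupOf H ↔ y ∈ K.subgroupOf H) :=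
      fun x y => Subgroup.mul_mem_iff_of_index_two hi2
    have h1 : (⟨a, ha⟩ * ⟨b, hb⟩ : ↥H) * ((⟨a, ha⟩ : ↥H)⁻¹ * (⟨b, hb⟩ : ↥H)⁻¹) ∈ K.subgroupOf H := by
      rw [key, key, key, inv_mem_iff, inv_mem_iff]
    rw [Subgroup.mem_subgroupOf] at h1
    have e : ((⟨a, ha⟩ * ⟨b, hb⟩ : ↥H) * ((⟨a, ha⟩ : ↥H)⁻¹ * (⟨b, hb⟩ : ↥H)⁻¹) : ↥H).1
        = a * b * a⁻¹ * b⁻¹ := by
      simp [mul_assoc]
    rwa [e] at h1
  -- `V₀ = K ⊓ N` as a subgroup of `N`
  have hrelN : K.relIndex N = 2 := by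
    have h1 : (K.subgroupOf H).relIndex (N.subgroupOf H) ∣ (K.subgroupOf H).index :=
      Subgroup.relIndex_dvd_index_of_normal _ _
    rw [Subgroup.relIndex_subgroupOf hNH] at h1
    have h2 : (K.subgroupOf H).index = 2 := hrelH
    rw [h2] at h1
    have h3 : K.relIndex N ≠ 1 := by
      intro h
      rw [Subgroup.relIndex_eq_one] at h
      exact hrK' (h hr)
    have h4 : K.relIndex N ≤ 2 := Nat.le_of_dvd (by norm_num) h1
    have h5 : K.relIndex N ≠ 0 := by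
      intro h0
      rw [h0] at h1
      simp at h1
    omega
  have hV0card : Nat.card (K.subgroupOf N) = 4 := by
    have := Subgroup.card_mul_index (K.subgroupOf N)
    have h2 : (K.subgroupOf N).index = 2 := hrelN
    rw [h2, hN8] at this
    omega
  have hV0pow : ∀ v ∈ K, v ∈ N → v ^ 4 = 1 := by
    intro v hvK hvN
    have h1 : (⟨⟨v, hvN⟩, Subgroup.mem_subgroupOf.mpr hvK⟩ : ↥(K.subgroupOf N)) ^ 4 = 1 := by
      rw [← hV0card]
      exact pow_card_eq_one'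
    have h2 := congrArg (fun x : ↥(K.subgroupOf N) => ((x : ↥N) : G)) h1
    simpa using h2
  have hV0comm : ∀ v ∈ K, v ∈ N → ∀ w ∈ K, w ∈ N → v * w = w * v := by
    intro v hvK hvN w hwK hwN
    have : Fact (Nat.Prime 2) := ⟨Nat.prime_two⟩
    have h4 : Nat.card (K.subgroupOf N) = 2 ^ 2 := by rw [hV0card]; norm_num
    have hmc : IsMulCommutative ↥(K.subgroupOf N) :=
      IsPGroup.isMulCommutative_of_card_eq_prime_sq h4
    have h1 := hmc.is_comm.comm
      (⟨⟨v, hvN⟩, Subgroup.mem_subgroupOf.mpr hvK⟩ : ↥(K.subgroupOf N))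
      (⟨⟨w, hwN⟩, Subgroup.mem_subgroupOf.mpr hwK⟩ : ↥(K.subgroupOf N))
    have h2 := congrArg (fun x : ↥(K.subgroupOf N) => ((x : ↥N) : G)) h1
    simpa using h2
  -- decomposition
  have hcpowK : ∀ i : ℕ, c ^ i ∈ K := fun i => pow_mem hcK i
  have hcpowz : ∀ (i : ℕ) (g : G), c ^ i * g = g * c ^ i := by
    intro i g
    induction i with
    | zero => simp
    | succ n ih => rw [pow_succ, mul_assoc, hcz g, ← mul_assoc, ih, mul_assoc]
  have hdec : ∀ k ∈ K, ∃ v ∈ K, v ∈ N ∧ ∃ i : ℕ, k = v * c ^ i := by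
    intro k hk
    obtain ⟨i, hi⟩ := hHgen k (hKH hk)
    refine ⟨k * c ^ i, mul_mem hk (hcpowK i), hi, i * (f - 1), ?_⟩
    have e : c ^ i * c ^ (i * (f - 1)) = 1 := by
      rw [← pow_add]
      have : i + i * (f - 1) = f * i := by
        obtain ⟨f', rfl⟩ : ∃ f', f = f' + 1 := ⟨f - 1, by omega⟩
        simp
        ring
      rw [this, pow_mul, hcf, one_pow]
    rw [mul_assoc, e, mul_one]
  refine ⟨K, hKn, hKH, hidx, hKcard, hcK, hrK', ?_, ?_, ?_⟩
  · intro a ha b hb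
    obtain ⟨v, hvK, hvN, i, rfl⟩ := hdec a ha
    obtain ⟨w, hwK, hwN, j, rfl⟩ := hdec b hb
    have hvw := hV0comm v hvK hvN w hwK hwN
    calc v * c ^ i * (w * c ^ j) = v * (c ^ i * w) * c ^ j := by group
      _ = v * (w * c ^ i) * c ^ j := by rw [hcpowz i w]
      _ = (v * w) * (c ^ i * c ^ j) := by group
      _ = (w * v) * (c ^ j * c ^ i) := by rw [hvw, hcpowz i (c ^ j)]
      _ = w * (v * c ^ j) * c ^ i := by group
      _ = w * (c ^ j * v) * c ^ i := by rw [hcpowz j v]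
      _ = w * c ^ j * (v * c ^ i) := by group
  · intro a ha b hb
    exact hcomm a (hNH ha) b (hNH hb)
  · intro k hk
    obtain ⟨v, hvK, hvN, i, hki⟩ := hdec k hk
    exact ⟨v, hvK, i, hki, hV0pow v hvK hvN⟩

end Cfsg.Agent.Helper45.GS4
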