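import Mathlib

/-!
# HEC server (helper72, S2134): piece (U16) `closure_four`, by helper45
-/

set_option autoImplicit false

namespace Cfsg.Agent.Helper45.HEC

/-- the product of four "switched" factors -/
def prod4 {G : Type*} [Group G] (u : Fin 4 → G) (a : Fin 4 → Bool) : G :=
  (if a 0 then u 0 else 1) * ((if a 1 then u 1 else 1) * ((if a 2 then u 2 else 1) *
    ((if a 3 then u 3 else 1) * 1)))

/-- rearrangement of a product of two 4-fold products with the needed commutations -/
theorem rearr4 {G : Type*} [Group G] (x0 x1 x2 x3 y0 y1 y2 y3 : G)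
    (h10 : x1 * y0 = y0 * x1) (h20 : x2 * y0 = y0 * x2) (h30 : x3 * y0 = y0 * x3)
    (h21 : x2 * y1 = y1 * x2) (h31 : x3 * y1 = y1 * x3) (h32 : x3 * y2 = y2 * x3) :
    (x0 * (x1 * (x2 * (x3 * 1)))) * (y0 * (y1 * (y2 * (y3 * 1))))
      = (x0 * y0) * ((x1 * y1) * ((x2 * y2) * ((x3 * y3) * 1))) := by
  simp only [mul_one, mul_assoc]
  -- goal: x0 * (x1 * (x2 * (x3 * (y0 * (y1 * (y2 * y3)))))) = x0 * (y0 * (x1 * (y1 * (x2 * (y2 * (x3 * y3))))))
  rw [← mul_assoc x3 y0, h30, mul_assoc y0 x3]
  rw [← mul_assoc x2 y0, h20, mul_assoc y0 x2]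
  rw [← mul_assoc x1 y0, h10, mul_assoc y0 x1]
  rw [← mul_assoc x3 y1, h31, mul_assoc y1 x3]
  rw [← mul_assoc x2 y1, h21, mul_assoc y1 x2]
  rw [← mul_assoc x3 y2, h32, mul_assoc y2 x3]

theorem ite_comm_ite {G : Type*} [Group G] {w z : G} (h : w * z = z * w) (a b : Bool) :
    (if a then w else 1) * (if b then z else 1) = (if b then z else 1) * (if a then w else 1) := by
  cases a <;> cases b <;> simp [h]

theorem ite_mul_ite {G : Type*} [Group G] {w : G} (h : w * w = 1) (a b : Bool) :
    (if a then w else 1) * (if b then w else 1) = (if xor a b then w else 1) := by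
  cases a <;> cases b <;> simp [h]

theorem prod4_mul {G : Type*} [Group G] (u : Fin 4 → G) (hinv : ∀ i, u i * u i = 1)
    (hcomm : ∀ i j, u i * u j = u j * u i) (a b : Fin 4 → Bool) :
    prod4 u a * prod4 u b = prod4 u (fun i => xor (a i) (b i)) := by
  unfold prod4
  rw [rearr4 _ _ _ _ _ _ _ _ (ite_comm_ite (hcomm 1 0) _ _) (ite_comm_ite (hcomm 2 0) _ _)
    (ite_comm_ite (hcomm 3 0) _ _) (ite_comm_ite (hcomm 2 1) _ _) (ite_comm_ite (hcomm 3 1) _ _)
    (ite_comm_ite (hcomm 3 2) _ _)]
  rw [ite_mul_ite (hinv 0), ite_mul_ite (hinv 1), ite_mul_ite (hinv 2), ite_mul_ite (hinv 3)]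

theorem prod4_self {G : Type*} [Group G] (u : Fin 4 → G) (hinv : ∀ i, u i * u i = 1)
    (hcomm : ∀ i j, u i * u j = u j * u i) (a : Fin 4 → Bool) :
    prod4 u a * prod4 u a = 1 := by
  rw [prod4_mul u hinv hcomm]
  simp [prod4]

theorem prod4_comm {G : Type*} [Group G] (u : Fin 4 → G) (hinv : ∀ i, u i * u i = 1)
    (hcomm : ∀ i j, u i * u j = u j * u i) (a b : Fin 4 → Bool) :
    prod4 u a * prod4 u b = prod4 u b * prod4 u a := by
  rw [prod4_mul u hinv hcomm, prod4_mul u hinv hcomm]
  congr 1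
  funext i
  exact Bool.xor_comm _ _

theorem gen_eq_prod4 {G : Type*} [Group G] (u : Fin 4 → G) (i : Fin 4) :
    u i = prod4 u (fun j => decide (j = i)) := by
  unfold prod4
  fin_cases i <;> simp

theorem mem_closure_four {G : Type*} [Group G] (u : Fin 4 → G) (hinv : ∀ i, u i * u i = 1)
    (hcomm : ∀ i j, u i * u j = u j * u i) (g : G) (hg : g ∈ Subgroup.closure (Set.range u)) :
    ∃ a : Fin 4 → Bool, g = prod4 u a := by
  induction hg using Subgroup.closure_induction with
  | mem x hx =>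
    obtain ⟨i, rfl⟩ := hx
    exact ⟨_, gen_eq_prod4 u i⟩
  | one => exact ⟨fun _ => false, by simp [prod4]⟩
  | mul x y _ _ hx hy =>
    obtain ⟨a, rfl⟩ := hx
    obtain ⟨b, rfl⟩ := hy
    exact ⟨_, prod4_mul u hinv hcomm a b⟩
  | inv x _ hx =>
    obtain ⟨a, rfl⟩ := hx
    exact ⟨a, inv_eq_of_mul_eq_one_left (prod4_self u hinv hcomm a)⟩

/-- (U16)  The subgroup generated by four pairwise commuting involutions (or trivial elements): it is
finite of order at most 16, commutative, of exponent 2, and every element is one of the 16 products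
`u 0 ^ a 0 * u 1 ^ a 1 * u 2 ^ a 2 * u 3 ^ a 3`.
Proof: the set of these 16 products contains `1` and the `u i` and is closed under multiplication and inverses
(commutativity + `u i * u i = 1`), so it contains the closure (`Subgroup.closure_induction`); the rest follows. -/
theorem closure_four {G : Type*} [Group G] (u : Fin 4 → G) (hinv : ∀ i, u i * u i = 1)
    (hcomm : ∀ i j, u i * u j = u j * u i) :
    Finite ↥(Subgroup.closure (Set.range u)) ∧
    Nat.card ↥(Subgroup.closure (Set.range u)) ≤ 16 ∧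
    (∀ a ∈ Subgroup.closure (Set.range u), ∀ b ∈ Subgroup.closure (Set.range u), a * b = b * a) ∧
    (∀ a ∈ Subgroup.closure (Set.range u), a * a = 1) ∧
    (∀ g ∈ Subgroup.closure (Set.range u), ∃ a : Fin 4 → Bool,
      g = (if a 0 then u 0 else 1) * ((if a 1 then u 1 else 1) * ((if a 2 then u 2 else 1) *
        ((if a 3 then u 3 else 1) * 1)))) := by
  have hsub : ((Subgroup.closure (Set.range u) : Subgroup G) : Set G) ⊆ Set.range (prod4 u) := by
    intro g hg
    obtain ⟨a, rfl⟩ := mem_closure_four u hinv hcomm g hg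
    exact ⟨a, rfl⟩
  have hfin : (Set.range (prod4 u)).Finite := Set.finite_range _
  refine ⟨?_, ?_, ?_, ?_, ?_⟩
  · exact Set.finite_coe_iff.mpr (hfin.subset hsub)
  · calc Nat.card ↥(Subgroup.closure (Set.range u))
        ≤ Nat.card (Set.range (prod4 u)) := Nat.card_mono hfin hsub
      _ ≤ Nat.card (Fin 4 → Bool) := Finite.card_range_le _
      _ = 16 := by simp
  · intro a ha b hb
    obtain ⟨a', rfl⟩ := mem_closure_four u hinv hcomm a ha
    obtain ⟨b', rfl⟩ := mem_closure_four u hinv hcomm b hb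
    exact prod4_comm u hinv hcomm a' b'
  · intro a ha
    obtain ⟨a', rfl⟩ := mem_closure_four u hinv hcomm a ha
    exact prod4_self u hinv hcomm a'
  · intro g hg
    exact mem_closure_four u hinv hcomm g hg

end Cfsg.Agent.Helper45.HEC
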