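import Mathlib
import Cfsg.Agent.Lib.Helper55.O2520Defs

/-!
# O2520 server (helper55, S0984): piece (INT) `inter_NS` (helper45)
-/

set_option autoImplicit false

namespace Cfsg.Agent.Helper45.O2520

open Cfsg.Agent.Helper55.O2520
open scoped Classical Pointwise

universe u

/-- `|H ⊔ K| ≤ |H| |K|` when `H` normalizes `K` -/
theorem h45_card_sup_le {G : Type u} [Group G] (H K : Subgroup G)
    (h : H ≤ Subgroup.normalizer (K : Set G)) :
    Nat.card (H ⊔ K : Subgroup G) ≤ Nat.card H * Nat.card K := by
  have h1 : ((H ⊔ K : Subgroup G) : Set G) = (H : Set G) * (K : Set G) :=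
    Subgroup.coe_mul_of_left_le_normalizer_right H K h
  have h2 : Nat.card (H ⊔ K : Subgroup G) = Nat.card ((H : Set G) * (K : Set G) : Set G) := by
    rw [← h1]; rfl
  rw [h2]
  exact Set.natCard_mul_le

/-- `|N| = 36` and `|S| = 8` -/
theorem h45_cards {G : Type u} [Group G] [Finite G] (P : Subgroup G) (u w : G) (hc : Config P u w) :
    Nat.card (P ⊔ Subgroup.zpowers u : Subgroup G) = 36 ∧
      Nat.card (Subgroup.zpowers u ⊔ Subgroup.zpowers w : Subgroup G) = 8 := by
  have hu4 : Nat.card (Subgroup.zpowers u) = 4 := by rw [Nat.card_zpowers, hc.ordu]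
  have hw2 : Nat.card (Subgroup.zpowers w) = 2 := by rw [Nat.card_zpowers, hc.ordw]
  constructor
  · -- `⟨u⟩` normalizes `P`
    have hnorm : Subgroup.zpowers u ≤ Subgroup.normalizer (P : Set G) := by
      rw [Subgroup.zpowers_le]
      rw [Subgroup.mem_normalizer_iff]
      intro x
      constructor
      · intro hx; exact hc.norm x hx
      · intro hx
        -- `P` finite and conjugation by `u` maps `P` into `P` injectively
        have hinj : Function.Injective (fun y : P => (⟨u * y * u⁻¹, hc.norm y y.2⟩ : P)) := by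
          intro a b hab
          have := congrArg Subtype.val hab
          simp only [mul_left_inj, mul_right_inj] at this
          exact Subtype.ext this
        have hsurj := Finite.surjective_of_injective hinj
        obtain ⟨y, hy⟩ := hsurj ⟨u * x * u⁻¹, hx⟩
        have := congrArg Subtype.val hy
        simp only [mul_left_inj, mul_right_inj] at this
        rw [← this]; exact y.2
    have hle : Nat.card (Subgroup.zpowers u ⊔ P : Subgroup G) ≤ 4 * 9 := by
      have := h45_card_sup_le (Subgroup.zpowers u) P hnorm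
      rwa [hu4, hc.cardP] at this
    rw [sup_comm] at hle
    have d1 : 9 ∣ Nat.card (P ⊔ Subgroup.zpowers u : Subgroup G) := by
      rw [← hc.cardP]; exact Subgroup.card_dvd_of_le le_sup_left
    have d2 : 4 ∣ Nat.card (P ⊔ Subgroup.zpowers u : Subgroup G) := by
      rw [← hu4]; exact Subgroup.card_dvd_of_le le_sup_right
    have hpos : 0 < Nat.card (P ⊔ Subgroup.zpowers u : Subgroup G) := Nat.card_pos
    have d3 : 36 ∣ Nat.card (P ⊔ Subgroup.zpowers u : Subgroup G) :=
      Nat.Coprime.mul_dvd_of_dvd_of_dvd (by norm_num : Nat.Coprime 9 4) d1 d2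
    obtain ⟨c, hcc⟩ := d3
    omega
  · -- `⟨w⟩` normalizes `⟨u⟩`
    have hnorm : Subgroup.zpowers w ≤ Subgroup.normalizer (Subgroup.zpowers u : Set G) := by
      rw [Subgroup.zpowers_le]
      have hconj : ∀ x ∈ Subgroup.zpowers u, w * x * w⁻¹ ∈ Subgroup.zpowers u := by
        intro x hx
        obtain ⟨k, rfl⟩ := Subgroup.mem_zpowers_iff.1 hx
        have : w * u ^ k * w⁻¹ = (w * u * w⁻¹) ^ k := by
          simp
        rw [this, hc.wu]
        exact Subgroup.zpow_mem _ (Subgroup.inv_mem _ (Subgroup.mem_zpowers u)) k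
      rw [Subgroup.mem_normalizer_iff]
      intro x
      constructor
      · intro hx; exact hconj x hx
      · intro hx
        have hw2' : w⁻¹ = w := by
          have : w ^ 2 = 1 := by rw [← hc.ordw]; exact pow_orderOf_eq_one w
          rw [inv_eq_iff_mul_eq_one]; rwa [pow_two] at this
        have := hconj _ hx
        rw [hw2'] at this hx
        have e : w * (w * x * w) * w = x := by
          have h1 : w * w = 1 := by
            have : w ^ 2 = 1 := by rw [← hc.ordw]; exact pow_orderOf_eq_one w
            rwa [pow_two] at this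
          calc w * (w * x * w) * w = (w * w) * x * (w * w) := by group
            _ = x := by rw [h1]; group
        rwa [e] at this
    have hle : Nat.card (Subgroup.zpowers w ⊔ Subgroup.zpowers u : Subgroup G) ≤ 2 * 4 := by
      have := h45_card_sup_le (Subgroup.zpowers w) (Subgroup.zpowers u) hnorm
      rwa [hu4, hw2] at this
    rw [sup_comm] at hle
    have d2 : 4 ∣ Nat.card (Subgroup.zpowers u ⊔ Subgroup.zpowers w : Subgroup G) := by
      rw [← hu4]; exact Subgroup.card_dvd_of_le le_sup_left
    have hpos : 0 < Nat.card (Subgroup.zpowers u ⊔ Subgroup.zpowers w : Subgroup G) := Nat.card_pos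
    -- `w ∉ ⟨u⟩`, so the join is bigger than `⟨u⟩`
    have hwu : w ∉ Subgroup.zpowers u := by
      intro hw
      obtain ⟨k, rfl⟩ := Subgroup.mem_zpowers_iff.1 hw
      have h1 : u ^ k * u * (u ^ k)⁻¹ = u := by group
      have h2 : u⁻¹ = u := by rw [← hc.wu, h1]
      have h3 : u ^ 2 = 1 := by rw [pow_two]; nth_rewrite 1 [← h2]; group
      have := orderOf_dvd_of_pow_eq_one h3
      rw [hc.ordu] at this
      omega
    have hne : Nat.card (Subgroup.zpowers u ⊔ Subgroup.zpowers w : Subgroup G) ≠ 4 := by
      intro h4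
      have : Subgroup.zpowers u = Subgroup.zpowers u ⊔ Subgroup.zpowers w :=
        Subgroup.eq_of_le_of_card_ge le_sup_left (by rw [h4, hu4])
      apply hwu
      rw [this]
      exact Subgroup.mem_sup_right (Subgroup.mem_zpowers w)
    obtain ⟨c, hcc⟩ := d2
    omega

/-- (INT) of the O2520 server -/
theorem inter_NS {G : Type u} [Group G] [Finite G] (P : Subgroup G) (u w : G) (hc : Config P u w) :
    (P ⊔ Subgroup.zpowers u) ⊓ (Subgroup.zpowers u ⊔ Subgroup.zpowers w) = Subgroup.zpowers u ∧
    ¬ (Subgroup.zpowers u ⊔ Subgroup.zpowers w ≤ P ⊔ Subgroup.zpowers u) := by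
  obtain ⟨hN, hS⟩ := h45_cards P u w hc
  have hu4 : Nat.card (Subgroup.zpowers u) = 4 := by rw [Nat.card_zpowers, hc.ordu]
  constructor
  · symm
    apply Subgroup.eq_of_le_of_card_ge (le_inf le_sup_right le_sup_left)
    rw [hu4]
    have d1 : Nat.card ((P ⊔ Subgroup.zpowers u) ⊓ (Subgroup.zpowers u ⊔ Subgroup.zpowers w) :
        Subgroup G) ∣ 36 := by
      rw [← hN]; exact Subgroup.card_dvd_of_le inf_le_left
    have d2 : Nat.card ((P ⊔ Subgroup.zpowers u) ⊓ (Subgroup.zpowers u ⊔ Subgroup.zpowers w) :
        Subgroup G) ∣ 8 := by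
      rw [← hS]; exact Subgroup.card_dvd_of_le inf_le_right
    have d3 := Nat.dvd_gcd d1 d2
    have : Nat.gcd 36 8 = 4 := by norm_num
    rw [this] at d3
    exact Nat.le_of_dvd (by norm_num) d3
  · intro hle
    have := Subgroup.card_dvd_of_le hle
    rw [hN, hS] at this
    omega

end Cfsg.Agent.Helper45.O2520
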