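import Mathlib
import Cfsg.Agent.Lib.Helper17.Simple
import Cfsg.Agent.Lib.Helper17.EmbedNormalizer
import Cfsg.Agent.Lib.Helper17.SylowLink
import Cfsg.Agent.Lib.Helper17.PrimeSylow
import Cfsg.Agent.Lib.Helper55.SylowNumber

/-!
# O2520 server (helper55, S0984): piece (OVG), the OVERGROUP LEMMA (helper45)

`G` simple of order `2520`, `n_7 = 120`, `P` a Sylow 3-subgroup with `|N(P)| = 36`:
every `K` with `N(P) < K < G` has order `360`.
-/

set_option autoImplicit false

namespace Cfsg.Agent.Helper45.O2520

open Cfsg.Agent.Helper17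

universe u

/-- Sylow count in a subgroup containing the Sylow normalizer -/
theorem h45_sylow_count_sub {G : Type u} [Group G] [Finite G] {p : ℕ} [Fact p.Prime] (P : Sylow p G)
    (K : Subgroup G) (hNK : Subgroup.normalizer ((P : Subgroup G) : Set G) ≤ K) :
    Nat.card (Subgroup.normalizer ((P : Subgroup G) : Set G)) * Nat.card (Sylow p K) = Nat.card K := by
  have hPK : (P : Subgroup G) ≤ K := Subgroup.le_normalizer.trans hNK
  have h1 := card_normalizer_mul_sylow_count (P.subtype hPK)
  rw [card_normalizer_subtype K P hPK, inf_eq_left.2 hNK] at h1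
  exact h1

/-- if `k` conjugates `P` into `N(P)` then `k ∈ N(P)` -/
theorem h45_mem_normalizer_of_conj_le {G : Type u} [Group G] [Finite G] {p : ℕ} [Fact p.Prime]
    (P : Sylow p G) (k : G)
    (h : ∀ x ∈ (P : Subgroup G), k * x * k⁻¹ ∈ Subgroup.normalizer ((P : Subgroup G) : Set G)) :
    k ∈ Subgroup.normalizer ((P : Subgroup G) : Set G) := by
  set H : Subgroup G := (P : Subgroup G).map (MulAut.conj k).toMonoidHom with hH
  have hHp : IsPGroup p H := P.isPGroup'.map _
  have hHN : H ≤ Subgroup.normalizer ((P : Subgroup G) : Set G) := by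
    rintro y ⟨x, hx, rfl⟩
    exact h x hx
  have hHP : H ≤ (P : Subgroup G) := Cfsg.Agent.Helper55.SylNum.le_sylow_of_le_normalizer hHp P hHN
  have hcard : Nat.card H = Nat.card (P : Subgroup G) := by
    rw [hH]
    exact Subgroup.card_map_of_injective (MulAut.conj k).injective
  have hEq : H = (P : Subgroup G) := Subgroup.eq_of_le_of_card_ge hHP (by rw [hcard])
  rw [Subgroup.mem_normalizer_iff]
  intro x
  constructor
  · intro hx
    have : k * x * k⁻¹ ∈ H := ⟨x, hx, rfl⟩
    rwa [hEq] at this
  · intro hx
    rw [← hEq] at hx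
    obtain ⟨y, hy, hyx⟩ := hx
    have : y = x := by
      have h1 : k * y * k⁻¹ = k * x * k⁻¹ := hyx
      simpa using h1
    rw [← this]; exact hy

/-- the case `|K| = 252` is impossible -/
theorem h45_no_252 {G : Type u} [Group G] [Finite G]
    (hG : Nat.card G = 2520) (h7 : Nat.card (Sylow 7 G) = 120) (P : Sylow 3 G)
    (hN : Nat.card (Subgroup.normalizer ((P : Subgroup G) : Set G)) = 36) (K : Subgroup G)
    (hlt : Subgroup.normalizer ((P : Subgroup G) : Set G) < K) (hK : Nat.card K = 252) : False := by
  classical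
  have : Fact (Nat.Prime 7) := ⟨by norm_num⟩
  have : Fact (Nat.Prime 3) := ⟨by norm_num⟩
  set N : Subgroup G := Subgroup.normalizer ((P : Subgroup G) : Set G) with hNdef
  have hK' : Nat.card (↥K) = 7 ^ 1 * 36 := by rw [hK]; norm_num
  obtain ⟨hd, hm⟩ := sylow_count (G := ↥K) (p := 7) hK' (by norm_num)
  have hn7 : Nat.card (Sylow 7 K) = 1 ∨ Nat.card (Sylow 7 K) = 36 := by
    have hmem : Nat.card (Sylow 7 K) ∈ Nat.divisors 36 := Nat.mem_divisors.2 ⟨hd, by norm_num⟩
    have hdiv : Nat.divisors 36 = {1, 2, 3, 4, 6, 9, 12, 18, 36} := by decide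
    rw [hdiv] at hmem
    simp only [Finset.mem_insert, Finset.mem_singleton] at hmem
    omega
  have hQcard : ∀ Q : Sylow 7 K, Nat.card (Q : Subgroup K) = 7 := fun Q => by
    have := sylow_card_eq Q hK' (by norm_num)
    simpa using this
  rcases hn7 with h1 | h36
  · -- normal Sylow 7 in K: K ≤ N_G(Q'), of order 21
    obtain ⟨Q⟩ : Nonempty (Sylow 7 K) := inferInstance
    have : Subsingleton (Sylow 7 K) := (Nat.card_eq_one_iff_unique.1 h1).1
    have hQn : (Q : Subgroup K).Normal := Q.normal_of_subsingleton
    set Q' : Subgroup G := (Q : Subgroup K).map K.subtype with hQ'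
    have hQ'card : Nat.card Q' = 7 := by
      rw [hQ', Subgroup.card_map_of_injective K.subtype_injective]; exact hQcard Q
    have hQ'p : IsPGroup 7 Q' := IsPGroup.of_card (n := 1) (by rw [hQ'card, pow_one])
    obtain ⟨R, hR⟩ := hQ'p.exists_le_sylow
    have hRcard : Nat.card (R : Subgroup G) = 7 := by
      have := sylow_card_eq R (k := 1) (m := 360) (by rw [hG]; norm_num) (by norm_num)
      simpa using this
    have hQR : Q' = (R : Subgroup G) := Subgroup.eq_of_le_of_card_ge hR (by rw [hRcard, hQ'card])
    have hKle : K ≤ Subgroup.normalizer ((R : Subgroup G) : Set G) := by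
      intro k hk
      rw [← hQR, Subgroup.mem_normalizer_iff]
      intro x
      constructor
      · rintro ⟨y, hy, rfl⟩
        refine ⟨⟨k, hk⟩ * y * ⟨k, hk⟩⁻¹, hQn.conj_mem y hy ⟨k, hk⟩, rfl⟩
      · rintro ⟨y, hy, hyx⟩
        have h2 := hQn.conj_mem y hy (⟨k, hk⟩⁻¹)
        refine ⟨⟨k, hk⟩⁻¹ * y * (⟨k, hk⟩⁻¹)⁻¹, h2, ?_⟩
        have : (K.subtype y : G) = k * x * k⁻¹ := hyx
        simp only [Subgroup.subtype_apply, Subgroup.coe_mul, Subgroup.coe_inv, inv_inv]
        show k⁻¹ * (y : G) * k = x
        have hy' : (y : G) = k * x * k⁻¹ := this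
        rw [hy']; group
    have hNR := card_normalizer_mul_sylow_count R
    rw [h7, hG] at hNR
    have h21 : Nat.card (Subgroup.normalizer ((R : Subgroup G) : Set G)) = 21 := by omega
    have := Subgroup.card_dvd_of_le hKle
    rw [hK, h21] at this
    omega
  · -- 216 elements of order 7; the others are exactly N
    have hcount := card_orderOf_eq_prime (G := ↥K) (p := 7) hQcard
    rw [h36] at hcount
    have hNK : N ≤ K := hlt.le
    -- every element of K of order ≠ 7 lies in N
    have hkey : ∀ x : K, orderOf x ≠ 7 → (x : G) ∈ N := by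
      have hfin : Fintype K := Fintype.ofFinite K
      have hcardK : Fintype.card K = 252 := by rw [← Nat.card_eq_fintype_card, hK]
      have hc7 : Fintype.card {x : K // orderOf x = 7} = 216 := by
        rw [← Nat.card_eq_fintype_card, hcount]
      have hcompl : Fintype.card {x : K // ¬ orderOf x = 7} = 36 := by
        rw [Fintype.card_subtype_compl, hcardK, hc7]
      -- injection from `N` into the complement
      have hNord : ∀ y : N, ¬ orderOf (⟨y.1, hNK y.2⟩ : K) = 7 := by
        intro y h
        have h1 : orderOf (⟨y.1, hNK y.2⟩ : K) = orderOf y := by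
          rw [← Subgroup.orderOf_coe, ← Subgroup.orderOf_coe (a := y)]
        have h2 : orderOf y ∣ 36 := by rw [← hN]; exact orderOf_dvd_natCard y
        rw [h1] at h
        rw [h] at h2
        omega
      let f : N → {x : K // ¬ orderOf x = 7} := fun y => ⟨⟨y.1, hNK y.2⟩, hNord y⟩
      have hf : Function.Injective f := by
        intro a b hab
        have := congrArg (fun z : {x : K // ¬ orderOf x = 7} => (z.1.1 : G)) hab
        exact Subtype.ext this
      have hfinN : Fintype N := Fintype.ofFinite N
      have hcardN : Fintype.card N = 36 := by rw [← Nat.card_eq_fintype_card, hN]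
      have hbij : Function.Bijective f := by
        rw [Fintype.bijective_iff_injective_and_card]
        exact ⟨hf, by rw [hcardN, hcompl]⟩
      intro x hx
      obtain ⟨y, hy⟩ := hbij.2 ⟨x, hx⟩
      have : (y.1 : G) = x.1 := congrArg (fun z : {x : K // ¬ orderOf x = 7} => (z.1.1 : G)) hy
      rw [← this]; exact y.2
    -- K normalizes P
    have hKN : K ≤ N := by
      intro k hk
      apply h45_mem_normalizer_of_conj_le P k
      intro x hx
      have hxN : x ∈ N := Subgroup.le_normalizer hx
      have hxK : x ∈ K := hNK hxN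
      have hcK : k * x * k⁻¹ ∈ K := K.mul_mem (K.mul_mem hk hxK) (K.inv_mem hk)
      apply hkey ⟨k * x * k⁻¹, hcK⟩
      intro h
      have h1 : orderOf (⟨k * x * k⁻¹, hcK⟩ : K) = orderOf (k * x * k⁻¹) := by
        rw [← Subgroup.orderOf_coe]
      have h2 : orderOf (k * x * k⁻¹) = orderOf x := by
        have := orderOf_injective (MulAut.conj k).toMonoidHom (MulAut.conj k).injective x
        simpa using this
      have h3 : orderOf x ∣ 36 := by
        rw [← hN]
        have := orderOf_dvd_natCard (⟨x, hxN⟩ : N)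
        rwa [← Subgroup.orderOf_coe] at this
      rw [h1, h2] at h
      rw [h] at h3
      omega
    exact absurd hKN (not_le_of_gt hlt)

/-- OVERGROUP LEMMA, with `|N(P)| = 36` as hypothesis -/
theorem h45_overgroup {G : Type u} [Group G] [Finite G] [IsSimpleGroup G]
    (hG : Nat.card G = 2520) (h7 : Nat.card (Sylow 7 G) = 120) (P : Sylow 3 G)
    (hN : Nat.card (Subgroup.normalizer ((P : Subgroup G) : Set G)) = 36) (K : Subgroup G)
    (hlt : Subgroup.normalizer ((P : Subgroup G) : Set G) < K) (hK : K ≠ ⊤) : Nat.card K = 360 := by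
  have : Fact (Nat.Prime 3) := ⟨by norm_num⟩
  have hnc : ¬ IsMulCommutative G := not_comm_of_not_prime (by rw [hG]; norm_num)
  have hfac := two_mul_card_dvd_factorial hnc K hK
  rw [hG] at hfac
  have hci := K.card_mul_index
  rw [hG] at hci
  have h36 : 36 ∣ Nat.card K := by rw [← hN]; exact Subgroup.card_dvd_of_le hlt.le
  have hgt : 36 < Nat.card K := by
    rw [← hN]
    have hle := Subgroup.card_le_of_le hlt.le
    rcases Nat.lt_or_ge (Nat.card (Subgroup.normalizer ((P : Subgroup G) : Set G))) (Nat.card K) with h | h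
    · exact h
    · exact absurd (Subgroup.eq_of_le_of_card_ge hlt.le h) (ne_of_lt hlt)
  have hi7 : 7 ≤ K.index := by
    by_contra hcon
    have hle : K.index ≤ 6 := by omega
    have : (K.index).factorial ∣ (6).factorial := Nat.factorial_dvd_factorial hle
    have h2 := hfac.trans this
    norm_num [Nat.factorial] at h2
  obtain ⟨k, hk⟩ := h36
  rw [hk] at hci hgt
  have hk70 : k * K.index = 70 := by nlinarith
  have hkd : k ∈ Nat.divisors 70 := Nat.mem_divisors.2 ⟨⟨K.index, hk70.symm⟩, by norm_num⟩
  have hdiv : Nat.divisors 70 = {1, 2, 5, 7, 10, 14, 35, 70} := by decide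
  rw [hdiv] at hkd
  simp only [Finset.mem_insert, Finset.mem_singleton] at hkd
  have hcnt := h45_sylow_count_sub P K hlt.le
  rw [hN, hk] at hcnt
  have hn3 : Nat.card (Sylow 3 K) = k := by
    have : 36 * Nat.card (Sylow 3 K) = 36 * k := hcnt
    omega
  have hmod := card_sylow_modEq_one 3 K
  rw [hn3] at hmod
  rcases hkd with rfl | rfl | rfl | rfl | rfl | rfl | rfl | rfl
  · omega
  · exfalso; revert hmod; decide
  · exfalso; revert hmod; decide
  · exfalso; exact h45_no_252 hG h7 P hN K hlt (by rw [hk])
  · rw [hk]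
  · exfalso; nlinarith
  · exfalso; nlinarith
  · exfalso; nlinarith

section grp
variable {G : Type u} [Group G] [Finite G] [IsSimpleGroup G] (hG : Nat.card G = 2520)
include hG

/-- (OVG) of the O2520 server, wave 2 -/
theorem overgroup (h7 : Nat.card (Sylow 7 G) = 120) (h3 : Nat.card (Sylow 3 G) = 70)
    (P : Sylow 3 G) (K : Subgroup G)
    (h1 : Subgroup.normalizer ((P : Subgroup G) : Set G) < K) (h2 : K ≠ ⊤) : Nat.card K = 360 := by
  have : Fact (Nat.Prime 3) := ⟨by norm_num⟩
  have hN : Nat.card (Subgroup.normalizer ((P : Subgroup G) : Set G)) = 36 := by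
    have := card_normalizer_mul_sylow_count P
    rw [h3, hG] at this
    omega
  exact h45_overgroup hG h7 P hN K h1 h2

end grp

end Cfsg.Agent.Helper45.O2520
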