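import Mathlib
import Cfsg.Agent.Lib.Helper17.PrimeSylow

/-!
# O2520 / S3C sub-server (helper20): piece (Q1) `s3c_structure` (helper45)

`P = C(P)` elementary abelian of order 9, `|N(P)| = 36`, no element of order 4 in `N(P)`: a four-group
`{1,a,b,ab} ≤ N(P)` with `a : (x,x') ↦ (x,x'⁻¹)`, `b : (x,x') ↦ (x⁻¹,x')`.
-/

set_option autoImplicit false

namespace Cfsg.Agent.Helper45.O2520

universe u

section
variable {G : Type u} [Group G] (P : Subgroup G) (hC : Subgroup.centralizer (P : Set G) = P)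
include hC

theorem h45q_comm {y z : G} (hy : y ∈ P) (hz : z ∈ P) : y * z = z * y := by
  have : z ∈ Subgroup.centralizer (P : Set G) := by rw [hC]; exact hz
  exact Subgroup.mem_centralizer_iff.1 this y hy

omit hC in
theorem h45q_conj_mem {g z : G} (hg : g ∈ Subgroup.normalizer (P : Set G)) (hz : z ∈ P) :
    g * z * g⁻¹ ∈ P := (Subgroup.mem_normalizer_iff.1 hg z).1 hz

/-- an involution centralizing `P` does not exist (`P` has exponent 3) -/
theorem h45q_not_cent (hexp : ∀ x ∈ P, x ^ 3 = 1) {c : G} (hc2 : c * c = 1) (hc1 : c ≠ 1)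
    (h : ∀ z ∈ P, c * z * c⁻¹ = z) : False := by
  have hcC : c ∈ Subgroup.centralizer (P : Set G) := by
    rw [Subgroup.mem_centralizer_iff]
    intro z hz
    have := h z hz
    calc z * c = (c * z * c⁻¹) * c := by rw [this]
      _ = c * z := by group
  rw [hC] at hcC
  have h3 := hexp c hcC
  apply hc1
  calc c = c ^ 3 * (c * c)⁻¹ := by group
    _ = 1 := by rw [h3, hc2]; simp

/-- a non-inverting involution of `N(P)` has a nontrivial fixed point -/
theorem h45q_fix_of_not_inv {a : G} (ha : a ∈ Subgroup.normalizer (P : Set G)) (ha2 : a * a = 1)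
    (h : ¬ ∀ z ∈ P, a * z * a⁻¹ = z⁻¹) : ∃ x ∈ P, x ≠ 1 ∧ a * x * a⁻¹ = x := by
  push Not at h
  obtain ⟨z, hz, hne⟩ := h
  have hza : a * z * a⁻¹ ∈ P := h45q_conj_mem P ha hz
  refine ⟨z * (a * z * a⁻¹), P.mul_mem hz hza, ?_, ?_⟩
  · intro h1
    apply hne
    exact eq_inv_of_mul_eq_one_right h1
  · have hainv : a⁻¹ = a := inv_eq_of_mul_eq_one_right ha2
    have e1 : a * (z * (a * z * a⁻¹)) * a⁻¹ = (a * z * a⁻¹) * ((a * a) * z * (a * a)⁻¹) := by group
    rw [e1, ha2]
    simp only [one_mul, inv_one, mul_one]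
    exact h45q_comm P hC hza hz

omit hC in
/-- if `a` and `b` invert `P` then `a * b` centralizes `P` -/
theorem h45q_cent_of_two_inv {a b : G} (ha : ∀ z ∈ P, a * z * a⁻¹ = z⁻¹)
    (hb : ∀ z ∈ P, b * z * b⁻¹ = z⁻¹) : ∀ z ∈ P, (a * b) * z * (a * b)⁻¹ = z := by
  intro z hz
  have e1 : (a * b) * z * (a * b)⁻¹ = a * (b * z * b⁻¹) * a⁻¹ := by group
  rw [e1, hb z hz, ha _ (P.inv_mem hz), inv_inv]

/-- the fixed points on `P` of an involution with a nontrivial fixed point `x` are `1, x, x⁻¹` -/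
theorem h45q_fix_eq [Finite G] (hP : Nat.card P = 9) (hexp : ∀ x ∈ P, x ^ 3 = 1) {a : G}
    (ha2 : a * a = 1) (ha1 : a ≠ 1) {x : G} (hx : x ∈ P) (hx1 : x ≠ 1) (hax : a * x * a⁻¹ = x)
    {y : G} (hy : y ∈ P) (hay : a * y * a⁻¹ = y) : y = 1 ∨ y = x ∨ y = x⁻¹ := by
  classical
  have : Fact (Nat.Prime 3) := ⟨by norm_num⟩
  set D : Subgroup G := P ⊓ Subgroup.centralizer ({a} : Set G) with hD
  have memD : ∀ z : G, z ∈ P → a * z * a⁻¹ = z → z ∈ D := by
    intro z hz hz2
    refine Subgroup.mem_inf.2 ⟨hz, Subgroup.mem_centralizer_singleton_iff.2 ?_⟩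
    calc z * a = (a * z * a⁻¹) * a := by rw [hz2]
      _ = a * z := by group
  have hxD : x ∈ D := memD x hx hax
  have hyD : y ∈ D := memD y hy hay
  have hdvd : Nat.card D ∣ 9 := by rw [← hP]; exact Subgroup.card_dvd_of_le inf_le_left
  have hne1 : Nat.card D ≠ 1 := by
    intro h1
    have : D = ⊥ := Subgroup.card_eq_one.1 h1
    rw [this, Subgroup.mem_bot] at hxD
    exact hx1 hxD
  have hne9 : Nat.card D ≠ 9 := by
    intro h9
    have hDP : D = P := Subgroup.eq_of_le_of_card_ge inf_le_left (by rw [h9, hP])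
    apply h45q_not_cent P hC hexp ha2 ha1
    intro z hz
    have hzD : z ∈ D := by rw [hDP]; exact hz
    have := Subgroup.mem_centralizer_singleton_iff.1 (Subgroup.mem_inf.1 hzD).2
    calc a * z * a⁻¹ = (z * a) * a⁻¹ := by rw [this]
      _ = z := by group
  have hcard : Nat.card D = 3 := by
    have hmem : Nat.card D ∈ Nat.divisors 9 := Nat.mem_divisors.2 ⟨hdvd, by norm_num⟩
    have hdiv : Nat.divisors 9 = {1, 3, 9} := by decide
    rw [hdiv] at hmem
    simp only [Finset.mem_insert, Finset.mem_singleton] at hmem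
    omega
  obtain ⟨hzp, hord⟩ := Cfsg.Agent.Helper17.zpowers_eq_of_card_prime D hcard x hxD hx1
  rw [← hzp] at hyD
  rw [mem_zpowers_iff_mem_range_orderOf, hord] at hyD
  obtain ⟨k, hk, hky⟩ := Finset.mem_image.1 hyD
  have hk3 : k < 3 := Finset.mem_range.1 hk
  have hx3 : x ^ 3 = 1 := hexp x hx
  interval_cases k
  · left; simpa using hky.symm
  · right; left; simpa using hky.symm
  · right; right
    have : x ^ 2 = x⁻¹ := by
      calc x ^ 2 = x ^ 3 * x⁻¹ := by group
        _ = x⁻¹ := by rw [hx3, one_mul]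
    rw [← this]; exact hky.symm

/-- the key sign lemma: commuting involutions `a`, `b` of `N(P)` with `a * b ≠ 1`, `x ≠ 1` fixed by `a`:
`b` inverts `x` -/
theorem h45q_sign [Finite G] (hP : Nat.card P = 9) (hexp : ∀ x ∈ P, x ^ 3 = 1) {a b : G}
    (ha : a ∈ Subgroup.normalizer (P : Set G)) (hb : b ∈ Subgroup.normalizer (P : Set G))
    (ha2 : a * a = 1) (hb2 : b * b = 1) (ha1 : a ≠ 1) (hb1 : b ≠ 1) (hab : a * b = b * a)
    (hab1 : a * b ≠ 1) {x : G} (hx : x ∈ P) (hx1 : x ≠ 1) (hax : a * x * a⁻¹ = x) :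
    b * x * b⁻¹ = x⁻¹ := by
  have hbx : b * x * b⁻¹ ∈ P := h45q_conj_mem P hb hx
  have hfix : a * (b * x * b⁻¹) * a⁻¹ = b * x * b⁻¹ := by
    have e : a * (b * x * b⁻¹) * a⁻¹ = (a * b) * x * (a * b)⁻¹ := by group
    rw [e, hab]
    have e2 : (b * a) * x * (b * a)⁻¹ = b * (a * x * a⁻¹) * b⁻¹ := by group
    rw [e2, hax]
  rcases h45q_fix_eq P hC hP hexp ha2 ha1 hx hx1 hax hbx hfix with h | h | h
  · exfalso
    apply hx1
    have : x = b⁻¹ * (b * x * b⁻¹) * b := by group
    rw [this, h]; group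
  · -- `b` fixes `x`: then `c = a * b` centralizes `P`
    exfalso
    have hc2 : (a * b) * (a * b) = 1 := by
      calc (a * b) * (a * b) = a * (b * a) * b := by group
        _ = a * (a * b) * b := by rw [hab]
        _ = (a * a) * (b * b) := by group
        _ = 1 := by rw [ha2, hb2, one_mul]
    apply h45q_not_cent P hC hexp hc2 hab1
    intro z hz
    have hza : a * z * a⁻¹ ∈ P := h45q_conj_mem P ha hz
    have hzb : b * z * b⁻¹ ∈ P := h45q_conj_mem P hb hz
    -- `u = z * z^a` fixed by `a`, `v = z * z^b` fixed by `b`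
    set u := z * (a * z * a⁻¹) with hu
    set v := z * (b * z * b⁻¹) with hv
    have huP : u ∈ P := P.mul_mem hz hza
    have hvP : v ∈ P := P.mul_mem hz hzb
    have hau : a * u * a⁻¹ = u := by
      have e1 : a * u * a⁻¹ = (a * z * a⁻¹) * ((a * a) * z * (a * a)⁻¹) := by rw [hu]; group
      rw [e1, ha2]
      simp only [one_mul, inv_one, mul_one]
      exact h45q_comm P hC hza hz
    have hbv : b * v * b⁻¹ = v := by
      have e1 : b * v * b⁻¹ = (b * z * b⁻¹) * ((b * b) * z * (b * b)⁻¹) := by rw [hv]; group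
      rw [e1, hb2]
      simp only [one_mul, inv_one, mul_one]
      exact h45q_comm P hC hzb hz
    -- `u, v ∈ {1, x, x⁻¹}`, all fixed by `a` and `b`
    have hbxinv : b * x⁻¹ * b⁻¹ = x⁻¹ := by
      have e : b * x⁻¹ * b⁻¹ = (b * x * b⁻¹)⁻¹ := by group
      rw [e, h]
    have haxinv : a * x⁻¹ * a⁻¹ = x⁻¹ := by
      have e : a * x⁻¹ * a⁻¹ = (a * x * a⁻¹)⁻¹ := by group
      rw [e, hax]
    have hbu : b * u * b⁻¹ = u := by
      rcases h45q_fix_eq P hC hP hexp ha2 ha1 hx hx1 hax huP hau with h' | h' | h'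
      · rw [h']; group
      · rw [h']; exact h
      · rw [h']; exact hbxinv
    have hav : a * v * a⁻¹ = v := by
      rcases h45q_fix_eq P hC hP hexp hb2 hb1 hx hx1 h hvP hbv with h' | h' | h'
      · rw [h']; group
      · rw [h']; exact hax
      · rw [h']; exact haxinv
    -- `z^a = z⁻¹ u`, `z^b = z⁻¹ v`, `z^c = z * (u⁻¹ v)`
    set d := u⁻¹ * v with hd
    have hdP : d ∈ P := P.mul_mem (P.inv_mem huP) hvP
    have hcd : (a * b) * d * (a * b)⁻¹ = d := by
      have e : (a * b) * d * (a * b)⁻¹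
          = (a * (b * u * b⁻¹) * a⁻¹)⁻¹ * (a * (b * v * b⁻¹) * a⁻¹) := by rw [hd]; group
      rw [e, hbu, hbv, hau, hav]
    have hcz : (a * b) * z * (a * b)⁻¹ = z * d := by
      have hzb' : b * z * b⁻¹ = z⁻¹ * v := by rw [hv]; group
      have hza' : a * z * a⁻¹ = z⁻¹ * u := by rw [hu]; group
      have e : (a * b) * z * (a * b)⁻¹ = a * (b * z * b⁻¹) * a⁻¹ := by group
      rw [e, hzb']
      have e2 : a * (z⁻¹ * v) * a⁻¹ = (a * z * a⁻¹)⁻¹ * (a * v * a⁻¹) := by group
      rw [e2, hav, hza', hd]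
      have hcomm : u⁻¹ * z = z * u⁻¹ := h45q_comm P hC (P.inv_mem huP) hz
      calc (z⁻¹ * u)⁻¹ * v = (u⁻¹ * z) * v := by group
        _ = (z * u⁻¹) * v := by rw [hcomm]
        _ = z * (u⁻¹ * v) := by group
    -- apply `c` twice
    have hcc : (a * b) * ((a * b) * z * (a * b)⁻¹) * (a * b)⁻¹ = z := by
      have e : (a * b) * ((a * b) * z * (a * b)⁻¹) * (a * b)⁻¹
          = ((a * b) * (a * b)) * z * ((a * b) * (a * b))⁻¹ := by group
      rw [e, hc2]; group
    have hdd : d * d = 1 := by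
      have e : (a * b) * (z * d) * (a * b)⁻¹
          = ((a * b) * z * (a * b)⁻¹) * ((a * b) * d * (a * b)⁻¹) := by group
      rw [hcz] at hcc
      rw [e, hcz, hcd] at hcc
      -- z * d * d = z
      have : z * (d * d) = z * 1 := by rw [mul_one, ← mul_assoc]; exact hcc
      exact mul_left_cancel this
    have hd1 : d = 1 := by
      have h3 := hexp d hdP
      calc d = d ^ 3 * (d * d)⁻¹ := by group
        _ = 1 := by rw [h3, hdd]; simp
    rw [hcz, hd1, mul_one]
  · exact h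

end

/-- (Q1) of the S3C sub-server -/
theorem s3c_structure {G : Type u} [Group G] [Finite G] (P : Subgroup G) (hP : Nat.card P = 9)
    (hexp : ∀ x ∈ P, x ^ 3 = 1) (hC : Subgroup.centralizer (P : Set G) = P)
    (hN : Nat.card (Subgroup.normalizer (P : Set G)) = 36)
    (h4 : ∀ u ∈ Subgroup.normalizer (P : Set G), orderOf u ≠ 4) :
    ∃ x x' a b : G, x ∈ P ∧ x' ∈ P ∧ x ≠ 1 ∧ x' ≠ 1 ∧
      a ∈ Subgroup.normalizer (P : Set G) ∧ b ∈ Subgroup.normalizer (P : Set G) ∧
      orderOf a = 2 ∧ orderOf b = 2 ∧ a * b = b * a ∧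
      a * x * a⁻¹ = x ∧ a * x' * a⁻¹ = x'⁻¹ ∧ b * x * b⁻¹ = x⁻¹ ∧ b * x' * b⁻¹ = x' := by
  classical
  set N : Subgroup G := Subgroup.normalizer (P : Set G) with hNdef
  -- a subgroup `T` of order 4 of `N`
  obtain ⟨T, hT⟩ := Sylow.exists_subgroup_card_pow_prime (G := ↥N) 2 (n := 2) (by rw [hN]; norm_num)
  have hT4 : Nat.card T = 4 := by rw [hT]; norm_num
  -- every element of `T` squares to 1
  have hsq : ∀ t : ↥N, t ∈ T → t * t = 1 := by
    intro t ht
    have h1 : orderOf (⟨t, ht⟩ : T) ∣ 4 := by rw [← hT4]; exact orderOf_dvd_natCard _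
    have h2 : orderOf (⟨t, ht⟩ : T) = orderOf t := Subgroup.orderOf_mk t ht
    have h3 : orderOf (t : G) = orderOf t := Subgroup.orderOf_coe t
    rw [h2] at h1
    have h5 : orderOf t ≠ 4 := by rw [← h3]; exact h4 t.1 t.2
    have h6 : orderOf t ∣ 2 := by
      have hle : orderOf t ≤ 4 := Nat.le_of_dvd (by norm_num) h1
      interval_cases h : orderOf t
      · simp at h1
      · norm_num
      · norm_num
      · omega
      · exact absurd rfl h5
    have := orderOf_dvd_iff_pow_eq_one.1 h6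
    rwa [pow_two] at this
  -- two distinct nonidentity elements
  have hTne : T ≠ ⊥ := by
    intro h
    rw [h, Subgroup.card_bot] at hT4
    omega
  obtain ⟨a0', ha0'⟩ := (Subgroup.ne_bot_iff_exists_ne_one).1 hTne
  obtain ⟨a0, ha0T, ha01⟩ : ∃ a0 : ↥N, a0 ∈ T ∧ a0 ≠ 1 :=
    ⟨a0'.1, a0'.2, fun h1 => ha0' (Subtype.ext h1)⟩
  have ha0sq := hsq a0 ha0T
  have ha0ord : orderOf a0 = 2 := orderOf_eq_prime (by rw [pow_two]; exact ha0sq) ha01
  obtain ⟨b0, hb0T, hb0z⟩ : ∃ b0 ∈ T, b0 ∉ Subgroup.zpowers a0 := by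
    by_contra hcon
    push Not at hcon
    have hle : T ≤ Subgroup.zpowers a0 := hcon
    have := Subgroup.card_le_of_le hle
    rw [hT4, Nat.card_zpowers, ha0ord] at this
    omega
  have hb01 : b0 ≠ 1 := fun h => hb0z (h ▸ Subgroup.one_mem _)
  have hb0a : b0 ≠ a0 := fun h => hb0z (h ▸ Subgroup.mem_zpowers a0)
  have hb0sq := hsq b0 hb0T
  have hab0sq := hsq (a0 * b0) (T.mul_mem ha0T hb0T)
  have ha0inv : a0⁻¹ = a0 := inv_eq_of_mul_eq_one_right ha0sq
  have hb0inv : b0⁻¹ = b0 := inv_eq_of_mul_eq_one_right hb0sq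
  have hcomm0 : a0 * b0 = b0 * a0 := by
    have h1 : (a0 * b0)⁻¹ = a0 * b0 := inv_eq_of_mul_eq_one_right hab0sq
    calc a0 * b0 = (a0 * b0)⁻¹ := h1.symm
      _ = b0⁻¹ * a0⁻¹ := by group
      _ = b0 * a0 := by rw [ha0inv, hb0inv]
  have hab01 : a0 * b0 ≠ 1 := by
    intro h
    apply hb0a
    have : b0 = a0⁻¹ := eq_inv_of_mul_eq_one_right h
    rw [this, ha0inv]
  -- pass to `G`
  set a : G := (a0 : G) with hadef
  set b : G := (b0 : G) with hbdef
  have haN : a ∈ N := a0.2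
  have hbN : b ∈ N := b0.2
  have ha2 : a * a = 1 := by
    have := congrArg (fun t : ↥N => (t : G)) ha0sq
    simpa using this
  have hb2 : b * b = 1 := by
    have := congrArg (fun t : ↥N => (t : G)) hb0sq
    simpa using this
  have ha1 : a ≠ 1 := fun h => ha01 (Subtype.ext h)
  have hb1 : b ≠ 1 := fun h => hb01 (Subtype.ext h)
  have hab : a * b = b * a := by
    have := congrArg (fun t : ↥N => (t : G)) hcomm0
    simpa using this
  have hab1 : a * b ≠ 1 := by
    intro h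
    apply hab01
    apply Subtype.ext
    simpa using h
  -- the general conclusion from a good pair
  have key : ∀ a b : G, a ∈ N → b ∈ N → a * a = 1 → b * b = 1 → a ≠ 1 → b ≠ 1 → a * b = b * a →
      a * b ≠ 1 → (∃ x ∈ P, x ≠ 1 ∧ a * x * a⁻¹ = x) → (∃ x' ∈ P, x' ≠ 1 ∧ b * x' * b⁻¹ = x') →
      ∃ x x' a b : G, x ∈ P ∧ x' ∈ P ∧ x ≠ 1 ∧ x' ≠ 1 ∧
        a ∈ Subgroup.normalizer (P : Set G) ∧ b ∈ Subgroup.normalizer (P : Set G) ∧
        orderOf a = 2 ∧ orderOf b = 2 ∧ a * b = b * a ∧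
        a * x * a⁻¹ = x ∧ a * x' * a⁻¹ = x'⁻¹ ∧ b * x * b⁻¹ = x⁻¹ ∧ b * x' * b⁻¹ = x' := by
    intro a b haN hbN ha2 hb2 ha1 hb1 hab hab1 ⟨x, hx, hx1, hax⟩ ⟨x', hx', hx'1, hbx'⟩
    have hba1 : b * a ≠ 1 := by rw [← hab]; exact hab1
    refine ⟨x, x', a, b, hx, hx', hx1, hx'1, haN, hbN,
      orderOf_eq_prime (by rw [pow_two]; exact ha2) ha1,
      orderOf_eq_prime (by rw [pow_two]; exact hb2) hb1, hab, hax, ?_, ?_, hbx'⟩
    · exact h45q_sign P hC hP hexp hbN haN hb2 ha2 hb1 ha1 hab.symm hba1 hx' hx'1 hbx'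
    · exact h45q_sign P hC hP hexp haN hbN ha2 hb2 ha1 hb1 hab hab1 hx hx1 hax
  -- the product `c = a * b`
  have hcN : a * b ∈ N := N.mul_mem haN hbN
  have hc2 : (a * b) * (a * b) = 1 := by
    calc (a * b) * (a * b) = a * (b * a) * b := by group
      _ = a * (a * b) * b := by rw [hab]
      _ = (a * a) * (b * b) := by group
      _ = 1 := by rw [ha2, hb2, one_mul]
  by_cases hia : ∀ z ∈ P, a * z * a⁻¹ = z⁻¹
  · -- `a` inverts: `b` and `c` do not
    have hib : ¬ ∀ z ∈ P, b * z * b⁻¹ = z⁻¹ := by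
      intro hib
      exact h45q_not_cent P hC hexp hc2 hab1 (h45q_cent_of_two_inv P hia hib)
    have hic : ¬ ∀ z ∈ P, (a * b) * z * (a * b)⁻¹ = z⁻¹ := by
      intro hic
      have h1 := h45q_cent_of_two_inv P hia hic
      have e : a * (a * b) = b := by rw [← mul_assoc, ha2, one_mul]
      rw [e] at h1
      exact h45q_not_cent P hC hexp hb2 hb1 h1
    have hbc : b * (a * b) = (a * b) * b := by
      calc b * (a * b) = (b * a) * b := by group
        _ = (a * b) * b := by rw [hab]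
    have hbc1 : b * (a * b) ≠ 1 := by
      intro h
      apply ha1
      have : b * (a * b) = a := by
        calc b * (a * b) = (b * a) * b := by group
          _ = (a * b) * b := by rw [hab]
          _ = a * (b * b) := by group
          _ = a := by rw [hb2, mul_one]
      rw [← this]; exact h
    exact key b (a * b) hbN hcN hb2 hc2 hb1 hab1 hbc hbc1
      (h45q_fix_of_not_inv P hC hbN hb2 hib) (h45q_fix_of_not_inv P hC hcN hc2 hic)
  · by_cases hib : ∀ z ∈ P, b * z * b⁻¹ = z⁻¹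
    · -- `b` inverts, `a` does not; `c` does not
      have hic : ¬ ∀ z ∈ P, (a * b) * z * (a * b)⁻¹ = z⁻¹ := by
        intro hic
        have h1 := h45q_cent_of_two_inv P hic hib
        have e : (a * b) * b = a := by rw [mul_assoc, hb2, mul_one]
        rw [e] at h1
        exact h45q_not_cent P hC hexp ha2 ha1 h1
      have hac : a * (a * b) = (a * b) * a := by
        calc a * (a * b) = a * (b * a) := by rw [hab]
          _ = (a * b) * a := by group
      have hac1 : a * (a * b) ≠ 1 := by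
        intro h
        apply hb1
        have : a * (a * b) = b := by rw [← mul_assoc, ha2, one_mul]
        rw [← this]; exact h
      exact key a (a * b) haN hcN ha2 hc2 ha1 hab1 hac hac1
        (h45q_fix_of_not_inv P hC haN ha2 hia) (h45q_fix_of_not_inv P hC hcN hc2 hic)
    · exact key a b haN hbN ha2 hb2 ha1 hb1 hab hab1
        (h45q_fix_of_not_inv P hC haN ha2 hia) (h45q_fix_of_not_inv P hC hbN hb2 hib)

end Cfsg.Agent.Helper45.O2520
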