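import Mathlib
import Cfsg.Agent.Lib.Helper18.O3K0
import Cfsg.Agent.S0280

/-!
# O3K server (helper18, S2363): the unitary piece `concl_psu` (helper45)

`gcd(n,q+1) (q+1) |PSU_n(q)| = q^(n(n-1)/2) ∏_{i<n} (q^(i+1) ± 1)` (S0280); the factor `q + 1` (`i = 0`) is absorbed
by `d`, the others are paired: `(q^(2k+2) - 1)(q^(2k+3) + 1) < q^(4k+5)`.
-/

set_option autoImplicit false

namespace Cfsg.Agent.Helper45.O3K

open Cfsg Cfsg.Agent.Helper18.O3K

/-- the factor of index `i` in the order formula of `PSU` -/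
def h45term (q i : ℕ) : ℕ := if Even i then q ^ (i + 1) + 1 else q ^ (i + 1) - 1

theorem h45_pair (q : ℕ) (hq : 1 ≤ q) (k : ℕ) :
    (q ^ (2 * k + 2) - 1) * (q ^ (2 * k + 3) + 1) < q ^ (4 * k + 5) := by
  have h1 : 1 ≤ q ^ (2 * k + 2) := Nat.one_le_pow _ _ hq
  have h2 : q ^ (2 * k + 2) ≤ q ^ (2 * k + 3) := Nat.pow_le_pow_right hq (by omega)
  obtain ⟨a, ha⟩ : ∃ a, q ^ (2 * k + 2) = a + 1 := ⟨q ^ (2 * k + 2) - 1, by omega⟩
  have h3 : q ^ (4 * k + 5) = q ^ (2 * k + 2) * q ^ (2 * k + 3) := by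
    rw [← pow_add]; congr 1; omega
  rw [h3, ha, Nat.add_sub_cancel]
  rw [ha] at h2
  nlinarith

theorem h45_term_odd (q k : ℕ) : h45term q (2 * k + 1) = q ^ (2 * k + 2) - 1 := by
  unfold h45term
  rw [if_neg (by simp)]

theorem h45_term_even (q k : ℕ) : h45term q (2 * k + 2) = q ^ (2 * k + 3) + 1 := by
  unfold h45term
  rw [if_pos (by simp [Nat.even_add, parity_simps])]

theorem h45_S_even (q : ℕ) (hq : 1 ≤ q) (k : ℕ) :
    ∏ i ∈ Finset.range (2 * k), h45term q (i + 1) ≤ q ^ (2 * k ^ 2 + 3 * k) := by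
  induction k with
  | zero => simp
  | succ k ih =>
    have e : 2 * (k + 1) = 2 * k + 1 + 1 := by ring
    rw [e, Finset.prod_range_succ, Finset.prod_range_succ, h45_term_odd, h45_term_even, mul_assoc]
    have := h45_pair q hq k
    calc _ ≤ q ^ (2 * k ^ 2 + 3 * k) * q ^ (4 * k + 5) := Nat.mul_le_mul ih this.le
      _ = _ := by rw [← pow_add]; congr 1; ring

theorem h45_S_even_lt (q : ℕ) (hq : 1 ≤ q) (k : ℕ) :
    ∏ i ∈ Finset.range (2 * k + 2), h45term q (i + 1) < q ^ (2 * k ^ 2 + 7 * k + 5) := by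
  rw [Finset.prod_range_succ, Finset.prod_range_succ, h45_term_odd, h45_term_even, mul_assoc]
  have h1 := h45_pair q hq k
  have h2 := h45_S_even q hq k
  calc _ < q ^ (2 * k ^ 2 + 3 * k) * q ^ (4 * k + 5) :=
        Nat.mul_lt_mul_of_le_of_lt h2 h1 (pow_pos hq _)
    _ = _ := by rw [← pow_add]; congr 1; ring

theorem h45_S_odd_lt (q : ℕ) (hq : 1 ≤ q) (k : ℕ) :
    ∏ i ∈ Finset.range (2 * k + 3), h45term q (i + 1) < q ^ (2 * k ^ 2 + 9 * k + 9) := by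
  rw [Finset.prod_range_succ]
  have e : 2 * k + 2 + 1 = 2 * (k + 1) + 1 := by ring
  rw [e, h45_term_odd]
  have h1 := h45_S_even_lt q hq k
  have h2 : q ^ (2 * (k + 1) + 2) - 1 ≤ q ^ (2 * k + 4) := by
    have : 2 * (k + 1) + 2 = 2 * k + 4 := by ring
    rw [this]; exact Nat.sub_le _ _
  calc _ < q ^ (2 * k ^ 2 + 7 * k + 5) * q ^ (2 * k + 4) :=
        Nat.mul_lt_mul_of_lt_of_le h1 h2 (pow_pos hq _)
    _ = _ := by rw [← pow_add]; congr 1; ring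

/-- the cube bound, `n = m + 1 ≥ 3` -/
theorem h45_S_cube (q : ℕ) (hq : 1 ≤ q) (m : ℕ) (hm : 2 ≤ m) :
    (∏ i ∈ Finset.range m, h45term q (i + 1)) ^ 3 < q ^ (5 * ((m + 1) * m / 2)) := by
  obtain ⟨k, rfl | rfl⟩ : ∃ k, m = 2 * k + 2 ∨ m = 2 * k + 3 := by
    rcases Nat.even_or_odd' m with ⟨j, rfl | rfl⟩
    · exact ⟨j - 1, Or.inl (by omega)⟩
    · exact ⟨j - 1, Or.inr (by omega)⟩
  · have hN : (2 * k + 2 + 1) * (2 * k + 2) / 2 = (2 * k + 3) * (k + 1) :=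
      Nat.div_eq_of_eq_mul_left (by norm_num) (by ring)
    rw [hN]
    have h1 := h45_S_even_lt q hq k
    calc _ < (q ^ (2 * k ^ 2 + 7 * k + 5)) ^ 3 := Nat.pow_lt_pow_left h1 (by norm_num)
      _ = q ^ (3 * (2 * k ^ 2 + 7 * k + 5)) := by rw [← pow_mul]; congr 1; ring
      _ ≤ _ := Nat.pow_le_pow_right hq (by nlinarith)
  · have hN : (2 * k + 3 + 1) * (2 * k + 3) / 2 = (k + 2) * (2 * k + 3) :=
      Nat.div_eq_of_eq_mul_left (by norm_num) (by ring)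
    rw [hN]
    have h1 := h45_S_odd_lt q hq k
    calc _ < (q ^ (2 * k ^ 2 + 9 * k + 9)) ^ 3 := Nat.pow_lt_pow_left h1 (by norm_num)
      _ = q ^ (3 * (2 * k ^ 2 + 9 * k + 9)) := by rw [← pow_mul]; congr 1; ring
      _ ≤ _ := Nat.pow_le_pow_right hq (by nlinarith)

variable {p : ℕ}

theorem h45_not_dvd_term (hp : p.Prime) {q g : ℕ} (hq : q = p ^ g) (hg : 1 ≤ g) (i : ℕ) :
    ¬ p ∣ h45term q i := by
  unfold h45term
  split_ifs
  · exact not_dvd_pow_add_one hp hq hg (by omega)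
  · exact not_dvd_pow_sub_one hp hq hg (by omega)

/-- (PSU) of the O3K server -/
theorem concl_psu (hp : p.Prime) (F : Type) [Field F] [Fintype F] [CharP F p] (n q : ℕ)
    (hF : Fintype.card F = q ^ 2) (hn : 3 ≤ n) : Concl p (PSU n F q) := by
  obtain ⟨f, hf1, hf⟩ := card_eq_pow hp F
  have hq2 : q ^ 2 = p ^ f := by rw [← hF, hf]
  have hqd : q ∣ p ^ f := ⟨q, by rw [← hq2]; ring⟩
  obtain ⟨g, -, hqg⟩ := (Nat.dvd_prime_pow hp).1 hqd
  have hg1 : 1 ≤ g := by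
    by_contra h
    have h0 : g = 0 := by omega
    subst h0
    rw [pow_zero] at hqg
    rw [hqg, one_pow] at hq2
    have := Nat.one_lt_pow (by omega : f ≠ 0) hp.one_lt
    omega
  have hq1 : 1 ≤ q := by rw [hqg]; exact Nat.one_le_pow _ _ hp.pos
  obtain ⟨m, rfl⟩ : ∃ m, n = m + 1 := ⟨n - 1, by omega⟩
  have hcard := Cfsg.Agent.S0280.result hF (m + 1) (by omega)
  rw [Finset.prod_range_succ', Nat.add_sub_cancel] at hcard
  have hS : ∏ i ∈ Finset.range m, (if Even (i + 1) then q ^ (i + 1 + 1) + 1 else q ^ (i + 1 + 1) - 1)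
      = ∏ i ∈ Finset.range m, h45term q (i + 1) := rfl
  have h0 : (if Even 0 then q ^ (0 + 1) + 1 else q ^ (0 + 1) - 1) = q + 1 := by simp
  rw [hS, h0] at hcard
  have hnq1 : ¬ p ∣ q + 1 := by
    have := not_dvd_pow_add_one hp hqg hg1 (e := 1) le_rfl
    rwa [pow_one] at this
  refine concl_of_mul hp (Nat.gcd (m + 1) (q + 1) * (q + 1)) (g * ((m + 1) * m / 2))
    ((∏ i ∈ Finset.range m, h45term q (i + 1)) * (q + 1)) ?_ ?_ ?_ ?_
  · rw [mul_assoc, hcard, hqg, ← pow_mul]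
  · intro h
    rcases (Nat.Prime.dvd_mul hp).1 h with h | h
    · exact hnq1 (h.trans (Nat.gcd_dvd_right _ _))
    · exact hnq1 h
  · intro h
    rcases (Nat.Prime.dvd_mul hp).1 h with h | h
    · obtain ⟨i, -, hi⟩ := (Prime.dvd_finsetProd_iff hp.prime _).mp h
      exact h45_not_dvd_term hp hqg hg1 _ hi
    · exact hnq1 h
  · have hc := h45_S_cube q hq1 m (by omega)
    have hgcd : 1 ≤ Nat.gcd (m + 1) (q + 1) := Nat.gcd_pos_of_pos_left _ (by omega)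
    have e1 : p ^ (5 * (g * ((m + 1) * m / 2))) = q ^ (5 * ((m + 1) * m / 2)) := by
      rw [hqg, ← pow_mul]; congr 1; ring
    rw [e1, mul_pow, mul_pow]
    have h3 : 1 ≤ Nat.gcd (m + 1) (q + 1) ^ 3 := Nat.one_le_pow _ _ hgcd
    have hq3 : 0 < (q + 1) ^ 3 := by positivity
    calc (∏ i ∈ Finset.range m, h45term q (i + 1)) ^ 3 * (q + 1) ^ 3
        < q ^ (5 * ((m + 1) * m / 2)) * (q + 1) ^ 3 := Nat.mul_lt_mul_of_pos_right hc hq3
      _ = 1 * (q + 1) ^ 3 * q ^ (5 * ((m + 1) * m / 2)) := by ring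
      _ ≤ Nat.gcd (m + 1) (q + 1) ^ 3 * (q + 1) ^ 3 * q ^ (5 * ((m + 1) * m / 2)) :=
          Nat.mul_le_mul_right _ (Nat.mul_le_mul_right _ h3)

end Cfsg.Agent.Helper45.O3K
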