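import Mathlib
import Cfsg.Agent.S1017
import Cfsg.Agent.Lib.Helper17.Simple
import Cfsg.Agent.Lib.Helper17.Sieve
import Cfsg.Agent.Lib.Helper17.SylowLink
import Cfsg.Agent.Lib.Helper75.FixKill

/-!
# S1022 (order 459648 = 2^7 * 3^3 * 7 * 19), piece (A) of helper8's proof: `n_19 = 96` is impossible

`|N(P19)| = 4788 = 2^2 * 3^2 * 7 * 19` and `|N : C|` divides `18`, so `7 ∣ |C(P19)|`; an element of
order 7 of `C(P19)` fixes `f` Sylow 19-subgroups with `f ≡ 1` mod 19, `f ≡ 96 ≡ 5` mod 7, `f < 96`: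
impossible.
-/

set_option autoImplicit false

namespace Cfsg.Agent.Helper45.O459648

open Nat MulAction Cfsg.Agent.Helper17 Cfsg.Agent.Helper17.Sieve Cfsg.Agent.Helper75.FixKill

universe u

/-- (A) a simple group of order 459648 does not have exactly 96 Sylow 19-subgroups. -/
theorem false_of_ninetysix {G : Type u} [Group G] [Finite G] [IsSimpleGroup G]
    (hG : Nat.card G = 459648) (h96 : Nat.card (Sylow 19 G) = 96) : False := by
  have h2 : 2 < Nat.card G := by rw [hG]; norm_num
  have p19 : Fact (Nat.Prime 19) := ⟨by norm_num⟩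
  have p7 : Fact (Nat.Prime 7) := ⟨by norm_num⟩
  have hn19 : Nat.card G = 19 ^ 1 * 24192 := by rw [hG]; norm_num
  obtain ⟨P⟩ : Nonempty (Sylow 19 G) := inferInstance
  have hP : Nat.card (P : Subgroup G) = 19 := by
    have := sylow_card_eq P hn19 (by norm_num); rwa [pow_one] at this
  have hN := card_normalizer_mul_sylow_count P
  rw [hG, h96] at hN
  have hN' : Nat.card ↥(Subgroup.normalizer ((P : Subgroup G) : Set G)) = 4788 := by omega
  obtain ⟨e, he1, he2, he3⟩ := exists_e P hP (by rw [hG]; norm_num)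
  rw [hN'] at he3
  have he : e = 2 ∨ e = 3 ∨ e = 6 ∨ e = 9 ∨ e = 18 := by
    have hm : e ∈ Nat.divisors 18 := Nat.mem_divisors.2 ⟨he1, by norm_num⟩
    simp only [Nat.divisors_ofNat, Finset.mem_insert, Finset.mem_singleton] at hm
    omega
  have hC7 : 7 ∣ Nat.card ↥(Subgroup.centralizer ((P : Subgroup G) : Set G)) := by
    rcases he with rfl | rfl | rfl | rfl | rfl <;> omega
  obtain ⟨f, m', hf⟩ := exists_fix (p := 19) (r := 7) h2 (by norm_num) P hP
    (by rw [h96]; norm_num) hC7
  rw [h96] at hf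
  obtain ⟨_, hf1, hf2, _, hf4, _⟩ := hf
  omega

end Cfsg.Agent.Helper45.O459648
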