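import Mathlib
import Cfsg.Agent.S1017
import Cfsg.Agent.S0015
import Cfsg.Agent.Lib.Helper17.Simple
import Cfsg.Agent.Lib.Helper17.Sieve
import Cfsg.Agent.Lib.Helper17.SylowLink
import Cfsg.Agent.Lib.Helper17.SylowInter2
import Cfsg.Agent.Lib.Helper17.FamilyCount
import Cfsg.Agent.Lib.Helper75.FixKill
import Cfsg.Agent.Lib.Helper85.O4320BASE2

/-!
# S1022 (order 459648 = 2^7 * 3^3 * 7 * 19): the case `n_19 = 1008` (helper8's argument, #7592)

`N = N(P19)` has order `456`, `C = C(P19)`, `T` a subgroup of order 8 of `N`, `S ≥ T` a Sylow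
2-subgroup of `G` (so `S ∩ N = T`), `Y = T ∩ C` (index at most 2 in `T`).
KEY TOOL: a proper subgroup `X ≥ P, T` lies in `N`.
Pick `x ∈ N_S(T) \ T` with `x² ∈ T`.  If `Y^x = Y` then `x ∈ N_G(Y) ≤ N`.  Otherwise
`D = Y ∩ Y^x ≠ 1` is normalized by `T` and `x`, so some involution `z ∈ D` is centralized by `T` and
`x`, and `x ∈ C_G(z) ≤ N`.  In both cases `x ∈ S ∩ N = T`, a contradiction.
-/

set_option autoImplicit false

namespace Cfsg.Agent.Helper45.O459648

open Nat MulAction Cfsg.Agent.Helper17 Cfsg.Agent.Helper17.Sieve Cfsg.Agent.Helper75.FixKill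

universe u

/-- the centralizer of a subgroup is normalized by its normalizer -/
theorem h45b_conj_mem_centralizer {G : Type*} [Group G] (P : Subgroup G) (n c : G)
    (hn : n ∈ Subgroup.normalizer (P : Set G)) (hc : c ∈ Subgroup.centralizer (P : Set G)) :
    n * c * n⁻¹ ∈ Subgroup.centralizer (P : Set G) := by
  rw [Subgroup.mem_centralizer_iff]
  intro y hy
  have hy' : n⁻¹ * y * n ∈ P := by
    have := (Subgroup.mem_normalizer_iff.mp (Subgroup.inv_mem _ hn) y).mp hy
    simpa using this
  have h1 : (n⁻¹ * y * n) * c = c * (n⁻¹ * y * n) := (Subgroup.mem_centralizer_iff.mp hc) _ hy'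
  calc y * (n * c * n⁻¹) = n * ((n⁻¹ * y * n) * c) * n⁻¹ := by group
    _ = n * (c * (n⁻¹ * y * n)) * n⁻¹ := by rw [h1]
    _ = n * c * n⁻¹ * y := by group

/-- A nontrivial subgroup `D` of a `2`-group `A` that is normalized by `A` contains an involution
centralized by `A`. -/
theorem h45b_exists_central_involution {G : Type*} [Group G] [Finite G] (A D : Subgroup G)
    (hA : IsPGroup 2 A) (hDA : D ≤ A) (hAD : A ≤ Subgroup.normalizer (D : Set G)) (hD : D ≠ ⊥) :
    ∃ z : G, orderOf z = 2 ∧ z ∈ D ∧ ∀ a ∈ A, a * z = z * a := by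
  have p2 : Fact (Nat.Prime 2) := ⟨Nat.prime_two⟩
  have hnil : Group.IsNilpotent ↥A := hA.isNilpotent
  have hWn : (D.subgroupOf A).Normal := by
    refine ⟨fun w hw s => ?_⟩
    rw [Subgroup.mem_subgroupOf] at hw ⊢
    have : ((s * w * s⁻¹ : ↥A) : G) = (s : G) * (w : G) * (s : G)⁻¹ := by simp
    rw [this]
    exact (Subgroup.mem_normalizer_iff.mp (hAD s.2) _).mp hw
  have hW : D.subgroupOf A ≠ ⊥ := by
    intro h
    apply hD
    rw [Subgroup.subgroupOf_eq_bot] at h
    rw [eq_bot_iff]
    intro d hd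
    have : d ∈ D ⊓ A := ⟨hd, hDA hd⟩
    rw [disjoint_iff.mp h] at this
    exact this
  have hZ := Cfsg.Agent.S0015.normal_inf_center_ne_bot _ hW
  set Z := D.subgroupOf A ⊓ Subgroup.center ↥A with hZdef
  have hZ1 : Nat.card ↥Z ≠ 1 := fun h => hZ (Subgroup.card_eq_one.1 h)
  obtain ⟨k, hk⟩ : ∃ k, Nat.card ↥Z = 2 ^ k := by
    have hpg : IsPGroup 2 ↥Z := hA.to_subgroup Z
    exact (IsPGroup.iff_card.1 hpg)
  have h2Z : 2 ∣ Nat.card ↥Z := by
    rw [hk]
    rcases k with _ | k
    · rw [hk] at hZ1; exact absurd rfl hZ1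
    · exact ⟨2 ^ k, by rw [pow_succ]; ring⟩
  obtain ⟨z, hz⟩ := exists_prime_orderOf_dvd_card' (G := ↥Z) 2 h2Z
  refine ⟨((z : ↥A) : G), ?_, ?_, ?_⟩
  · rw [Subgroup.orderOf_coe, Subgroup.orderOf_coe]; exact hz
  · exact Subgroup.mem_subgroupOf.1 z.2.1
  · intro s hs
    have hc := (Subgroup.mem_center_iff.1 z.2.2) ⟨s, hs⟩
    have := congrArg (fun t : ↥A => (t : G)) hc
    simpa using this

/-- KEY TOOL (helper81): a proper subgroup containing `P` and a subgroup `T ≤ N(P)` of order 8 lies
in `N(P)`. -/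
theorem key_tool {G : Type u} [Group G] [Finite G] [IsSimpleGroup G] (hna : ¬ IsMulCommutative G)
    (hG : Nat.card G = 459648) (h1008 : Nat.card (Sylow 19 G) = 1008)
    [p19 : Fact (Nat.Prime 19)] (P : Sylow 19 G)
    (hP : Nat.card (P : Subgroup G) = 19)
    (hN : Nat.card ↥(Subgroup.normalizer ((P : Subgroup G) : Set G)) = 456)
    (X T : Subgroup G) (hPX : (P : Subgroup G) ≤ X) (hTX : T ≤ X)
    (hTN : T ≤ Subgroup.normalizer ((P : Subgroup G) : Set G)) (hT : Nat.card T = 8)
    (hX : X ≠ ⊤) : X ≤ Subgroup.normalizer ((P : Subgroup G) : Set G) := by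
  have hcard := Cfsg.Agent.S1017.card_eq_card_mul X P hPX
  have hk := Cfsg.Agent.Helper85.O4320.card_sylow_le_mod 19 P hP X hPX
  have hkle : Nat.card {Q : Sylow 19 G // (Q : Subgroup G) ≤ X} ≤ 1008 := by
    rw [← h1008]; exact Finite.card_subtype_le _
  set k := Nat.card {Q : Sylow 19 G // (Q : Subgroup G) ≤ X} with hkdef
  set m := Nat.card ↥(Subgroup.normalizer ((P : Subgroup G) : Set G) ⊓ X) with hmdef
  have hm19 : 19 ∣ m := by
    rw [← hP]; exact Subgroup.card_dvd_of_le (le_inf Subgroup.le_normalizer hPX)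
  have hm8 : 8 ∣ m := by
    rw [← hT]; exact Subgroup.card_dvd_of_le (le_inf hTN hTX)
  have hm456 : m ∣ 456 := by
    rw [← hN]; exact Subgroup.card_dvd_of_le inf_le_left
  have hXG : Nat.card X ∣ 459648 := by rw [← hG]; exact Subgroup.card_subgroup_dvd_card X
  rw [hcard] at hXG
  have hk1 : k % 19 = 1 := by
    have := hk; unfold Nat.ModEq at this; omega
  have hm2 : m = 152 ∨ m = 456 := by
    have hm' : m ∈ Nat.divisors 456 := Nat.mem_divisors.2 ⟨hm456, by norm_num⟩
    simp only [Nat.divisors_ofNat, Finset.mem_insert, Finset.mem_singleton] at hm'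
    omega
  have hk2 : k = 1 ∨ k = 1008 := by
    rcases hm2 with h | h
    · rw [h] at hXG
      have hk' : k ∣ 3024 := by
        have : k * 152 ∣ 3024 * 152 := by norm_num; exact hXG
        exact Nat.dvd_of_mul_dvd_mul_right (by norm_num) this
      have hk'' : k ∈ Nat.divisors 3024 := Nat.mem_divisors.2 ⟨hk', by norm_num⟩
      simp only [Nat.divisors_ofNat, Finset.mem_insert, Finset.mem_singleton] at hk''
      omega
    · rw [h] at hXG
      have hk' : k ∣ 1008 := by
        have : k * 456 ∣ 1008 * 456 := by norm_num; exact hXG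
        exact Nat.dvd_of_mul_dvd_mul_right (by norm_num) this
      have hk'' : k ∈ Nat.divisors 1008 := Nat.mem_divisors.2 ⟨hk', by norm_num⟩
      simp only [Nat.divisors_ofNat, Finset.mem_insert, Finset.mem_singleton] at hk''
      omega
  rcases hk2 with h1 | h1
  · -- only one Sylow 19-subgroup in `X`
    have hsub : Subsingleton {Q : Sylow 19 G // (Q : Subgroup G) ≤ X} :=
      (Nat.card_eq_one_iff_unique.1 h1).1
    intro x hx
    have hxP : ((x • P : Sylow 19 G) : Subgroup G) ≤ X := by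
      intro y hy
      rw [Cfsg.Agent.S1017.mem_smul_sylow_iff] at hy
      have h3 : x⁻¹ * y * x ∈ X := hPX hy
      have h4 : y = x * (x⁻¹ * y * x) * x⁻¹ := by group
      rw [h4]
      exact X.mul_mem (X.mul_mem hx h3) (X.inv_mem hx)
    have := Subsingleton.elim (⟨x • P, hxP⟩ : {Q : Sylow 19 G // (Q : Subgroup G) ≤ X}) ⟨P, hPX⟩
    have h5 : x • P = P := congrArg Subtype.val this
    exact Sylow.smul_eq_iff_mem_normalizer.mp h5
  · exfalso
    have hidx := Subgroup.card_mul_index X
    rw [hcard, h1, hG] at hidx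
    rcases hm2 with h | h
    · rw [h] at hidx
      have h3 : X.index = 3 := by omega
      have hdvd := two_mul_card_dvd_factorial hna X hX
      rw [h3, hG] at hdvd
      exact absurd hdvd (by decide)
    · rw [h] at hidx
      have h3 : X.index = 1 := by omega
      exact hX (Subgroup.index_eq_one.1 h3)

/-- in a finite `2`-group-like situation: an element `x0` of `S` of `2`-power order normalizing `T` but
outside `T` has a power `x` normalizing `T`, outside `T`, with `x ^ 2 ∈ T`. -/
theorem h45b_exists_sq_mem {G : Type*} [Group G] (T : Subgroup G) (x0 : G) (n : ℕ)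
    (hx0 : x0 ∉ T) (hpow : x0 ^ (2 ^ n) ∈ T) :
    ∃ i : ℕ, x0 ^ (2 ^ i) ∉ T ∧ (x0 ^ (2 ^ i)) ^ 2 ∈ T := by
  classical
  have hex : ∃ i, x0 ^ (2 ^ i) ∈ T := ⟨n, hpow⟩
  have hspec := Nat.find_spec hex
  have hmin := fun m => Nat.find_min hex (m := m)
  set i := Nat.find hex with hi
  rcases Nat.eq_zero_or_pos i with h0 | hpos
  · exfalso
    rw [h0, pow_zero, pow_one] at hspec
    exact hx0 hspec
  · refine ⟨i - 1, hmin (i - 1) (by omega), ?_⟩
    have : (x0 ^ (2 ^ (i - 1))) ^ 2 = x0 ^ (2 ^ i) := by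
      rw [← pow_mul, ← pow_succ]
      congr 2
      omega
    rw [this]
    exact hspec

/-- the case `n_19 = 1008` (helper8's argument). -/
theorem false_of_thousandeight {G : Type u} [Group G] [Finite G] [IsSimpleGroup G]
    (hG : Nat.card G = 459648) (h1008 : Nat.card (Sylow 19 G) = 1008) : False := by
  have hna : ¬ IsMulCommutative G := not_comm_of_not_prime (by rw [hG]; norm_num)
  have p19 : Fact (Nat.Prime 19) := ⟨by norm_num⟩
  have p2 : Fact (Nat.Prime 2) := ⟨Nat.prime_two⟩
  have hn19 : Nat.card G = 19 ^ 1 * 24192 := by rw [hG]; norm_num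
  have hn2 : Nat.card G = 2 ^ 7 * 3591 := by rw [hG]; norm_num
  obtain ⟨P⟩ : Nonempty (Sylow 19 G) := inferInstance
  have hP : Nat.card (P : Subgroup G) = 19 := by
    have := sylow_card_eq P hn19 (by norm_num); rwa [pow_one] at this
  have hN0 := card_normalizer_mul_sylow_count P
  rw [hG, h1008] at hN0
  have hN : Nat.card ↥(Subgroup.normalizer ((P : Subgroup G) : Set G)) = 456 := by omega
  set N := Subgroup.normalizer ((P : Subgroup G) : Set G) with hNdef
  set C := Subgroup.centralizer ((P : Subgroup G) : Set G) with hCdef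
  -- a subgroup `T` of order 8 of `N` and a Sylow 2-subgroup `S ≥ T`
  obtain ⟨T, hTN, hT8⟩ := exists_subgroup_le_card N 2 3 (by rw [hN]; norm_num)
  have hT8' : Nat.card T = 8 := by rw [hT8]; norm_num
  have hTp : IsPGroup 2 T := IsPGroup.of_card hT8
  obtain ⟨S, hTS⟩ := hTp.exists_le_sylow
  have hS : Nat.card (S : Subgroup G) = 128 := by
    have := sylow_card_eq S hn2 (by norm_num); rw [this]; norm_num
  have hSN : (S : Subgroup G) ⊓ N = T := by
    symm
    apply Subgroup.eq_of_le_of_card_ge (le_inf hTS hTN)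
    have h1 : Nat.card ↥((S : Subgroup G) ⊓ N) ∣ 128 := by
      rw [← hS]; exact Subgroup.card_dvd_of_le inf_le_left
    have h2 : Nat.card ↥((S : Subgroup G) ⊓ N) ∣ 456 := by
      rw [← hN]; exact Subgroup.card_dvd_of_le inf_le_right
    have h3 : Nat.card ↥((S : Subgroup G) ⊓ N) ∣ 8 := Nat.dvd_gcd h1 h2
    rw [hT8']
    exact Nat.le_of_dvd (by norm_num) h3
  -- an element of `N_S(T) \ T`
  have hnil : Group.IsNilpotent ↥(S : Subgroup G) := S.2.isNilpotent
  have hlt : T.subgroupOf (S : Subgroup G) < ⊤ := by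
    rw [lt_top_iff_ne_top]
    intro h
    rw [Subgroup.subgroupOf_eq_top] at h
    have := Subgroup.card_le_of_le h
    rw [hS, hT8'] at this
    omega
  have hnc := Group.normalizerCondition_of_isNilpotent (G := ↥(S : Subgroup G)) _ hlt
  obtain ⟨x1, hx1N, hx1T⟩ := SetLike.exists_of_lt hnc
  -- replace by a power whose square lies in `T`
  have hx1pow : x1 ^ (2 ^ 7) ∈ T.subgroupOf (S : Subgroup G) := by
    have : x1 ^ (2 ^ 7) = 1 := by
      have h := pow_card_eq_one' (G := ↥(S : Subgroup G)) (x := x1)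
      rw [hS] at h
      norm_num
      exact h
    rw [this]; exact Subgroup.one_mem _
  obtain ⟨i, hi1, hi2⟩ := h45b_exists_sq_mem (T.subgroupOf (S : Subgroup G)) x1 7 hx1T hx1pow
  set x2 := x1 ^ (2 ^ i) with hx2def
  have hx2N : x2 ∈ Subgroup.normalizer ((T.subgroupOf (S : Subgroup G) : Subgroup ↥(S : Subgroup G)) :
      Set ↥(S : Subgroup G)) := Subgroup.pow_mem _ hx1N _
  set x : G := (x2 : G) with hxdef
  have hxS : x ∈ (S : Subgroup G) := x2.2
  have hxT : x ∉ T := fun h => hi1 (Subgroup.mem_subgroupOf.2 h)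
  have hx2T : x ^ 2 ∈ T := by
    have := Subgroup.mem_subgroupOf.1 hi2
    simpa using this
  have hxTn : ∀ t ∈ T, x * t * x⁻¹ ∈ T := by
    intro t ht
    have h1 := (Subgroup.mem_normalizer_iff.mp hx2N ⟨t, hTS ht⟩).mp (Subgroup.mem_subgroupOf.2 ht)
    have h2 := Subgroup.mem_subgroupOf.1 h1
    simpa using h2
  have hxTn' : ∀ t ∈ T, x⁻¹ * t * x ∈ T := by
    intro t ht
    have hmem : x⁻¹ * t * x ∈ (S : Subgroup G) :=
      Subgroup.mul_mem _ (Subgroup.mul_mem _ (Subgroup.inv_mem _ hxS) (hTS ht)) hxS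
    have h1 := (Subgroup.mem_normalizer_iff.mp hx2N ⟨x⁻¹ * t * x, hmem⟩).mpr (by
      rw [Subgroup.mem_subgroupOf]
      have : ((x2 * ⟨x⁻¹ * t * x, hmem⟩ * x2⁻¹ : ↥(S : Subgroup G)) : G) = t := by
        simp only [Subgroup.coe_mul, Subgroup.coe_inv]
        rw [← hxdef]
        group
      rw [this]; exact ht)
    exact Subgroup.mem_subgroupOf.1 h1
  -- `Y = T ∩ C` has index at most 2 in `T`
  set Y := T ⊓ C with hYdef
  have hCN : C ≤ N := Subgroup.centralizer_le_normalizer _
  have hrel : C.relIndex T ∣ 2 := by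
    have h1 : C.relIndex T ∣ 8 := by rw [← hT8']; exact Subgroup.relIndex_dvd_card C T
    have hCn : (C.subgroupOf N).Normal := by
      refine ⟨fun w hw s => ?_⟩
      rw [Subgroup.mem_subgroupOf] at hw ⊢
      have : ((s * w * s⁻¹ : ↥N) : G) = (s : G) * (w : G) * (s : G)⁻¹ := by simp
      rw [this]
      exact h45b_conj_mem_centralizer (P : Subgroup G) _ _ s.2 hw
    have h2 : (C.subgroupOf N).relIndex (T.subgroupOf N) ∣ (C.subgroupOf N).index :=
      Subgroup.relIndex_dvd_index_of_normal _ _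
    rw [Subgroup.relIndex_subgroupOf hTN] at h2
    have h3 : (C.subgroupOf N).index ∣ 18 := relIndex_centralizer_dvd (P : Subgroup G) hP
    have h4 : C.relIndex T ∣ 18 := h2.trans h3
    exact Nat.dvd_gcd h1 h4
  have hYrel : Y.relIndex T = C.relIndex T := Subgroup.inf_relIndex_left T C
  have hYcard : Nat.card ↥Y * C.relIndex T = 8 := by
    have := card_inf_mul_relIndex C T
    rw [inf_comm, hT8'] at this
    exact this
  have hYT : Y ≤ T := inf_le_left
  have hYC : Y ≤ C := inf_le_right
  have hrel12 : C.relIndex T = 1 ∨ C.relIndex T = 2 := by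
    have := Nat.le_of_dvd (by norm_num) hrel
    have h0 : C.relIndex T ≠ 0 := fun h => by rw [h] at hrel; omega
    omega
  have hY4 : 4 ≤ Nat.card ↥Y := by rcases hrel12 with h | h <;> rw [h] at hYcard <;> omega
  have hY8 : Nat.card ↥Y ≤ 8 := by rcases hrel12 with h | h <;> rw [h] at hYcard <;> omega
  -- `T` normalizes `Y`
  have hTY : ∀ t ∈ T, ∀ y ∈ Y, t * y * t⁻¹ ∈ Y := by
    intro t ht y hy
    exact ⟨T.mul_mem (T.mul_mem ht hy.1) (T.inv_mem ht),
      h45b_conj_mem_centralizer (P : Subgroup G) _ _ (hTN ht) hy.2⟩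
  -- `P` centralizes `Y`
  have hPY : ∀ g ∈ (P : Subgroup G), ∀ y ∈ Y, g * y = y * g := by
    intro g hg y hy
    exact (Subgroup.mem_centralizer_iff.mp hy.2) g hg
  -- `Y` is not normal in `G`
  have hYnn : ¬ Y.Normal := by
    intro hn
    apply Cfsg.Agent.Helper17.normal_card_absurd Y hn
    · omega
    · rw [hG]; omega
  -- proper subgroups containing `P` and `T` lie in `N`
  have hkey : ∀ X : Subgroup G, (P : Subgroup G) ≤ X → T ≤ X → X ≠ ⊤ → X ≤ N :=
    fun X h1 h2 h3 => key_tool hna hG h1008 P hP hN X T h1 h2 hTN hT8' h3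
  -- the conjugate `Yx = x Y x⁻¹`
  set Yx := Y.map (MulAut.conj x).toMonoidHom with hYxdef
  have hmemYx : ∀ g : G, g ∈ Yx ↔ x⁻¹ * g * x ∈ Y := by
    intro g
    rw [hYxdef, Subgroup.mem_map]
    constructor
    · rintro ⟨y, hy, rfl⟩
      have : x⁻¹ * ((MulAut.conj x).toMonoidHom y) * x = y := by
        simp [MulAut.conj_apply]; group
      rw [this]; exact hy
    · intro h
      refine ⟨x⁻¹ * g * x, h, ?_⟩
      simp [MulAut.conj_apply]; group
  by_cases hYY : Yx = Y
  · -- `x` normalizes `Y`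
    have hxY : x ∈ Subgroup.normalizer (Y : Set G) := by
      rw [Subgroup.mem_normalizer_iff]
      intro h
      constructor
      · intro hh
        rw [← hYY, hmemYx]
        have : x⁻¹ * (x * h * x⁻¹) * x = h := by group
        rw [this]; exact hh
      · intro hh
        rw [← hYY, hmemYx] at hh
        have : x⁻¹ * (x * h * x⁻¹) * x = h := by group
        rw [this] at hh; exact hh
    have hle := hkey (Subgroup.normalizer (Y : Set G)) ?_ ?_ ?_
    · exact hxT (by rw [← hSN]; exact ⟨hxS, hle hxY⟩)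
    · intro g hg
      rw [Subgroup.mem_normalizer_iff]
      intro h
      constructor
      · intro hh
        have : g * h * g⁻¹ = h := by rw [hPY g hg h hh]; group
        rw [this]; exact hh
      · intro hh
        have h1 := hPY g⁻¹ (Subgroup.inv_mem _ hg) _ hh
        have : h = g⁻¹ * (g * h * g⁻¹) * g := by group
        rw [this, h1]
        have : g * h * g⁻¹ * g⁻¹ * g = g * h * g⁻¹ := by group
        rw [this]; exact hh
    · intro t ht
      rw [Subgroup.mem_normalizer_iff]
      intro h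
      constructor
      · intro hh; exact hTY t ht h hh
      · intro hh
        have := hTY t⁻¹ (T.inv_mem ht) _ hh
        have h2 : t⁻¹ * (t * h * t⁻¹) * t⁻¹⁻¹ = h := by group
        rw [h2] at this; exact this
    · intro htop
      exact hYnn (Subgroup.normalizer_eq_top_iff.mp htop)
  · -- `D = Y ∩ Yx`
    have hYxT : Yx ≤ T := by
      intro g hg
      rw [hmemYx] at hg
      have := hxTn _ (hYT hg)
      have h2 : x * (x⁻¹ * g * x) * x⁻¹ = g := by group
      rw [h2] at this; exact this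
    have hYxcard : Nat.card ↥Yx = Nat.card ↥Y :=
      Subgroup.card_map_of_injective (MulAut.conj x).injective
    have hYxrel : Yx.relIndex T = C.relIndex T := by
      have h1 := card_inf_mul_relIndex Yx T
      rw [inf_of_le_left hYxT, hYxcard, hT8'] at h1
      have hpos : 0 < Nat.card ↥Y := Nat.card_pos
      have : Nat.card ↥Y * Yx.relIndex T = Nat.card ↥Y * C.relIndex T := by rw [h1, hYcard]
      exact Nat.eq_of_mul_eq_mul_left hpos this
    set D := Y ⊓ Yx with hDdef
    have hDT : D ≤ T := inf_le_left.trans hYT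
    have hDcard : 2 ≤ Nat.card ↥D := by
      have h1 : D.relIndex T ≤ Y.relIndex T * Yx.relIndex T := Subgroup.relIndex_inf_le
      rw [hYrel, hYxrel] at h1
      have h2 := card_inf_mul_relIndex D T
      rw [inf_of_le_left hDT, hT8'] at h2
      have h3 : C.relIndex T * C.relIndex T ≤ 4 := by
        rcases hrel12 with h | h <;> rw [h] <;> norm_num
      have h4 : D.relIndex T ≤ 4 := h1.trans h3
      by_contra hlt
      have h5 : Nat.card ↥D ≤ 1 := by omega
      have hpos : 0 < Nat.card ↥D := Nat.card_pos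
      have h6 : Nat.card ↥D = 1 := by omega
      rw [h6] at h2
      omega
    have hDne : D ≠ ⊥ := by
      intro h
      rw [h, Subgroup.card_bot] at hDcard
      omega
    -- `T` normalizes `Yx`
    have hTYx : ∀ t ∈ T, ∀ g ∈ Yx, t * g * t⁻¹ ∈ Yx := by
      intro t ht g hg
      rw [hmemYx] at hg ⊢
      have h1 := hTY _ (hxTn' t ht) _ hg
      have h2 : x⁻¹ * (t * g * t⁻¹) * x = x⁻¹ * t * x * (x⁻¹ * g * x) * (x⁻¹ * t * x)⁻¹ := by group
      rw [h2]; exact h1
    -- `x` and `x⁻¹` map `D` into `D`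
    have hxsq : ∀ y ∈ Y, x ^ 2 * y * (x ^ 2)⁻¹ ∈ Y := fun y hy => hTY _ hx2T y hy
    have hxsq' : ∀ y ∈ Y, (x ^ 2)⁻¹ * y * (x ^ 2) ∈ Y := by
      intro y hy
      have := hTY _ (T.inv_mem hx2T) y hy
      simpa using this
    have hxD : ∀ d ∈ D, x * d * x⁻¹ ∈ D := by
      intro d hd
      refine ⟨?_, ?_⟩
      · have h1 := (hmemYx d).1 hd.2
        have h2 := hxsq _ h1
        have h3 : x ^ 2 * (x⁻¹ * d * x) * (x ^ 2)⁻¹ = x * d * x⁻¹ := by rw [pow_two]; group
        rw [h3] at h2; exact h2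
      · show x * d * x⁻¹ ∈ Yx
        rw [hmemYx]
        have : x⁻¹ * (x * d * x⁻¹) * x = d := by group
        rw [this]; exact hd.1
    have hxD' : ∀ d ∈ D, x⁻¹ * d * x ∈ D := by
      intro d hd
      refine ⟨(hmemYx d).1 hd.2, ?_⟩
      show x⁻¹ * d * x ∈ Yx
      rw [hmemYx]
      have h2 := hxsq' _ hd.1
      have h3 : (x ^ 2)⁻¹ * d * x ^ 2 = x⁻¹ * (x⁻¹ * d * x) * x := by rw [pow_two]; group
      rw [h3] at h2; exact h2
    -- the 2-group `A = S ∩ N_G(D)`
    set A := (S : Subgroup G) ⊓ Subgroup.normalizer (D : Set G) with hAdef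
    have hTA : T ≤ A := by
      refine le_inf hTS ?_
      intro t ht
      rw [Subgroup.mem_normalizer_iff]
      intro h
      constructor
      · intro hh
        exact ⟨hTY t ht h hh.1, hTYx t ht h hh.2⟩
      · intro hh
        have h1 := hTY t⁻¹ (T.inv_mem ht) _ hh.1
        have h2 := hTYx t⁻¹ (T.inv_mem ht) _ hh.2
        have h3 : t⁻¹ * (t * h * t⁻¹) * t⁻¹⁻¹ = h := by group
        rw [h3] at h1 h2
        exact ⟨h1, h2⟩
    have hxA : x ∈ A := by
      refine ⟨hxS, ?_⟩
      show x ∈ Subgroup.normalizer (D : Set G)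
      rw [Subgroup.mem_normalizer_iff]
      intro h
      constructor
      · intro hh; exact hxD h hh
      · intro hh
        have := hxD' _ hh
        have h3 : x⁻¹ * (x * h * x⁻¹) * x = h := by group
        rw [h3] at this; exact this
    have hAp : IsPGroup 2 A := S.2.to_le inf_le_left
    obtain ⟨z, hz2, hzD, hzA⟩ := h45b_exists_central_involution A D hAp (hDT.trans hTA)
      inf_le_right hDne
    have hz1 : z ≠ 1 := Cfsg.Agent.S1017.ne_one_of_orderOf_prime z Nat.prime_two hz2
    have hle := hkey (Subgroup.centralizer ({z} : Set G)) ?_ ?_ ?_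
    · apply hxT
      rw [← hSN]
      refine ⟨hxS, hle ?_⟩
      rw [Subgroup.mem_centralizer_iff]
      intro y hy
      rw [Set.mem_singleton_iff] at hy
      rw [hy]
      exact (hzA x hxA).symm
    · intro g hg
      rw [Subgroup.mem_centralizer_iff]
      intro y hy
      rw [Set.mem_singleton_iff] at hy
      rw [hy]
      exact (hPY g hg z hzD.1).symm
    · intro t ht
      rw [Subgroup.mem_centralizer_iff]
      intro y hy
      rw [Set.mem_singleton_iff] at hy
      rw [hy]
      exact (hzA t (hTA ht)).symm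
    · intro htop
      have hzc : z ∈ Subgroup.center G := by
        rw [Subgroup.mem_center_iff]
        intro g
        have hg : g ∈ Subgroup.centralizer ({z} : Set G) := by rw [htop]; exact Subgroup.mem_top g
        have := (Subgroup.mem_centralizer_iff.mp hg) z rfl
        exact this.symm
      have hcn : (Subgroup.center G).Normal := inferInstance
      rcases hcn.eq_bot_or_eq_top with h' | h'
      · rw [h', Subgroup.mem_bot] at hzc
        exact hz1 hzc
      · exact hna (Subgroup.center_eq_top_iff.mp h')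

end Cfsg.Agent.Helper45.O459648
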