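import Mathlib
import Cfsg.Agent.Lib.Helper45.O459648A
import Cfsg.Agent.Lib.Helper45.O459648B

/-!
# S1022: no simple group of order 459648 = 2^7 * 3^3 * 7 * 19 (assembly; proof of helper8 / helper81)
-/

set_option autoImplicit false

namespace Cfsg.Agent.Helper45.O459648

open Nat Cfsg.Agent.Helper17

universe u

theorem no_459648 {G : Type u} [Group G] [Finite G] [IsSimpleGroup G] :
    Nat.card G ≠ 459648 := by
  intro hG
  have p19 : Fact (Nat.Prime 19) := ⟨by norm_num⟩
  have hn19 : Nat.card G = 19 ^ 1 * 24192 := by rw [hG]; norm_num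
  obtain ⟨hd, hm⟩ := sylow_count (G := G) hn19 (by norm_num)
  have hne := sylow_count_ne_one (G := G) hn19 (by norm_num) one_ne_zero (by norm_num)
  have hc : Nat.card (Sylow 19 G) = 96 ∨ Nat.card (Sylow 19 G) = 1008 := by
    have hm' : Nat.card (Sylow 19 G) ∈ Nat.divisors 24192 :=
      Nat.mem_divisors.2 ⟨hd, by norm_num⟩
    simp only [Nat.divisors_ofNat, Finset.mem_insert, Finset.mem_singleton] at hm'
    omega
  rcases hc with h | h
  · exact false_of_ninetysix hG h
  · exact false_of_thousandeight hG h

end Cfsg.Agent.Helper45.O459648
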