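import Mathlib
import Cfsg.Agent.Lib.Helper74.M11Defs
import Cfsg.Agent.S1017

/-!
O5040 (CC) for helper74's lemma server (row S0978): `card_centralizer_mem`.
-/

set_option autoImplicit false

namespace Cfsg.Agent.Helper45.O5040

open Cfsg.Agent.Helper74.M11

variable {G : Type*} [Group G] [Finite G]

/-- `|H| = n_p(H) * |N_G(P) ⊓ H|` for a Sylow `p`-subgroup `P ≤ H`. -/
theorem card_eq_card_sylow_mul {p : ℕ} [Fact p.Prime] (H : Subgroup G) (P : Sylow p G)
    (hP : (P : Subgroup G) ≤ H) :
    Nat.card H = Nat.card (Sylow p H) *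
      Nat.card ↥(Subgroup.normalizer ((P : Subgroup G) : Set G) ⊓ H) := by
  have h1 := (P.subtype hP).card_eq_index_normalizer
  have h2 := Subgroup.card_mul_index
    (Subgroup.normalizer ((P.subtype hP : Sylow p H) : Set H))
  have h3 : Subgroup.normalizer ((P.subtype hP : Sylow p H) : Set H) =
      (Subgroup.normalizer ((P : Subgroup G) : Set G)).subgroupOf H := by
    have := Subgroup.subgroupOf_normalizer_eq hP
    rw [this]
    rfl
  have h4 : Nat.card ↥((Subgroup.normalizer ((P : Subgroup G) : Set G)).subgroupOf H) =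
      Nat.card ↥(Subgroup.normalizer ((P : Subgroup G) : Set G) ⊓ H) := by
    rw [← Subgroup.inf_subgroupOf_right]
    exact Nat.card_congr (Subgroup.subgroupOfEquivOfLe inf_le_right).toEquiv
  rw [← h2, ← h1, h3, h4, mul_comm]

theorem card_centralizer_mem (hG : Nat.card G = 5040)
    (h7 : ∀ g : G, orderOf g = 7 → Nat.card (Cen g) = 7) (R : Sylow 5 G)
    (hN : Nat.card (NorS (R : Subgroup G)) = 40)
    (u : G) (hu : orderOf u = 2) (hNu : NorS (R : Subgroup G) ≤ Cen u) :
    Nat.card (Cen u) = 40 ∨ Nat.card (Cen u) = 240 := by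
  have hp5 : Fact (Nat.Prime 5) := ⟨by norm_num⟩
  have hRH : (R : Subgroup G) ≤ Cen u := le_trans Subgroup.le_normalizer hNu
  have h1 := card_eq_card_sylow_mul (Cen u) R hRH
  have h2 : Subgroup.normalizer ((R : Subgroup G) : Set G) ⊓ Cen u =
      Subgroup.normalizer ((R : Subgroup G) : Set G) := inf_eq_left.2 hNu
  rw [h2] at h1
  have hN' : Nat.card (Subgroup.normalizer ((R : Subgroup G) : Set G)) = 40 := hN
  rw [hN'] at h1
  have hmod : Nat.card (Sylow 5 (Cen u)) ≡ 1 [MOD 5] := card_sylow_modEq_one 5 (Cen u)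
  have hdvd : Nat.card (Cen u) ∣ 5040 := hG ▸ Subgroup.card_subgroup_dvd_card (Cen u)
  -- 7 does not divide |C(u)|
  have h7n : ¬ 7 ∣ Nat.card (Cen u) := by
    intro hd
    have hp7 : Fact (Nat.Prime 7) := ⟨by norm_num⟩
    obtain ⟨x, hx⟩ := exists_prime_orderOf_dvd_card' (G := ↥(Cen u)) 7 hd
    have hx' : orderOf (x : G) = 7 := by rw [Subgroup.orderOf_coe]; exact hx
    have hc := h7 (x : G) hx'
    have hux : u ∈ Cen (x : G) := by
      rw [Subgroup.mem_centralizer_iff]
      intro y hy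
      rw [Set.mem_singleton_iff] at hy
      subst hy
      have := x.2
      rw [Subgroup.mem_centralizer_iff] at this
      exact (this u rfl).symm
    have hd2 : orderOf u ∣ Nat.card (Cen (x : G)) := by
      have : orderOf (⟨u, hux⟩ : Cen (x : G)) = orderOf u := Subgroup.orderOf_mk u hux
      rw [← this]
      exact orderOf_dvd_natCard _
    rw [hu, hc] at hd2
    omega
  obtain ⟨m, hm⟩ : ∃ m, m = Nat.card (Sylow 5 (Cen u)) := ⟨_, rfl⟩
  rw [← hm] at h1 hmod
  have hm1 : m % 5 = 1 := by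
    have := hmod
    unfold Nat.ModEq at this
    omega
  rw [h1] at hdvd h7n
  have hm126 : m ∣ 126 := by
    have : m * 40 ∣ 126 * 40 := by norm_num; exact hdvd
    exact Nat.dvd_of_mul_dvd_mul_right (by norm_num) this
  have hm7 : ¬ 7 ∣ m := fun h => h7n (Dvd.dvd.mul_right h 40)
  have hmle : m ≤ 126 := Nat.le_of_dvd (by norm_num) hm126
  have : m = 1 ∨ m = 6 := by
    clear hm h1 hdvd h7n hmod
    interval_cases m <;> omega
  rcases this with h | h
  · left; rw [h1, h]
  · right; rw [h1, h]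

end Cfsg.Agent.Helper45.O5040
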