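import Mathlib
import Cfsg.Agent.Lib.Helper74.M11Defs
import Cfsg.Agent.S1017
import Cfsg.Agent.Lib.Helper11.PGroup

/-!
O5040 (CI) for helper74's lemma server (row S0978): `exists_central_involution`.
-/

set_option autoImplicit false

namespace Cfsg.Agent.Helper45.O5040

open Cfsg.Agent.Helper74.M11

variable {G : Type*} [Group G] [Finite G]

theorem exists_central_involution [IsSimpleGroup G] (hG : Nat.card G = 5040) (R : Sylow 5 G)
    (hN : Nat.card (NorS (R : Subgroup G)) = 40) :
    (Nat.card (CenS (R : Subgroup G)) = 10 ∨ Nat.card (CenS (R : Subgroup G)) = 20) ∧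
    ∃ u : G, orderOf u = 2 ∧ u ∈ CenS (R : Subgroup G) ∧ NorS (R : Subgroup G) ≤ Cen u := by
  have hp5 : Fact (Nat.Prime 5) := ⟨by norm_num⟩
  have hp2 : Fact (Nat.Prime 2) := ⟨Nat.prime_two⟩
  have hR : Nat.card (R : Subgroup G) = 5 := by
    have := Cfsg.Agent.S1017.sylow_card_eq R 1 1008 (by rw [hG]; norm_num) (by norm_num)
    simpa using this
  obtain ⟨k, c, hk, hk1, hC, hNk⟩ :=
    Cfsg.Agent.S1017.normalizer_structure R hR (by rw [hG]; norm_num)
  have hN' : Nat.card (Subgroup.normalizer ((R : Subgroup G) : Set G)) = 40 := hN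
  rw [hN'] at hNk
  have hk4 : k ∣ 4 := hk
  have hkle : k ≤ 4 := Nat.le_of_dvd (by norm_num) hk4
  have hcases : c = 2 ∨ c = 4 := by
    interval_cases k <;> omega
  refine ⟨?_, ?_⟩
  · show Nat.card (Subgroup.centralizer ((R : Subgroup G) : Set G)) = 10 ∨
      Nat.card (Subgroup.centralizer ((R : Subgroup G) : Set G)) = 20
    rcases hcases with h | h
    · left; rw [hC, h]
    · right; rw [hC, h]
  -- the involution
  obtain ⟨N, hNdef⟩ : ∃ N : Subgroup G, N = Subgroup.normalizer ((R : Subgroup G) : Set G) :=
    ⟨_, rfl⟩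
  have hNcard : Nat.card N = 40 := by rw [hNdef]; exact hN'
  let T : Sylow 2 N := default
  have hT : Nat.card (T : Subgroup N) = 8 := by
    have := Cfsg.Agent.S1017.sylow_card_eq T 3 5 (by rw [hNcard]; norm_num) (by norm_num)
    simpa using this
  subst hNdef
  -- the conjugation hom N → Aut R restricted to T
  let f : Subgroup.normalizer ((R : Subgroup G) : Set G) →* MulAut (R : Subgroup G) :=
    (R : Subgroup G).normalizerMonoidHom
  let g : (T : Subgroup (Subgroup.normalizer ((R : Subgroup G) : Set G))) →* MulAut (R : Subgroup G) :=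
    f.comp (T : Subgroup (Subgroup.normalizer ((R : Subgroup G) : Set G))).subtype
  have hcyc : IsCyclic (R : Subgroup G) := isCyclic_of_prime_card hR
  have hAut : Nat.card (MulAut (R : Subgroup G)) = 4 := by
    rw [hcyc.card_mulAut, hR]
    decide
  have hker : g.ker ≠ ⊥ := by
    intro hb
    have hinj : Function.Injective g := (MonoidHom.ker_eq_bot_iff g).1 hb
    have := Subgroup.card_dvd_of_injective g hinj
    rw [hT, hAut] at this
    omega
  have hTp : IsPGroup 2 (T : Subgroup (Subgroup.normalizer ((R : Subgroup G) : Set G))) := T.isPGroup'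
  obtain ⟨z, hzK, hzc, hz2⟩ :=
    Cfsg.Agent.Helper11.exists_mem_center_orderOf_eq_of_normal hTp g.ker hker
  refine ⟨((z : Subgroup.normalizer ((R : Subgroup G) : Set G)) : G), ?_, ?_, ?_⟩
  · rw [Subgroup.orderOf_coe, Subgroup.orderOf_coe]
    exact hz2
  · have h1 : (z : Subgroup.normalizer ((R : Subgroup G) : Set G)) ∈ f.ker := by
      rw [MonoidHom.mem_ker]
      have := hzK
      rw [MonoidHom.mem_ker] at this
      exact this
    have h2 : f.ker = (Subgroup.centralizer ((R : Subgroup G) : Set G)).subgroupOf
        (Subgroup.normalizer ((R : Subgroup G) : Set G)) :=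
      Subgroup.normalizerMonoidHom_ker _
    rw [h2, Subgroup.mem_subgroupOf] at h1
    exact h1
  · have huC : ((z : Subgroup.normalizer ((R : Subgroup G) : Set G)) : G) ∈
        Subgroup.centralizer ((R : Subgroup G) : Set G) := by
      have h1 : (z : Subgroup.normalizer ((R : Subgroup G) : Set G)) ∈ f.ker := by
        rw [MonoidHom.mem_ker]
        have := hzK
        rw [MonoidHom.mem_ker] at this
        exact this
      have h2 : f.ker = (Subgroup.centralizer ((R : Subgroup G) : Set G)).subgroupOf
          (Subgroup.normalizer ((R : Subgroup G) : Set G)) :=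
        Subgroup.normalizerMonoidHom_ker _
      rw [h2, Subgroup.mem_subgroupOf] at h1
      exact h1
    obtain ⟨u, hu⟩ : ∃ u : G, u = ((z : Subgroup.normalizer ((R : Subgroup G) : Set G)) : G) :=
      ⟨_, rfl⟩
    rw [← hu] at huC ⊢
    let H' : Subgroup (Subgroup.normalizer ((R : Subgroup G) : Set G)) :=
      (Cen u).subgroupOf (Subgroup.normalizer ((R : Subgroup G) : Set G))
    have hTH : (T : Subgroup (Subgroup.normalizer ((R : Subgroup G) : Set G))) ≤ H' := by
      intro t ht
      show (t : G) ∈ Cen u
      rw [Subgroup.mem_centralizer_iff]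
      intro y hy
      rw [Set.mem_singleton_iff] at hy
      subst hy
      have h1 := Subgroup.mem_center_iff.1 hzc ⟨t, ht⟩
      have h2 := congrArg (fun w : (T : Subgroup (Subgroup.normalizer ((R : Subgroup G) : Set G))) =>
        ((w : Subgroup.normalizer ((R : Subgroup G) : Set G)) : G)) h1
      simp only [Subgroup.coe_mul] at h2
      rw [hu]
      exact h2.symm
    have hRH : (R : Subgroup G).subgroupOf (Subgroup.normalizer ((R : Subgroup G) : Set G)) ≤ H' := by
      intro r hr
      show (r : G) ∈ Cen u
      rw [Subgroup.mem_centralizer_iff]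
      intro y hy
      rw [Set.mem_singleton_iff] at hy
      subst hy
      have hr' : (r : G) ∈ (R : Subgroup G) := hr
      exact (Subgroup.mem_centralizer_iff.1 huC (r : G) hr').symm
    have h8 : 8 ∣ Nat.card H' := hT ▸ Subgroup.card_dvd_of_le hTH
    have h5 : 5 ∣ Nat.card H' := by
      have h1 : Nat.card ((R : Subgroup G).subgroupOf (Subgroup.normalizer ((R : Subgroup G) : Set G))) = 5 := by
        exact (Nat.card_congr (Subgroup.subgroupOfEquivOfLe Subgroup.le_normalizer).toEquiv).trans hR
      have h2 := Subgroup.card_dvd_of_le hRH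
      rw [h1] at h2
      exact h2
    have h40 : Nat.card H' ∣ 40 := hNcard ▸ Subgroup.card_subgroup_dvd_card H'
    have hH'card : Nat.card H' = 40 := by
      have hle : Nat.card H' ≤ 40 := Nat.le_of_dvd (by norm_num) h40
      have hpos : 0 < Nat.card H' := Nat.card_pos
      omega
    have htop : H' = ⊤ := Subgroup.eq_top_of_card_eq H' (by rw [hH'card, hNcard])
    exact Subgroup.subgroupOf_eq_top.1 htop

end Cfsg.Agent.Helper45.O5040
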