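import Mathlib
import Cfsg.Agent.Lib.Helper74.M11Defs
import Cfsg.Agent.S1017
import Cfsg.Agent.Lib.Helper17.FixedCount

/-!
O5040 (TT) for helper74's lemma server (row S0978): `false_of_struct`.
-/

set_option autoImplicit false
set_option linter.unusedSimpArgs false
set_option linter.unusedVariables false

namespace Cfsg.Agent.Helper45.O5040

open Cfsg.Agent.Helper74.M11

variable {G : Type*} [Group G] [Finite G]

/-- A (generalised) quaternion subgroup of order 8 with a unique involution. -/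
theorem exists_quaternion_sub {G : Type*} [Group G] (a b : G) (ha4 : a ^ 4 = 1) (ha2 : a ^ 2 ≠ 1)
    (hb : b ^ 2 = a ^ 2) (hconj : b * a * b⁻¹ = a⁻¹) :
    ∃ Q : Subgroup G, Nat.card Q = 8 ∧ ∀ t ∈ Q, t ^ 2 = 1 → t = 1 ∨ t = a ^ 2 := by
  have hainv : a⁻¹ = a ^ 3 := by
    apply inv_eq_of_mul_eq_one_right
    rw [← pow_succ', ha4]
  have hab : a * b = b * a ^ 3 := by
    have h1 : b * a = a⁻¹ * b := by
      have := congrArg (· * b) hconj
      simpa [mul_assoc] using this
    rw [← hainv]
    have : a * (b * a) = a * (a⁻¹ * b) := by rw [h1]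
    rw [mul_inv_cancel_left] at this
    calc a * b = a * (b * a) * a⁻¹ := by group
      _ = b * a⁻¹ := by rw [this]
  have habi : ∀ i : ℕ, a ^ i * b = b * a ^ (3 * i) := by
    intro i
    induction i with
    | zero => simp
    | succ n ih =>
      rw [pow_succ, mul_assoc, hab, ← mul_assoc, ih, mul_assoc, ← pow_add, Nat.mul_succ]
  have hbb : b * b = a ^ 2 := by rw [← hb, sq]
  have hmod : ∀ i : ℕ, a ^ i = a ^ (i % 4) := fun i => pow_eq_pow_mod i ha4
  let Q : Subgroup G :=
    { carrier := {x | ∃ i : ℕ, x = a ^ i ∨ x = b * a ^ i}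
      one_mem' := ⟨0, Or.inl (by simp)⟩
      mul_mem' := by
        rintro x y ⟨i, hx | hx⟩ ⟨j, hy | hy⟩
        · exact ⟨i + j, Or.inl (by rw [hx, hy, pow_add])⟩
        · refine ⟨3 * i + j, Or.inr ?_⟩
          rw [hx, hy, ← mul_assoc, habi, mul_assoc, ← pow_add]
        · exact ⟨i + j, Or.inr (by rw [hx, hy, mul_assoc, ← pow_add])⟩
        · refine ⟨2 + 3 * i + j, Or.inl ?_⟩
          rw [hx, hy]
          calc b * a ^ i * (b * a ^ j) = b * (a ^ i * b) * a ^ j := by group
            _ = b * (b * a ^ (3 * i)) * a ^ j := by rw [habi]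
            _ = (b * b) * a ^ (3 * i) * a ^ j := by group
            _ = a ^ (2 + 3 * i + j) := by rw [hbb, ← pow_add, ← pow_add]
      inv_mem' := by
        rintro x ⟨i, hx | hx⟩
        · refine ⟨3 * i, Or.inl ?_⟩
          rw [hx]
          apply inv_eq_of_mul_eq_one_right
          rw [← pow_add, show i + 3 * i = 4 * i by ring, pow_mul, ha4, one_pow]
        · refine ⟨i + 2, Or.inr ?_⟩
          rw [hx]
          apply inv_eq_of_mul_eq_one_right
          calc b * a ^ i * (b * a ^ (i + 2)) = b * (a ^ i * b) * a ^ (i + 2) := by group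
            _ = b * (b * a ^ (3 * i)) * a ^ (i + 2) := by rw [habi]
            _ = (b * b) * a ^ (3 * i) * a ^ (i + 2) := by group
            _ = a ^ (4 * (i + 1)) := by
                rw [hbb, ← pow_add, ← pow_add]; congr 1; ring
            _ = 1 := by rw [pow_mul, ha4, one_pow] }
  have hmemQ : ∀ x, x ∈ Q ↔ ∃ i : ℕ, x = a ^ i ∨ x = b * a ^ i := fun x => Iff.rfl
  have haQ : a ∈ Q := ⟨1, Or.inl (by simp)⟩
  have hbQ : b ∈ Q := ⟨0, Or.inr (by simp)⟩
  have hord : orderOf a = 4 := by
    have := orderOf_eq_prime_pow (p := 2) (n := 1) (x := a) (by simpa using ha2) (by simpa using ha4)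
    simpa using this
  refine ⟨Q, ?_, ?_⟩
  · -- cardinality
    have hfin : Finite Q := by
      let f : Fin 4 × Bool → G := fun p => if p.2 then b * a ^ (p.1 : ℕ) else a ^ (p.1 : ℕ)
      have hsub : (Q : Set G) ⊆ Set.range f := by
        rintro x ⟨i, hx | hx⟩
        · exact ⟨(⟨i % 4, Nat.mod_lt _ (by norm_num)⟩, false), by simp [f, hx, ← hmod]⟩
        · exact ⟨(⟨i % 4, Nat.mod_lt _ (by norm_num)⟩, true), by simp [f, hx, ← hmod]⟩
      exact (Set.finite_range f).subset hsub
    have hle : Nat.card Q ≤ 8 := by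
      let f : Fin 4 × Bool → G := fun p => if p.2 then b * a ^ (p.1 : ℕ) else a ^ (p.1 : ℕ)
      have hsub : (Q : Set G) ⊆ Set.range f := by
        rintro x ⟨i, hx | hx⟩
        · exact ⟨(⟨i % 4, Nat.mod_lt _ (by norm_num)⟩, false), by simp [f, hx, ← hmod]⟩
        · exact ⟨(⟨i % 4, Nat.mod_lt _ (by norm_num)⟩, true), by simp [f, hx, ← hmod]⟩
      have h1 : Nat.card (Q : Set G) ≤ Nat.card (Set.range f) :=
        Nat.card_mono (Set.finite_range f) hsub
      have h2 : Nat.card (Set.range f) ≤ Nat.card (Fin 4 × Bool) := Finite.card_range_le f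
      have h3 : Nat.card (Fin 4 × Bool) = 8 := by simp
      have h4 : Nat.card Q = Nat.card (Q : Set G) := rfl
      omega
    have hA : Subgroup.zpowers a ≤ Q := (Subgroup.zpowers_le).2 haQ
    have hAcard : Nat.card (Subgroup.zpowers a) = 4 := by rw [Nat.card_zpowers, hord]
    have hdvd : 4 ∣ Nat.card Q := hAcard ▸ Subgroup.card_dvd_of_le hA
    have hne : Nat.card Q ≠ 4 := by
      intro h4
      have hEq : Subgroup.zpowers a = Q :=
        Subgroup.eq_of_le_of_card_ge hA (by rw [h4, hAcard])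
      have hbA : b ∈ Subgroup.zpowers a := hEq ▸ hbQ
      obtain ⟨k, hk⟩ := Subgroup.mem_zpowers_iff.1 hbA
      have hcomm : b * a = a * b := by
        rw [← hk, ← zpow_add_one, ← zpow_one_add, add_comm]
      apply ha2
      have h1 : b * a * b⁻¹ = a := by rw [hcomm]; group
      rw [h1] at hconj
      have : a * a = 1 := by
        nth_rewrite 2 [hconj]
        exact mul_inv_cancel a
      rw [sq]; exact this
    have hpos : 0 < Nat.card Q := Nat.card_pos
    omega
  · rintro t ⟨i, ht | ht⟩ ht2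
    · rw [hmod] at ht
      have hi : i % 4 < 4 := Nat.mod_lt _ (by norm_num)
      rcases (by omega : i % 4 = 0 ∨ i % 4 = 1 ∨ i % 4 = 2 ∨ i % 4 = 3) with h | h | h | h
      · left; rw [ht, h, pow_zero]
      · exfalso; rw [ht, h, pow_one] at ht2; exact ha2 ht2
      · right; rw [ht, h]
      · exfalso
        rw [ht, h, ← pow_mul] at ht2
        have : a ^ (3 * 2) = a ^ 2 := by
          rw [show 3 * 2 = 4 + 2 by norm_num, pow_add, ha4, one_mul]
        rw [this] at ht2
        exact ha2 ht2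
    · exfalso
      have : t ^ 2 = a ^ 2 := by
        rw [ht, sq]
        calc b * a ^ i * (b * a ^ i) = b * (a ^ i * b) * a ^ i := by group
          _ = b * (b * a ^ (3 * i)) * a ^ i := by rw [habi]
          _ = (b * b) * a ^ (3 * i) * a ^ i := by group
          _ = a ^ (2 + 4 * i) := by rw [hbb, ← pow_add, ← pow_add]; congr 1; ring
          _ = a ^ 2 := by rw [pow_add, pow_mul, ha4, one_pow, mul_one]
      rw [this] at ht2
      exact ha2 ht2

/-- A cyclic subgroup of order 8 has a unique involution. -/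
theorem cyclic_eight_invol {G : Type*} [Group G] (s : G) (hs : orderOf s = 8) :
    Nat.card (Subgroup.zpowers s) = 8 ∧
      ∀ t ∈ Subgroup.zpowers s, t ^ 2 = 1 → t = 1 ∨ t = s ^ 4 := by
  refine ⟨by rw [Nat.card_zpowers, hs], ?_⟩
  intro t ht ht2
  obtain ⟨k, rfl⟩ := Subgroup.mem_zpowers_iff.1 ht
  have h1 : s ^ (k * 2) = 1 := by
    rw [zpow_mul]
    exact_mod_cast ht2
  have h2 : (8 : ℤ) ∣ k * 2 := by
    have := (orderOf_dvd_iff_zpow_eq_one).2 h1
    rw [hs] at this
    exact_mod_cast this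
  obtain ⟨j, hj⟩ : (4 : ℤ) ∣ k := by omega
  subst hj
  have hs8 : s ^ (8 : ℤ) = 1 := by
    have := pow_orderOf_eq_one s
    rw [hs] at this
    exact_mod_cast this
  rcases Int.even_or_odd j with ⟨m, hm⟩ | ⟨m, hm⟩
  · left
    rw [hm, show 4 * (m + m) = 8 * m by ring, zpow_mul, hs8, one_zpow]
  · right
    rw [hm, show 4 * (2 * m + 1) = 8 * m + 4 by ring, zpow_add, zpow_mul, hs8, one_zpow, one_mul]
    norm_cast

/-- The transfer endgame: a subgroup `Q` of order 8 all of whose involutions equal `z`, where `z` is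
central in a Sylow 2-subgroup, and an involution `u` with `|C(u)| = 40`. -/
theorem false_of_Q [IsSimpleGroup G] (hG : Nat.card G = 5040) (S : Sylow 2 G) (u z : G)
    (hu : orderOf u = 2) (hzZ : ∀ g ∈ S, g * z = z * g) (hCu : Nat.card (Cen u) = 40)
    (Q : Subgroup G) (hQ : Nat.card Q = 8) (hinv : ∀ t ∈ Q, t ^ 2 = 1 → t = 1 ∨ t = z) : False := by
  have hp2 : Fact (Nat.Prime 2) := ⟨Nat.prime_two⟩
  have hcard : Nat.card (G ⧸ Q) = 630 := by
    have := Subgroup.card_eq_card_quotient_mul_card_subgroup Q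
    rw [hG, hQ] at this
    omega
  have hmod := Cfsg.Agent.S1017.card_fixedBy_mod_four (G := G) (by rw [hG]; norm_num)
    (α := G ⧸ Q) u hu
  rw [hcard] at hmod
  have hne : Nat.card (MulAction.fixedBy (G ⧸ Q) u) ≠ 0 := by
    intro h0
    rw [h0] at hmod
    exact absurd hmod (by decide)
  have hnonempty : Nonempty (MulAction.fixedBy (G ⧸ Q) u) := by
    by_contra hemp
    rw [not_nonempty_iff] at hemp
    exact hne Nat.card_of_isEmpty
  obtain ⟨⟨q, hq⟩⟩ := hnonempty
  induction q using QuotientGroup.induction_on with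
  | H g =>
    rw [MulAction.mem_fixedBy] at hq
    have htQ : g⁻¹ * u * g ∈ Q := (Cfsg.Agent.Helper17.smul_mk_eq_iff Q u g).1 hq
    have hu2 : u * u = 1 := by
      have := pow_orderOf_eq_one u
      rw [hu, sq] at this
      exact this
    have hu1 : u ≠ 1 := by
      intro h
      rw [h, orderOf_one] at hu
      omega
    have ht2 : (g⁻¹ * u * g) ^ 2 = 1 := by
      rw [sq]
      calc g⁻¹ * u * g * (g⁻¹ * u * g) = g⁻¹ * (u * u) * g := by group
        _ = 1 := by rw [hu2]; group
    have hz : g⁻¹ * u * g = z := by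
      rcases hinv _ htQ ht2 with h | h
      · exfalso
        apply hu1
        have : u = g * (g⁻¹ * u * g) * g⁻¹ := by group
        rw [this, h]
        group
      · exact h
    -- the conjugate Sylow subgroup lies in C(u)
    have hle : ((g • S : Sylow 2 G) : Subgroup G) ≤ Cen u := by
      intro x hx
      rw [Cfsg.Agent.S1017.mem_smul_sylow_iff] at hx
      have h1 := hzZ _ hx
      rw [← hz] at h1
      rw [Subgroup.mem_centralizer_iff]
      intro y hy
      rw [Set.mem_singleton_iff] at hy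
      subst hy
      have h2 : g * (g⁻¹ * x * g * (g⁻¹ * y * g)) * g⁻¹ = g * (g⁻¹ * y * g * (g⁻¹ * x * g)) * g⁻¹ := by
        rw [h1]
      have h3 : g * (g⁻¹ * x * g * (g⁻¹ * y * g)) * g⁻¹ = x * y := by group
      have h4 : g * (g⁻¹ * y * g * (g⁻¹ * x * g)) * g⁻¹ = y * x := by group
      rw [h3, h4] at h2
      exact h2.symm
    have h16 : Nat.card ((g • S : Sylow 2 G) : Subgroup G) = 16 := by
      have := Cfsg.Agent.S1017.sylow_card_eq (g • S : Sylow 2 G) 4 315 (by rw [hG]; norm_num)
        (by norm_num)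
      simpa using this
    have hd := Subgroup.card_dvd_of_le hle
    rw [h16, hCu] at hd
    omega

theorem conj_of_mul_mul {G : Type*} [Group G] (a b : G) (h : a * b * a = b) :
    b * a * b⁻¹ = a⁻¹ := by
  have h1 : b * a = a⁻¹ * b := by
    rw [eq_inv_mul_iff_mul_eq, ← mul_assoc]
    exact h
  rw [h1]
  group

theorem false_of_struct [IsSimpleGroup G] (hG : Nat.card G = 5040) (S : Sylow 2 G)
    (u v s : G) (hu : orderOf u = 2) (hv : orderOf v = 4)
    (huS : u ∈ S) (hvS : v ∈ S) (hsS : s ∈ S)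
    (hvZ : ∀ g ∈ S, g * v = v * g)
    (hus : s * u * s⁻¹ = u * v ^ 2)
    (hs2 : s ^ 2 ∈ Subgroup.zpowers v)
    (hCu : Nat.card (Cen u) = 40) : False := by
  -- basic relations, right-associated rewrite rules
  have r1 : u * v = v * u := hvZ u huS
  have r1' : ∀ w, u * (v * w) = v * (u * w) := fun w => by rw [← mul_assoc, r1, mul_assoc]
  have r2 : s * v = v * s := hvZ s hsS
  have r2' : ∀ w, s * (v * w) = v * (s * w) := fun w => by rw [← mul_assoc, r2, mul_assoc]
  have r3 : s * u = u * (v * (v * s)) := by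
    have := congrArg (· * s) hus
    simp only [inv_mul_cancel_right] at this
    rw [this, sq, mul_assoc, mul_assoc]
  have r3' : ∀ w, s * (u * w) = u * (v * (v * (s * w))) := fun w => by
    rw [← mul_assoc, r3]; simp only [mul_assoc]
  have uu : u * u = 1 := by
    have := pow_orderOf_eq_one u
    rw [hu, sq] at this
    exact this
  have uu' : ∀ w, u * (u * w) = w := fun w => by rw [← mul_assoc, uu, one_mul]
  have hv4 : v ^ 4 = 1 := by
    have := pow_orderOf_eq_one v
    rw [hv] at this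
    exact this
  have v4 : v * (v * (v * v)) = 1 := by
    rw [← hv4]; simp only [pow_succ, pow_zero, one_mul, mul_assoc]
  have v4' : ∀ w, v * (v * (v * (v * w))) = w := fun w => by
    have := congrArg (· * w) v4
    simpa only [mul_assoc, one_mul] using this
  have hv2 : v ^ 2 ≠ 1 := by
    intro h
    have := orderOf_dvd_of_pow_eq_one h
    rw [hv] at this
    omega
  have hzZ : ∀ g ∈ S, g * v ^ 2 = v ^ 2 * g := by
    intro g hg
    have := hvZ g hg
    rw [sq, ← mul_assoc, this, mul_assoc, this, mul_assoc]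
  -- a = v * u
  have ha2 : (v * u) ^ 2 = v ^ 2 := by
    simp only [sq, mul_assoc, r1', uu, mul_one]
  have ha4 : (v * u) ^ 4 = 1 := by
    rw [show 4 = 2 * 2 by norm_num, pow_mul, ha2, ← pow_mul]
    exact hv4
  have ha2ne : (v * u) ^ 2 ≠ 1 := by rw [ha2]; exact hv2
  -- s ^ 2 = v ^ r, r ∈ {0,1,2,3}
  obtain ⟨k, hk⟩ := Subgroup.mem_zpowers_iff.1 hs2
  have hk' : v ^ (k % 4) = s ^ 2 := by
    have := zpow_mod_orderOf v k
    rw [hv] at this
    rw [← hk]
    exact_mod_cast this
  have hr0 : 0 ≤ k % 4 := Int.emod_nonneg _ (by norm_num)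
  have hr4 : k % 4 < 4 := Int.emod_lt_of_pos _ (by norm_num)
  obtain ⟨Q, hQ8, hQinv⟩ : ∃ Q : Subgroup G, Nat.card Q = 8 ∧
      ∀ t ∈ Q, t ^ 2 = 1 → t = 1 ∨ t = v ^ 2 := by
    rcases (by omega : k % 4 = 0 ∨ k % 4 = 1 ∨ k % 4 = 2 ∨ k % 4 = 3) with h | h | h | h
    · -- s ^ 2 = 1
      rw [h, zpow_zero] at hk'
      have ss : s * s = 1 := by rw [← sq]; exact hk'.symm
      have ss' : ∀ w, s * (s * w) = w := fun w => by rw [← mul_assoc, ss, one_mul]
      have hb2 : (s * u) ^ 2 = (v * u) ^ 2 := by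
        rw [ha2]
        simp only [sq, mul_assoc, r3', r2', r2, ss, ss', r1', uu, uu', mul_one]
      have hc : (v * u) * (s * u) * (v * u) = s * u := by
        simp only [mul_assoc, r3', r2', r2, r3, r1', r1, uu, uu', v4', v4, mul_one]
      obtain ⟨Q, h8, hi⟩ := exists_quaternion_sub (v * u) (s * u) ha4 ha2ne hb2
        (conj_of_mul_mul _ _ hc)
      exact ⟨Q, h8, fun t ht ht2 => by rw [← ha2]; exact hi t ht ht2⟩
    · -- s ^ 2 = v
      rw [h, zpow_one] at hk'
      have hs4 : s ^ 4 = v ^ 2 := by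
        rw [show 4 = 2 * 2 by norm_num, pow_mul, ← hk']
      have hs8 : s ^ 8 = 1 := by
        rw [show 8 = 2 * 4 by norm_num, pow_mul, ← hk', hv4]
      have hord : orderOf s = 8 := by
        have := orderOf_eq_prime_pow (p := 2) (n := 2) (x := s)
          (by rw [show 2 ^ 2 = 4 by norm_num, hs4]; exact hv2)
          (by rw [show 2 ^ (2 + 1) = 8 by norm_num]; exact hs8)
        simpa using this
      obtain ⟨h8, hi⟩ := cyclic_eight_invol s hord
      exact ⟨Subgroup.zpowers s, h8, fun t ht ht2 => by rw [← hs4]; exact hi t ht ht2⟩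
    · -- s ^ 2 = v ^ 2
      have hk2 : v ^ 2 = s ^ 2 := by
        rw [h] at hk'
        exact_mod_cast hk'
      have hb2 : s ^ 2 = (v * u) ^ 2 := by rw [ha2, hk2]
      have hc : (v * u) * s * (v * u) = s := by
        simp only [mul_assoc, r3', r2', r2, r3, r1', r1, uu, uu', v4', v4, mul_one]
      obtain ⟨Q, h8, hi⟩ := exists_quaternion_sub (v * u) s ha4 ha2ne hb2
        (conj_of_mul_mul _ _ hc)
      exact ⟨Q, h8, fun t ht ht2 => by rw [← ha2]; exact hi t ht ht2⟩
    · -- s ^ 2 = v ^ 3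
      have hk3 : v ^ 3 = s ^ 2 := by
        rw [h] at hk'
        exact_mod_cast hk'
      have hs4 : s ^ 4 = v ^ 2 := by
        rw [show 4 = 2 * 2 by norm_num, pow_mul, ← hk3, ← pow_mul, show 3 * 2 = 4 + 2 by norm_num,
          pow_add, hv4, one_mul]
      have hs8 : s ^ 8 = 1 := by
        rw [show 8 = 2 * 4 by norm_num, pow_mul, ← hk3, ← pow_mul, show 3 * 4 = 4 * 3 by norm_num,
          pow_mul, hv4, one_pow]
      have hord : orderOf s = 8 := by
        have := orderOf_eq_prime_pow (p := 2) (n := 2) (x := s)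
          (by rw [show 2 ^ 2 = 4 by norm_num, hs4]; exact hv2)
          (by rw [show 2 ^ (2 + 1) = 8 by norm_num]; exact hs8)
        simpa using this
      obtain ⟨h8, hi⟩ := cyclic_eight_invol s hord
      exact ⟨Subgroup.zpowers s, h8, fun t ht ht2 => by rw [← hs4]; exact hi t ht ht2⟩
  exact false_of_Q hG S u (v ^ 2) hu hzZ hCu Q hQ8 hQinv

end Cfsg.Agent.Helper45.O5040
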