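import Mathlib
import Cfsg.Agent.Lib.Helper48.Pet.Defs
import Cfsg.Agent.Lib.Helper45.PetSETUPa
import Cfsg.Agent.Lib.Helper66.PetFF

/-!
# PET (SETUP) `exists_cfg`, statement verbatim from `tools/pet_sigs_helper48.lean.txt` (helper45)
= `exists_cfg_of_ff` (Lib/Helper45/PetSETUPa) fed with helper66's (FF) `field_facts`.
-/

set_option autoImplicit false

namespace Cfsg.Agent.Helper45.Pet

open Cfsg.Agent.Helper48.Pet

variable {G : Type*} [Group G] {F : Type*} [Field F] {p q : ℕ}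

theorem exists_cfg [Finite G] [Fact p.Prime] [Fact q.Prime]
    (hA : Nat.Coprime ((p ^ q - 1) / (p - 1)) (p - 1))
    [Fintype F] (hF : Fintype.card F = p ^ q) (P U Q : Subgroup G) (f ψ : G → F)
    (hf : Set.BijOn f (P : Set G) Set.univ) (hfadd : ∀ x ∈ P, ∀ z ∈ P, f (x * z) = f x + f z)
    (hUP : U ≤ Subgroup.normalizer (P : Set G))
    (hψ : ∀ u ∈ U, ψ u ≠ 0 ∧ ∀ x ∈ P, f (u * x * u⁻¹) = ψ u * f x)
    (hψmul : ∀ u ∈ U, ∀ v ∈ U, ψ (u * v) = ψ u * ψ v) (hψinj : Set.InjOn ψ (U : Set G))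
    (hUcard : Nat.card U * (p - 1) = p ^ q - 1)
    (hQ : IsMulCommutative Q) (hQp : (Nat.card Q).Coprime p)
    (hP0Q : ∀ x ∈ P, f x ^ p = f x → x ∈ Subgroup.normalizer (Q : Set G))
    (y : G) (hy : y ∈ Q) (hP0U : ∀ x ∈ P, f x ^ p = f x → y * x * y⁻¹ ∈ Subgroup.normalizer (U : Set G))
    (hq2 : q ≠ 2) (hqp : q < p) : Nonempty (Cfg G F p q) :=
  exists_cfg_of_ff (Cfsg.Agent.Helper66.Pet.field_facts (Fact.out : p.Prime) (Fact.out : q.Prime) hF hA)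
    hF P U Q f ψ hf hfadd hUP hψ hψmul hψinj hUcard hQ hQp hP0Q y hy hP0U hq2 hqp

end Cfsg.Agent.Helper45.Pet
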