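import Cfsg.Prelude.Def_Transfer
import Cfsg.Prelude.Def_OddOrderLocal
import Mathlib

/-!
Assembling normal `r`-complements (`r ∈ π`) into a normal `π`-complement and an (abelian) Hall
`π`-subgroup.
-/

set_option autoImplicit false
set_option linter.style.haveILetI false

namespace Cfsg.Agent.Helper45.PiAsm

open Subgroup

/-- From normal subgroups `K r` (`r ∈ π`) with `r ∤ |K r|` and `|G : K r|` a power of `r`:
the intersection is a normal `π`-complement. -/
theorem iInf_normal_pi_complement {G : Type*} [Group G] [Finite G] (π : Finset ℕ)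
    (hπ : ∀ r ∈ π, r.Prime) (K : ℕ → Subgroup G)
    (hK : ∀ r ∈ π, (K r).Normal ∧ ¬ r ∣ Nat.card (K r) ∧ ∃ j : ℕ, (K r).index = r ^ j) :
    (⨅ r ∈ π, K r).Normal ∧ (∀ r : ℕ, r.Prime → r ∣ Nat.card ↥(⨅ r ∈ π, K r) → r ∉ π) ∧
      ∀ r : ℕ, r.Prime → r ∣ (⨅ r ∈ π, K r).index → r ∈ π := by
  set N : Subgroup G := ⨅ r ∈ π, K r with hNdef
  have hmemN : ∀ g : G, g ∈ N ↔ ∀ r ∈ π, g ∈ K r := by
    intro g
    rw [hNdef]
    simp only [Subgroup.mem_iInf]
  have hNn : N.Normal := by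
    refine ⟨fun n hn g => ?_⟩
    rw [hmemN] at hn ⊢
    intro r hr
    exact (hK r hr).1.conj_mem n (hn r hr) g
  have hNle : ∀ r ∈ π, N ≤ K r := fun r hr g hg => (hmemN g).1 hg r hr
  have hNcard : ∀ r : ℕ, r.Prime → r ∣ Nat.card ↥N → r ∉ π := by
    intro r _ hrd hr
    exact (hK r hr).2.1 (hrd.trans (Subgroup.card_dvd_of_le (hNle r hr)))
  refine ⟨hNn, hNcard, ?_⟩
  intro q hq hqd
  haveI : Fact q.Prime := ⟨hq⟩
  haveI := hNn
  rw [Subgroup.index_eq_card] at hqd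
  obtain ⟨x, hx⟩ := exists_prime_orderOf_dvd_card' q hqd
  obtain ⟨g, rfl⟩ := QuotientGroup.mk_surjective x
  have hgq : g ^ q ∈ N := by
    have : ((g ^ q : G) : G ⧸ N) = 1 := by
      rw [QuotientGroup.mk_pow, ← hx, pow_orderOf_eq_one]
    exact (QuotientGroup.eq_one_iff _).1 this
  have hgN : g ∉ N := by
    intro h
    have : ((g : G) : G ⧸ N) = 1 := (QuotientGroup.eq_one_iff _).2 h
    rw [this, orderOf_one] at hx
    exact hq.one_lt.ne hx
  rw [hmemN] at hgN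
  push Not at hgN
  obtain ⟨r, hr, hgr⟩ := hgN
  have hgqr : g ^ q ∈ K r := hNle r hr hgq
  haveI := (hK r hr).1
  have hy1 : ((g : G) : G ⧸ K r) ≠ 1 := fun h => hgr ((QuotientGroup.eq_one_iff _).1 h)
  have hyq : ((g : G) : G ⧸ K r) ^ q = 1 := by
    rw [← QuotientGroup.mk_pow]; exact (QuotientGroup.eq_one_iff _).2 hgqr
  have hord : orderOf ((g : G) : G ⧸ K r) = q := by
    rcases (Nat.dvd_prime hq).1 (orderOf_dvd_of_pow_eq_one hyq) with h | h
    · exact absurd (orderOf_eq_one_iff.1 h) hy1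
    · exact h
  obtain ⟨j, hj⟩ := (hK r hr).2.2
  have hdvd : q ∣ r ^ j := by
    rw [← hj, Subgroup.index_eq_card, ← hord]
    exact orderOf_dvd_natCard _
  have := (Nat.prime_dvd_prime_iff_eq hq (hπ r hr)).1 (hq.dvd_of_dvd_pow hdvd)
  rw [this]; exact hr

/-- A normal `π'`-subgroup of `π`-index has a complement, which is a Hall `π`-subgroup. -/
theorem exists_hall_of_normal_pi_complement {G : Type*} [Group G] [Finite G] (π : Finset ℕ)
    (N : Subgroup G) [N.Normal] (hNcard : ∀ r : ℕ, r.Prime → r ∣ Nat.card ↥N → r ∉ π)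
    (hNidx : ∀ r : ℕ, r.Prime → r ∣ N.index → r ∈ π) :
    ∃ H : Subgroup G, N.IsComplement' H ∧ Cfsg.IsPiHall (↑π : Set ℕ) H := by
  have hcop : Nat.Coprime (Nat.card N) N.index :=
    Nat.coprime_of_dvd (fun q hq h1 h2 => hNcard q hq h1 (hNidx q hq h2))
  obtain ⟨H, hH⟩ := Subgroup.exists_right_complement'_of_coprime hcop
  refine ⟨H, hH, ?_, ?_⟩
  · intro q hq hqd
    rw [← hH.symm.index_eq_card] at hqd
    exact Finset.mem_coe.2 (hNidx q hq hqd)
  · intro q hq hqπ hqd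
    rw [hH.index_eq_card] at hqd
    exact hNcard q hq hqd (Finset.mem_coe.1 hqπ)

/-- The local data extracted from a normal `r`-complement. -/
theorem data_of_hasNormalPComplement {G : Type*} [Group G] [Finite G] (r : ℕ) (hr : r.Prime)
    (h : Cfsg.HasNormalPComplement r G) :
    ∃ K : Subgroup G, K.Normal ∧ ¬ r ∣ Nat.card K ∧ (∃ j : ℕ, K.index = r ^ j) ∧
      ((∀ Q : Sylow r G, IsMulCommutative Q) → ∀ a b : G, a * b * a⁻¹ * b⁻¹ ∈ K) := by
  haveI : Fact r.Prime := ⟨hr⟩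
  obtain ⟨P, K, hKn, hc⟩ := h
  have hidx : K.index = Nat.card (P : Subgroup G) := hc.symm.index_eq_card
  have hcardK : Nat.card K = (P : Subgroup G).index := hc.index_eq_card.symm
  refine ⟨K, hKn, ?_, ⟨(Nat.card G).factorization r, ?_⟩, ?_⟩
  · rw [hcardK]
    exact P.not_dvd_index
  · rw [hidx, Sylow.card_eq_multiplicity]
  · intro hab a b
    haveI := hKn
    -- every element of G is k * u with k ∈ K, u ∈ P
    have hdecomp : ∀ g : G, ∃ u : (P : Subgroup G), (g : G ⧸ K) = ((u : G) : G ⧸ K) := by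
      intro g
      obtain ⟨⟨k, u⟩, hku, -⟩ := hc.existsUnique g
      refine ⟨u, ?_⟩
      have : g = (k : G) * (u : G) := hku.symm
      rw [this, QuotientGroup.mk_mul, (QuotientGroup.eq_one_iff (k : G)).2 k.2, one_mul]
    obtain ⟨u, hu⟩ := hdecomp a
    obtain ⟨v, hv⟩ := hdecomp b
    rw [← QuotientGroup.eq_one_iff]
    simp only [QuotientGroup.mk_mul, QuotientGroup.mk_inv, hu, hv]
    have hcomm : (u : G) * v = v * u := by
      have := (hab P).is_comm.comm u v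
      exact congrArg Subtype.val this
    rw [← QuotientGroup.mk_mul, hcomm, QuotientGroup.mk_mul]
    group

/-- (R2a) If `G` has a normal `r`-complement for every `r ∈ s`, then `G` has a normal
`s`-complement. -/
theorem exists_normal_pi_complement {G : Type*} [Group G] [Finite G] (s : Finset ℕ)
    (hs : ∀ r ∈ s, r.Prime) (h : ∀ r ∈ s, Cfsg.HasNormalPComplement r G) :
    ∃ N : Subgroup G, N.Normal ∧ (∀ r : ℕ, r.Prime → r ∣ Nat.card ↥N → r ∉ s) ∧
      ∀ r : ℕ, r.Prime → r ∣ N.index → r ∈ s := by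
  have hloc : ∀ r : ℕ, r ∈ s → ∃ K : Subgroup G, K.Normal ∧ ¬ r ∣ Nat.card K ∧
      (∃ j : ℕ, K.index = r ^ j) := by
    intro r hr
    obtain ⟨K, h1, h2, h3, -⟩ := data_of_hasNormalPComplement r (hs r hr) (h r hr)
    exact ⟨K, h1, h2, h3⟩
  choose! K hK using hloc
  exact ⟨_, iInf_normal_pi_complement s hs K hK⟩

/-- (R2b) If `G` has a normal `r`-complement and abelian Sylow `r`-subgroups for every `r ∈ s`,
then `G` has an abelian Hall `s`-subgroup (a complement of the normal `s`-complement). -/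
theorem exists_abelian_hall {G : Type*} [Group G] [Finite G] (s : Finset ℕ)
    (hs : ∀ r ∈ s, r.Prime) (h : ∀ r ∈ s, Cfsg.HasNormalPComplement r G)
    (hab : ∀ r ∈ s, ∀ Q : Sylow r G, IsMulCommutative Q) :
    ∃ H : Subgroup G, Cfsg.IsPiHall (↑s : Set ℕ) H ∧ IsMulCommutative ↥H := by
  have hloc : ∀ r : ℕ, r ∈ s → ∃ K : Subgroup G, K.Normal ∧ ¬ r ∣ Nat.card K ∧
      (∃ j : ℕ, K.index = r ^ j) ∧ ∀ a b : G, a * b * a⁻¹ * b⁻¹ ∈ K := by
    intro r hr
    obtain ⟨K, h1, h2, h3, h4⟩ := data_of_hasNormalPComplement r (hs r hr) (h r hr)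
    exact ⟨K, h1, h2, h3, h4 (hab r hr)⟩
  choose! K hK using hloc
  obtain ⟨hNn, hNcard, hNidx⟩ := iInf_normal_pi_complement s hs K
    (fun r hr => ⟨(hK r hr).1, (hK r hr).2.1, (hK r hr).2.2.1⟩)
  haveI := hNn
  obtain ⟨H, hH, hHall⟩ := exists_hall_of_normal_pi_complement s (⨅ r ∈ s, K r) hNcard hNidx
  refine ⟨H, hHall, ⟨⟨fun a b => ?_⟩⟩⟩
  apply Subtype.ext
  have h1 : (a : G) * b * (a : G)⁻¹ * (b : G)⁻¹ ∈ ⨅ r ∈ s, K r := by
    simp only [Subgroup.mem_iInf]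
    intro r hr
    exact (hK r hr).2.2.2 a b
  have h2 : (a : G) * b * (a : G)⁻¹ * (b : G)⁻¹ ∈ H :=
    H.mul_mem (H.mul_mem (H.mul_mem a.2 b.2) (H.inv_mem a.2)) (H.inv_mem b.2)
  have hd := hH.disjoint
  rw [Subgroup.disjoint_def] at hd
  have h3 := hd h1 h2
  show (a : G) * b = b * a
  calc (a : G) * b = ((a : G) * b * (a : G)⁻¹ * (b : G)⁻¹) * (b * a) := by group
    _ = b * a := by rw [h3, one_mul]

end Cfsg.Agent.Helper45.PiAsm
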