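import Mathlib
import Cfsg.Agent.Lib.Helper45.PClasses

/-!
# Counting conjugacy classes of `π`-elements (helper45)

* `KCl σ G` : classes of `σ`-elements.
* `exists_parts` : `r`-part / `r'`-part decomposition of an element.
* `card_KCl_le_mul` : `k_σ(G) ≤ k_r(G) · M` if `k_{σ∖r}(C_G(x)) ≤ M` for all `x`.
* `card_KCl_le` : `k_σ(G) ≤ |G|_σ`.
-/

set_option autoImplicit false

namespace Cfsg.Agent.Helper45.PCl

open Subgroup

universe u

/-- classes of `σ`-elements -/
abbrev KCl (σ : Finset ℕ) (G : Type*) [Group G] : Type _ :=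
  {c : ConjClasses G // ∀ x ∈ c.carrier, ∀ r : ℕ, r.Prime → r ∣ orderOf x → r ∈ σ}

section
variable {G : Type u} [Group G]

theorem kcl_mk_prop (σ : Finset ℕ) {g : G}
    (hg : ∀ r : ℕ, r.Prime → r ∣ orderOf g → r ∈ σ) :
    ∀ x ∈ (ConjClasses.mk g).carrier, ∀ r : ℕ, r.Prime → r ∣ orderOf x → r ∈ σ := by
  intro y hy r hr hry
  rw [ConjClasses.mem_carrier_iff_mk_eq, ConjClasses.mk_eq_mk_iff_isConj, isConj_iff] at hy
  obtain ⟨c, rfl⟩ := hy
  exact hg r hr (by rw [orderOf_conj_eq]; exact hry)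

/-- a chosen representative of a class -/
noncomputable def rep (c : ConjClasses G) : G := (ConjClasses.exists_rep c).choose

theorem mk_rep (c : ConjClasses G) : ConjClasses.mk (rep c) = c :=
  (ConjClasses.exists_rep c).choose_spec

theorem rep_mem (c : ConjClasses G) : rep c ∈ c.carrier := by
  rw [ConjClasses.mem_carrier_iff_mk_eq]; exact mk_rep c

/-- decomposition into `r`-part and `r'`-part -/
theorem exists_parts [Finite G] (r : ℕ) (hr : r.Prime) (g : G) :
    ∃ x y : G, x * y = g ∧ Commute x y ∧ (∃ k : ℕ, orderOf x = r ^ k) ∧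
      orderOf y ∣ orderOf g ∧ ¬ r ∣ orderOf y := by
  have hn : orderOf g ≠ 0 := (orderOf_pos g).ne'
  obtain ⟨a, m, hm, hnm⟩ := Nat.exists_eq_pow_mul_and_not_dvd hn r hr.ne_one
  have hcop : Nat.Coprime (r ^ a) m := Nat.Coprime.pow_left a ((Nat.Prime.coprime_iff_not_dvd hr).2 hm)
  have hbez := Nat.gcd_eq_gcd_ab (r ^ a) m
  rw [hcop.gcd_eq_one] at hbez
  set A := Nat.gcdA (r ^ a) m
  set B := Nat.gcdB (r ^ a) m
  refine ⟨g ^ ((m : ℤ) * B), g ^ (((r ^ a : ℕ) : ℤ) * A), ?_, ?_, ?_, ?_, ?_⟩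
  · rw [← zpow_add]
    have : (m : ℤ) * B + ((r ^ a : ℕ) : ℤ) * A = 1 := by
      have h := hbez
      push_cast at h ⊢
      linarith
    rw [this, zpow_one]
  · exact (Commute.refl g).zpow_zpow _ _
  · have h1 : (g ^ ((m : ℤ) * B)) ^ (r ^ a) = 1 := by
      rw [← zpow_natCast, ← zpow_mul]
      have : (m : ℤ) * B * ((r ^ a : ℕ) : ℤ) = ((orderOf g : ℕ) : ℤ) * B := by
        rw [hnm]; push_cast; ring
      rw [this, zpow_mul, zpow_natCast, pow_orderOf_eq_one, one_zpow]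
    obtain ⟨j, _, hj⟩ := (Nat.dvd_prime_pow hr).1 (orderOf_dvd_of_pow_eq_one h1)
    exact ⟨j, hj⟩
  · have h1 : (g ^ (((r ^ a : ℕ) : ℤ) * A)) ^ m = 1 := by
      rw [← zpow_natCast, ← zpow_mul]
      have : ((r ^ a : ℕ) : ℤ) * A * (m : ℤ) = ((orderOf g : ℕ) : ℤ) * A := by
        rw [hnm]; push_cast; ring
      rw [this, zpow_mul, zpow_natCast, pow_orderOf_eq_one, one_zpow]
    exact (orderOf_dvd_of_pow_eq_one h1).trans ⟨r ^ a, by rw [hnm]; ring⟩
  · have h1 : (g ^ (((r ^ a : ℕ) : ℤ) * A)) ^ m = 1 := by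
      rw [← zpow_natCast, ← zpow_mul]
      have : ((r ^ a : ℕ) : ℤ) * A * (m : ℤ) = ((orderOf g : ℕ) : ℤ) * A := by
        rw [hnm]; push_cast; ring
      rw [this, zpow_mul, zpow_natCast, pow_orderOf_eq_one, one_zpow]
    intro h
    exact hm (h.trans (orderOf_dvd_of_pow_eq_one h1))

variable [Finite G]

/-- the map `([x], [y]_{C(x)}) ↦ [x y]` -/
noncomputable def glue (r : ℕ) [hr : Fact r.Prime] (σ τ : Finset ℕ) (hτ : τ ⊆ σ) (hrσ : r ∈ σ) :
    (Σ c : PClass r G, KCl τ ↥(centralizer ({rep c.1} : Set G))) → KCl σ G :=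
  fun cd => ⟨ConjClasses.mk (rep cd.1.1 * ((rep cd.2.1 : ↥(centralizer ({rep cd.1.1} : Set G))) : G)),
    kcl_mk_prop σ (by
      intro q hq hqd
      obtain ⟨k, hk⟩ := cd.1.2 _ (rep_mem cd.1.1)
      have hy := cd.2.2 _ (rep_mem cd.2.1)
      have hcomm : Commute (rep cd.1.1)
          ((rep cd.2.1 : ↥(centralizer ({rep cd.1.1} : Set G))) : G) := by
        have := (rep cd.2.1 : ↥(centralizer ({rep cd.1.1} : Set G))).2
        rw [mem_centralizer_iff] at this
        exact (this _ rfl)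
      have hdvd := hq.dvd_mul.1 (hqd.trans hcomm.orderOf_mul_dvd_mul_orderOf)
      rcases hdvd with h | h
      · rw [hk] at h
        have := (Nat.prime_dvd_prime_iff_eq hq hr.out).1 (hq.dvd_of_dvd_pow h)
        rw [this]; exact hrσ
      · rw [Subgroup.orderOf_coe] at h
        exact hτ (hy q hq h))⟩

theorem glue_surjective (r : ℕ) [hr : Fact r.Prime] (σ : Finset ℕ) (hrσ : r ∈ σ) :
    Function.Surjective (glue (G := G) r σ (σ.erase r) (Finset.erase_subset _ _) hrσ) := by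
  rintro ⟨c, hc⟩
  obtain ⟨g, rfl⟩ := ConjClasses.exists_rep c
  have hg := hc g ConjClasses.mem_carrier_mk
  obtain ⟨x, y, hxy, hcomm, ⟨k, hk⟩, hyd, hyr⟩ := exists_parts r hr.out g
  -- the class of x
  have hxprop : ∀ z ∈ (ConjClasses.mk x).carrier, ∃ k : ℕ, orderOf z = r ^ k := by
    intro z hz
    rw [ConjClasses.mem_carrier_iff_mk_eq, ConjClasses.mk_eq_mk_iff_isConj, isConj_iff] at hz
    obtain ⟨c, rfl⟩ := hz
    exact ⟨k, by rw [← hk, orderOf_conj_eq]⟩
  set cx : PClass r G := ⟨ConjClasses.mk x, hxprop⟩ with hcx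
  set x₀ := rep cx.1 with hx₀
  have hx₀x : ConjClasses.mk x₀ = ConjClasses.mk x := mk_rep cx.1
  rw [ConjClasses.mk_eq_mk_iff_isConj, isConj_iff] at hx₀x
  obtain ⟨h, hh⟩ := hx₀x   -- h * x₀ * h⁻¹ = x
  -- y' = h⁻¹ y h
  have hy'mem : h⁻¹ * y * h ∈ centralizer ({x₀} : Set G) := by
    rw [mem_centralizer_iff]
    intro z hz
    rw [Set.mem_singleton_iff] at hz
    subst hz
    have hxy' : x * y = y * x := hcomm.eq
    rw [← hh] at hxy'
    calc x₀ * (h⁻¹ * y * h) = h⁻¹ * ((h * x₀ * h⁻¹) * y) * h := by group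
      _ = h⁻¹ * (y * (h * x₀ * h⁻¹)) * h := by rw [hxy']
      _ = h⁻¹ * y * h * x₀ := by group
  set y' : ↥(centralizer ({x₀} : Set G)) := ⟨h⁻¹ * y * h, hy'mem⟩ with hy'
  have hy'prop : ∀ q : ℕ, q.Prime → q ∣ orderOf y' → q ∈ σ.erase r := by
    intro q hq hqd
    rw [← Subgroup.orderOf_coe] at hqd
    have h1 : orderOf (h⁻¹ * y * h) = orderOf y := by
      have := orderOf_conj_eq h⁻¹ y
      rwa [inv_inv] at this
    rw [show ((y' : ↥(centralizer ({x₀} : Set G))) : G) = h⁻¹ * y * h from rfl, h1] at hqd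
    rw [Finset.mem_erase]
    refine ⟨?_, hg q hq (hqd.trans hyd)⟩
    rintro rfl
    exact hyr hqd
  set cy : KCl (σ.erase r) ↥(centralizer ({x₀} : Set G)) :=
    ⟨ConjClasses.mk y', kcl_mk_prop _ hy'prop⟩ with hcy
  refine ⟨⟨cx, cy⟩, ?_⟩
  apply Subtype.ext
  show ConjClasses.mk (x₀ * ((rep cy.1 : ↥(centralizer ({x₀} : Set G))) : G)) = ConjClasses.mk g
  -- rep cy.1 = z y' z⁻¹
  have hz : ConjClasses.mk (rep cy.1) = ConjClasses.mk y' := mk_rep cy.1
  rw [ConjClasses.mk_eq_mk_iff_isConj, isConj_iff] at hz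
  obtain ⟨z, hz⟩ := hz  -- z * rep * z⁻¹ = y'
  have hzG : (z : G) * ((rep cy.1 : ↥(centralizer ({x₀} : Set G))) : G) * (z : G)⁻¹ = h⁻¹ * y * h := by
    have := congrArg Subtype.val hz
    simpa using this
  have hzc : (z : G) * x₀ = x₀ * z := by
    have := z.2
    rw [mem_centralizer_iff] at this
    exact (this x₀ rfl).symm
  rw [ConjClasses.mk_eq_mk_iff_isConj, isConj_iff]
  refine ⟨h * z, ?_⟩
  have hx₀z : (z : G) * x₀ * (z : G)⁻¹ = x₀ := by
    rw [hzc]; group
  calc h * z * (x₀ * ((rep cy.1 : ↥(centralizer ({x₀} : Set G))) : G)) * (h * z)⁻¹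
      = h * ((z * x₀ * (z : G)⁻¹) * (z * ((rep cy.1 : ↥(centralizer ({x₀} : Set G))) : G) * (z : G)⁻¹)) * h⁻¹ := by
        group
    _ = h * (x₀ * (h⁻¹ * y * h)) * h⁻¹ := by rw [hx₀z, hzG]
    _ = (h * x₀ * h⁻¹) * y := by group
    _ = g := by rw [hh, hxy]

/-- `k_σ(G) ≤ k_r(G) · M` when `k_{σ∖r}(C_G(x)) ≤ M` for all `x`. -/
theorem card_KCl_le_mul (r : ℕ) [hr : Fact r.Prime] (σ : Finset ℕ) (hrσ : r ∈ σ) (M : ℕ)
    (hM : ∀ x : G, Nat.card (KCl (σ.erase r) ↥(centralizer ({x} : Set G))) ≤ M) :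
    Nat.card (KCl σ G) ≤ Nat.card (PClass r G) * M := by
  classical
  have h1 := Nat.card_le_card_of_surjective _ (glue_surjective (G := G) r σ hrσ)
  let _ : Fintype (PClass r G) := Fintype.ofFinite _
  rw [Nat.card_sigma] at h1
  refine h1.trans ?_
  calc ∑ c : PClass r G, Nat.card (KCl (σ.erase r) ↥(centralizer ({rep c.1} : Set G)))
      ≤ ∑ _c : PClass r G, M := Finset.sum_le_sum (fun c _ => hM _)
    _ = Nat.card (PClass r G) * M := by
        rw [Finset.sum_const, smul_eq_mul, Finset.card_univ, Nat.card_eq_fintype_card]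

theorem card_pclass_le (r : ℕ) [hr : Fact r.Prime] :
    Nat.card (PClass r G) ≤ r ^ (Nat.card G).factorization r := by
  obtain ⟨R⟩ : Nonempty (Sylow r G) := inferInstance
  rw [← Sylow.card_eq_multiplicity R]
  apply Nat.card_le_card_of_surjective
    (fun x : (R : Subgroup G) => (⟨ConjClasses.mk (x : G), pclass_mk_prop R x.2⟩ : PClass r G))
  intro c
  obtain ⟨x, hx, hxc⟩ := exists_mem_sylow R c
  exact ⟨⟨x, hx⟩, Subtype.ext hxc⟩

end

/-- `k_σ(H) ≤ |H|_σ` -/
theorem card_KCl_le (σ : Finset ℕ) (hσ : ∀ r ∈ σ, r.Prime) :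
    ∀ (H : Type u) [Group H] [Finite H],
      Nat.card (KCl σ H) ≤ ∏ s ∈ σ, s ^ (Nat.card H).factorization s := by
  induction σ using Finset.induction_on with
  | empty =>
    intro H _ _
    rw [Finset.prod_empty]
    rw [Finite.card_le_one_iff_subsingleton]
    constructor
    intro a b
    have key : ∀ c : KCl ∅ H, c.1 = ConjClasses.mk 1 := by
      intro c
      obtain ⟨c, hc⟩ := c
      obtain ⟨g, rfl⟩ := ConjClasses.exists_rep c
      have hg := hc g ConjClasses.mem_carrier_mk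
      have h1 : orderOf g = 1 := by
        by_contra hne
        obtain ⟨q, hq, hqd⟩ := Nat.exists_prime_and_dvd hne
        exact absurd (hg q hq hqd) (Finset.notMem_empty q)
      rw [orderOf_eq_one_iff] at h1
      show ConjClasses.mk g = ConjClasses.mk 1
      rw [h1]
    exact Subtype.ext ((key a).trans (key b).symm)
  | insert r τ hrτ ih =>
    intro H _ _
    have hr : r.Prime := hσ r (Finset.mem_insert_self r τ)
    have : Fact r.Prime := ⟨hr⟩
    have hτ : ∀ s ∈ τ, s.Prime := fun s hs => hσ s (Finset.mem_insert_of_mem hs)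
    have herase : (insert r τ).erase r = τ := Finset.erase_insert hrτ
    have hM : ∀ x : H, Nat.card (KCl ((insert r τ).erase r) ↥(centralizer ({x} : Set H))) ≤
        ∏ s ∈ τ, s ^ (Nat.card H).factorization s := by
      intro x
      rw [herase]
      refine (ih hτ ↥(centralizer ({x} : Set H))).trans ?_
      apply Finset.prod_le_prod' 
      intro s hs
      apply Nat.pow_le_pow_right (hτ s hs).pos
      have hdvd : Nat.card ↥(centralizer ({x} : Set H)) ∣ Nat.card H := Subgroup.card_subgroup_dvd_card _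
      exact (Nat.factorization_le_iff_dvd Nat.card_pos.ne' Nat.card_pos.ne').2 hdvd s
    have h1 := card_KCl_le_mul (G := H) r (insert r τ) (Finset.mem_insert_self r τ) _ hM
    rw [Finset.prod_insert hrτ]
    exact h1.trans (Nat.mul_le_mul_right _ (card_pclass_le r))

end Cfsg.Agent.Helper45.PCl
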