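import Mathlib
import Cfsg.Prelude.Def_Characters
import Cfsg.Prelude.Def_Blocks
import Cfsg.Agent.Lib.Helper80.RMKDefs
import Cfsg.Agent.Lib.Helper80.RMKBasic
import Cfsg.Agent.Lib.Helper74.LinChar

/-!
# RMK server (helper80, S4581): piece (TWIST) `twist_count`, by helper45
-/

set_option autoImplicit false
set_option linter.style.haveILetI false

namespace Cfsg.Agent.Helper45.RMK

open Cfsg Cfsg.Agent.Helper80 Cfsg.Agent.Helper80.RMK
open scoped ComplexConjugate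

universe u

open Cfsg.Agent.Helper74.Lin in
theorem h45_twist_twist_inv {A : Type u} [Group A] (φ : A →* ℂˣ) (χ : IrrCharacter A) :
    twistIrr φ (twistIrr φ⁻¹ χ) = χ := by
  apply Subtype.ext
  funext g
  rw [twistIrr_apply, twistIrr_apply, ← mul_assoc]
  simp

open Cfsg.Agent.Helper74.Lin in
theorem h45_twist_inv_twist {A : Type u} [Group A] (φ : A →* ℂˣ) (χ : IrrCharacter A) :
    twistIrr φ⁻¹ (twistIrr φ χ) = χ := by
  apply Subtype.ext
  funext g
  rw [twistIrr_apply, twistIrr_apply, ← mul_assoc]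
  simp

open Cfsg.Agent.Helper74.Lin in
/-- twisting by a linear character (of order at most two when `r = true`) preserves `Good r` -/
theorem h45_good_twist (r : Bool) {A : Type u} [Group A] (φ : A →* ℂˣ)
    (hr : r = true → ∀ a : A, φ a ^ 2 = 1) (χ : IrrCharacter A) (hχ : Good r χ) :
    Good r (twistIrr φ χ) := by
  refine ⟨?_, ?_⟩
  · intro hr1 a
    have h1 := hχ.1 hr1 a
    have h2 : ((φ a : ℂˣ) : ℂ) ^ 2 = 1 := by
      have := congrArg (fun z : ℂˣ => (z : ℂ)) (hr hr1 a)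
      simpa using this
    have h3 : ((φ a : ℂˣ) : ℂ) = 1 ∨ ((φ a : ℂˣ) : ℂ) = -1 := sq_eq_one_iff.mp h2
    rw [twistIrr_apply]
    rcases h3 with h3 | h3
    · rw [h3, one_mul]; exact h1
    · rw [h3]; simp [h1]
  · have h1 := hχ.2
    have e : charDegree (twistIrr φ χ : A → ℂ) = charDegree (χ : A → ℂ) := by
      unfold charDegree
      rw [twistIrr_apply, map_one]
      simp
    rw [e]
    exact h1

/-- the values of a linear character of a finite group have norm one, so `z⁻¹ = conj z` -/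
theorem h45_inv_eq_conj {A : Type u} [Group A] [Finite A] (φ : A →* ℂˣ) (a : A) :
    (((φ a : ℂˣ) : ℂ))⁻¹ = conj ((φ a : ℂˣ) : ℂ) := by
  have hn : 0 < orderOf a := orderOf_pos a
  have h1 : ((φ a : ℂˣ) : ℂ) ^ orderOf a = 1 := by
    have : φ a ^ orderOf a = 1 := by rw [← map_pow, pow_orderOf_eq_one, map_one]
    have := congrArg (fun z : ℂˣ => (z : ℂ)) this
    simpa using this
  have h2 : ‖((φ a : ℂˣ) : ℂ)‖ = 1 := Complex.norm_eq_one_of_pow_eq_one h1 hn.ne'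
  exact Complex.inv_eq_conj h2

open Cfsg.Agent.Helper74.Lin in
theorem h45_over_twist {G : Type u} [Group G] [Finite G] (M : Subgroup G)
    (H : Subgroup G) (hMH : M ≤ H) (θ : IrrCharacter ↥M)
    (ν : ↥H →* ℂˣ)
    (hν : ∀ m : ↥M, ((ν (Subgroup.inclusion hMH m) : ℂˣ) : ℂ) = (θ : ↥M → ℂ) m)
    (ψ : IrrCharacter ↥H) :
    Over hMH (twistIrr ν⁻¹ ψ) (trivialIrr ↥M) ↔ Over hMH ψ θ := by
  unfold Over
  have e : (fun m : ↥M => (twistIrr ν⁻¹ ψ : ↥H → ℂ) (Subgroup.inclusion hMH m) *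
        conj ((trivialIrr ↥M : ↥M → ℂ) m)) =
      (fun m : ↥M => (ψ : ↥H → ℂ) (Subgroup.inclusion hMH m) * conj ((θ : ↥M → ℂ) m)) := by
    funext m
    rw [twistIrr_apply, trivialIrr_apply, map_one, mul_one, ← hν m, ← h45_inv_eq_conj ν]
    rw [MonoidHom.inv_apply, Units.val_inv_eq_inv_val, mul_comm]
  rw [e]

/-- (TWIST) twisting by a linear character of `H` extending `θ` -/
theorem twist_count (r : Bool) {G : Type u} [Group G] [Finite G] (M : Subgroup G)
    [hM : M.Normal] (H : Subgroup G) (hMH : M ≤ H) (θ : IrrCharacter ↥M)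
    (ν : ↥H →* ℂˣ)
    (hν : ∀ m : ↥M, ((ν (Subgroup.inclusion hMH m) : ℂˣ) : ℂ) = (θ : ↥M → ℂ) m)
    (hr : r = true → ∀ h : ↥H, ν h ^ 2 = 1) :
    cntOver r hMH θ = cntOver r hMH (trivialIrr ↥M) := by
  have hr' : r = true → ∀ h : ↥H, ν⁻¹ h ^ 2 = 1 := by
    intro hr1 h
    rw [MonoidHom.inv_apply, inv_pow, hr hr1 h, inv_one]
  unfold cntOver
  refine Nat.card_congr ⟨fun ψ => ⟨Cfsg.Agent.Helper74.Lin.twistIrr ν⁻¹ ψ.1,
      h45_good_twist r ν⁻¹ hr' ψ.1 ψ.2.1, (h45_over_twist M H hMH θ ν hν ψ.1).mpr ψ.2.2⟩,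
    fun ψ => ⟨Cfsg.Agent.Helper74.Lin.twistIrr ν ψ.1, h45_good_twist r ν hr ψ.1 ψ.2.1, ?_⟩, ?_, ?_⟩
  · rw [← h45_over_twist M H hMH θ ν hν, h45_twist_inv_twist]
    exact ψ.2.2
  · intro ψ
    apply Subtype.ext
    exact h45_twist_twist_inv ν ψ.1
  · intro ψ
    apply Subtype.ext
    exact h45_twist_inv_twist ν ψ.1

end Cfsg.Agent.Helper45.RMK
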