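import Mathlib
import Cfsg.Agent.Lib.Helper62.SUO0
import Cfsg.Agent.Lib.Helper1.SUOC1

/-!
# SUO (C2) `exists_u` (helper45, for helper62's server, S2282)
-/

set_option autoImplicit false
set_option linter.unusedSectionVars false
set_option linter.unusedVariables false
set_option linter.unusedSimpArgs false
set_option quotPrecheck false

namespace Cfsg.Agent.Helper45.SUO

open Matrix Cfsg Cfsg.Agent.Helper13 Cfsg.Agent.Helper87.PsuA Cfsg.Agent.Helper62.SUO
open Cfsg.Agent.Helper87.PsuB0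

section gen
variable {F : Type*} [Field F] [Fintype F] {q n : ℕ} (hF : Fintype.card F = q ^ 2)
  {b : Fin n → Fin n → F}

include hF

/-- superdiagonal entries add (own copy of (U1)) -/
theorem h45_superdiag_mul (hb : HB q b) {g h : ↥(Cfsg.SU n F q)} (hg : g ∈ Usub hb)
    (hh : h ∈ Usub hb) (i j : Fin n) (hij : i.val + 1 = j.val) :
    co q b (actv (g * h) (b j)) i = co q b (actv g (b j)) i + co q b (actv h (b j)) i := by
  rw [mem_Usub_iff] at hg hh
  rw [← rhoM_apply, ← rhoM_apply, ← rhoM_apply, rhoM_mul hb, Matrix.mul_apply]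
  have hne : i ≠ j := by
    intro h; rw [h] at hij; omega
  rw [Finset.sum_eq_add i j hne]
  · rw [rhoM_apply, rhoM_apply, rhoM_apply, rhoM_apply, hg i i le_rfl, hh j j le_rfl, if_pos rfl,
      if_pos rfl, one_mul, mul_one, add_comm]
  · intro k _ hk
    rw [rhoM_apply, rhoM_apply]
    rcases lt_or_gt_of_ne hk.1 with h1 | h1
    · rw [hg i k h1.le, if_neg hk.1.symm, zero_mul]
    · have h2 : j < k := by
        rcases lt_or_gt_of_ne hk.2 with h2 | h2
        · exfalso
          have : i.val < k.val := h1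
          have : k.val < j.val := h2
          omega
        · exact h2
      rw [hh k j h2.le, if_neg hk.2, mul_zero]
  · intro h; exact absurd (Finset.mem_univ i) h
  · intro h; exact absurd (Finset.mem_univ j) h

/-- superdiagonal entry of an Eichler element along a basis vector -/
theorem h45_sup_eich (hb : HB q b) (k : Fin n) (hk : k ≠ Fin.rev k) (w : Fin n → F) (a : F)
    (huw : Cfsg.hermForm n F q (b k) w = 0) (ha : a + a ^ q + Cfsg.hermForm n F q w w = 0)
    (i j : Fin n) (hij : i.val + 1 = j.val) :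
    co q b (actv (eich hF (b k) w a) (b j)) i =
      (if k = Fin.rev j then co q b w i else 0)
        - (if i = k then (co q b w (Fin.rev j)) ^ q else 0)
        + (if k = Fin.rev j then (if i = k then a else 0) else 0) := by
  have hne : i ≠ j := by
    intro h; rw [h] at hij; omega
  rw [co_eich_b hF hb k hk w a huw ha j i, if_neg hne]
  split_ifs <;> ring

end gen

section C
variable {F : Type*} [Field F] [Fintype F] {q m : ℕ} (hF : Fintype.card F = q ^ 2)
  {b : Fin (2 * m + 5) → Fin (2 * m + 5) → F}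

local notation "V" => Fin (2 * m + 5) → F
local notation "G" => ↥(Cfsg.SU (2 * m + 5) F q)
local notation "H" => Cfsg.hermForm (2 * m + 5) F q

include hF

/-- (C2) with the output of (C1) as hypotheses -/
theorem h45_exists_u_of (hb : HB q b) (t a : F) (ht : t ≠ 0) (hta : a + a ^ q + t * t ^ q = 0)
    (R : G) (hRU : R ∈ Usub hb)
    (hR3 : actv R (b ⟨m + 3, by omega⟩) = b ⟨m + 3, by omega⟩)
    (hR4 : actv R (b ⟨m + 4, by omega⟩) = b ⟨m + 4, by omega⟩)
    (hRnz : ∀ i j : Fin (2 * m + 5), i.val + 1 = j.val → (j.val ≤ m ∨ m + 5 ≤ j.val) →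
        co q b (actv R (b j)) i ≠ 0)
    (hRz : ∀ i j : Fin (2 * m + 5), i.val + 1 = j.val → m + 1 ≤ j.val → j.val ≤ m + 4 →
        co q b (actv R (b j)) i = 0) :
    ∃ u : G, u ∈ Usub hb ∧ SupNZ q b u ∧
      actv u (b ⟨m + 4, by omega⟩) = b ⟨m + 4, by omega⟩ - b ⟨m + 3, by omega⟩ ∧
      actv u (b ⟨m + 3, by omega⟩) = b ⟨m + 3, by omega⟩ + t • b ⟨m + 2, by omega⟩
        + a • b ⟨m + 1, by omega⟩ + a • b ⟨m, by omega⟩ := by
  -- the Gram values in terms of indices
  have hH : ∀ (x y : ℕ) (hx : x < 2 * m + 5) (hy : y < 2 * m + 5),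
      H (b ⟨x, hx⟩) (b ⟨y, hy⟩) = if y + x = 2 * m + 4 then 1 else 0 := by
    intro x y hx hy
    rw [hb]
    congr 1
    rw [Fin.ext_iff, Fin.val_rev]
    simp only [Fin.val_mk, eq_iff_iff]
    omega
  have hco : ∀ (x : ℕ) (hx : x < 2 * m + 5) (i : Fin (2 * m + 5)),
      co q b (b ⟨x, hx⟩) i = if i.val = x then 1 else 0 := by
    intro x hx i
    rw [co_b hb]
    congr 1
    rw [Fin.ext_iff]
  -- A
  have hA1 : H (b ⟨m, by omega⟩) (-(b ⟨m + 3, by omega⟩)) = 0 := by
    rw [H_neg_right hF, hH, if_neg (by omega), neg_zero]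
  have hA2 : (0 : F) + 0 ^ q + H (-(b ⟨m + 3, by omega⟩)) (-(b ⟨m + 3, by omega⟩)) = 0 := by
    rw [H_neg_right hF, H_neg_left hF, hH, if_neg (by omega), frob_zero hF]
    ring
  have hArev : (⟨m, by omega⟩ : Fin (2 * m + 5)) < Fin.rev ⟨m, by omega⟩ := by
    rw [Fin.lt_def, Fin.val_rev]
    simp only [Fin.val_mk]
    omega
  have hAU : eich hF (b ⟨m, by omega⟩) (-(b ⟨m + 3, by omega⟩)) 0 ∈ Usub hb := by
    apply eich_mem_Usub hF hb _ hArev _ _ _ hA2
    intro i hi
    rw [Fin.le_def, Fin.val_rev] at hi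
    simp only [Fin.val_mk] at hi
    rw [co_neg hF, hco, if_neg (by omega), neg_zero]
  -- B
  have hB1 : H (b ⟨m + 1, by omega⟩) (t • b ⟨m + 2, by omega⟩) = 0 := by
    rw [hermForm_smul_right, hH, if_neg (by omega), mul_zero]
  have hB2 : a + a ^ q + H (t • b ⟨m + 2, by omega⟩) (t • b ⟨m + 2, by omega⟩) = 0 := by
    rw [hermForm_smul_left, hermForm_smul_right, hH, if_pos (by omega)]
    linear_combination hta
  have hBrev : (⟨m + 1, by omega⟩ : Fin (2 * m + 5)) < Fin.rev ⟨m + 1, by omega⟩ := by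
    rw [Fin.lt_def, Fin.val_rev]
    simp only [Fin.val_mk]
    omega
  have hBU : eich hF (b ⟨m + 1, by omega⟩) (t • b ⟨m + 2, by omega⟩) a ∈ Usub hb := by
    apply eich_mem_Usub hF hb _ hBrev _ _ _ hB2
    intro i hi
    rw [Fin.le_def, Fin.val_rev] at hi
    simp only [Fin.val_mk] at hi
    rw [co_smul, hco, if_neg (by omega), mul_zero]
  have hAiso : H (b ⟨m, by omega⟩) (b ⟨m, by omega⟩) = 0 := by
    rw [hH, if_neg (by omega)]
  have hBiso : H (b ⟨m + 1, by omega⟩) (b ⟨m + 1, by omega⟩) = 0 := by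
    rw [hH, if_neg (by omega)]
  -- actions
  have hA4 : actv (eich hF (b ⟨m, by omega⟩) (-(b ⟨m + 3, by omega⟩)) 0) (b ⟨m + 4, by omega⟩)
      = b ⟨m + 4, by omega⟩ - b ⟨m + 3, by omega⟩ := by
    rw [eich_act hF hAiso hA1 hA2, H_neg_right hF, hH, hH, if_pos (by omega), if_neg (by omega)]
    module
  have hA3 : actv (eich hF (b ⟨m, by omega⟩) (-(b ⟨m + 3, by omega⟩)) 0) (b ⟨m + 3, by omega⟩)
      = b ⟨m + 3, by omega⟩ := by
    rw [eich_act hF hAiso hA1 hA2, H_neg_right hF, hH, hH, if_neg (by omega), if_neg (by omega)]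
    module
  have hA2' : actv (eich hF (b ⟨m, by omega⟩) (-(b ⟨m + 3, by omega⟩)) 0) (b ⟨m + 2, by omega⟩)
      = b ⟨m + 2, by omega⟩ := by
    rw [eich_act hF hAiso hA1 hA2, H_neg_right hF, hH, hH, if_neg (by omega), if_neg (by omega)]
    module
  have hA1' : actv (eich hF (b ⟨m, by omega⟩) (-(b ⟨m + 3, by omega⟩)) 0) (b ⟨m + 1, by omega⟩)
      = b ⟨m + 1, by omega⟩ + b ⟨m, by omega⟩ := by
    rw [eich_act hF hAiso hA1 hA2, H_neg_right hF, hH, hH, if_neg (by omega), if_pos (by omega)]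
    module
  have hB4 : actv (eich hF (b ⟨m + 1, by omega⟩) (t • b ⟨m + 2, by omega⟩) a)
      (b ⟨m + 4, by omega⟩) = b ⟨m + 4, by omega⟩ := by
    rw [eich_act hF hBiso hB1 hB2, hermForm_smul_right, hH, hH, if_neg (by omega),
      if_neg (by omega)]
    module
  have hB3 : actv (eich hF (b ⟨m + 1, by omega⟩) (t • b ⟨m + 2, by omega⟩) a)
      (b ⟨m + 3, by omega⟩) = b ⟨m + 3, by omega⟩ + t • b ⟨m + 2, by omega⟩
        + a • b ⟨m + 1, by omega⟩ := by
    rw [eich_act hF hBiso hB1 hB2, hermForm_smul_right, hH, hH, if_pos (by omega),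
      if_neg (by omega)]
    module
  refine ⟨eich hF (b ⟨m, by omega⟩) (-(b ⟨m + 3, by omega⟩)) 0 *
      eich hF (b ⟨m + 1, by omega⟩) (t • b ⟨m + 2, by omega⟩) a * R,
    (Usub hb).mul_mem ((Usub hb).mul_mem hAU hBU) hRU, ?_, ?_, ?_⟩
  · -- SupNZ
    intro i j hij
    have hjlt := j.isLt
    have hilt := i.isLt
    rw [h45_superdiag_mul hF hb ((Usub hb).mul_mem hAU hBU) hRU i j hij,
      h45_superdiag_mul hF hb hAU hBU i j hij,
      h45_sup_eich hF hb _ hArev.ne _ _ hA1 hA2 i j hij,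
      h45_sup_eich hF hb _ hBrev.ne _ _ hB1 hB2 i j hij]
    have e1 : ((⟨m, by omega⟩ : Fin (2 * m + 5)) = Fin.rev j) ↔ j.val = m + 4 := by
      rw [Fin.ext_iff, Fin.val_rev]
      simp only [Fin.val_mk]
      omega
    have e2 : (i = (⟨m, by omega⟩ : Fin (2 * m + 5))) ↔ j.val = m + 1 := by
      rw [Fin.ext_iff]
      simp only [Fin.val_mk]
      omega
    have e3 : ((⟨m + 1, by omega⟩ : Fin (2 * m + 5)) = Fin.rev j) ↔ j.val = m + 3 := by
      rw [Fin.ext_iff, Fin.val_rev]
      simp only [Fin.val_mk]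
      omega
    have e4 : (i = (⟨m + 1, by omega⟩ : Fin (2 * m + 5))) ↔ j.val = m + 2 := by
      rw [Fin.ext_iff]
      simp only [Fin.val_mk]
      omega
    have e5 : (i.val = m + 3) ↔ j.val = m + 4 := by omega
    have e6 : ((Fin.rev j).val = m + 3) ↔ j.val = m + 1 := by
      rw [Fin.val_rev]; omega
    have e7 : (i.val = m + 2) ↔ j.val = m + 3 := by omega
    have e8 : ((Fin.rev j).val = m + 2) ↔ j.val = m + 2 := by
      rw [Fin.val_rev]; omega
    simp only [co_neg hF, co_smul, hco, e1, e2, e3, e4, e5, e6, e7, e8]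
    by_cases h1 : j.val = m + 1
    · have hR0 := hRz i j hij (by omega) (by omega)
      rw [hR0]
      simp only [h1, Nat.add_left_cancel_iff, if_false, if_true,
        Nat.reduceEqDiff]
      simp
    · by_cases h2 : j.val = m + 2
      · have hR0 := hRz i j hij (by omega) (by omega)
        rw [hR0]
        simp only [h2, Nat.add_left_cancel_iff, if_false, if_true, Nat.reduceEqDiff]
        simp [ht]
      · by_cases h3 : j.val = m + 3
        · have hR0 := hRz i j hij (by omega) (by omega)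
          rw [hR0]
          simp only [h3, Nat.add_left_cancel_iff, if_false, if_true, Nat.reduceEqDiff]
          simp [ht]
        · by_cases h4 : j.val = m + 4
          · have hR0 := hRz i j hij (by omega) (by omega)
            rw [hR0]
            simp only [h4, Nat.add_left_cancel_iff, if_false, if_true, Nat.reduceEqDiff]
            simp
          · have hR0 := hRnz i j hij (by omega)
            simp only [h1, h2, h3, h4, if_false]
            simpa using hR0
  · rw [actv_mul, actv_mul, hR4, hB4, hA4]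
  · rw [actv_mul, actv_mul, hR3, hB3, actv_add, actv_add, actv_smul, actv_smul, hA3, hA2', hA1']
    module

/-- (C2) `u = A * B * R`, `A = eich (b m) (-(b (m+3))) 0`, `B = eich (b (m+1)) (t • b (m+2)) a`,
`R` from C1 (`eich_b`, `eich_mem_Usub`, U1) -/
theorem exists_u (hb : HB q b) (t a : F) (ht : t ≠ 0) (hta : a + a ^ q + t * t ^ q = 0) :
    ∃ u : G, u ∈ Usub hb ∧ SupNZ q b u ∧
      actv u (b ⟨m + 4, by omega⟩) = b ⟨m + 4, by omega⟩ - b ⟨m + 3, by omega⟩ ∧
      actv u (b ⟨m + 3, by omega⟩) = b ⟨m + 3, by omega⟩ + t • b ⟨m + 2, by omega⟩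
        + a • b ⟨m + 1, by omega⟩ + a • b ⟨m, by omega⟩ := by
  obtain ⟨R, hRU, hR3, hR4, hRnz, hRz⟩ := Cfsg.Agent.Helper1.SUO.exists_R hF hb
  exact h45_exists_u_of hF hb t a ht hta R hRU hR3 hR4 hRnz hRz

end C

end Cfsg.Agent.Helper45.SUO
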