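import Mathlib
import Cfsg.Agent.Lib.Helper13.SUPrim
import Cfsg.Agent.Lib.Helper87.PsuA

/-!
# SUO (S2282): the third conjugate from a vector `v` (helper45, proactive brick)

If `v` is isotropic with `H v (u v) = 0` and `H v (u² v) = H p x ≠ 0`, and `(p, e0, x)` is a triple
with the Gram matrix of `(v, u v, u² v)`, then some `h ∈ SU_n` has `l = h u h⁻¹` with
`l e0 = x` and `l⁻¹ e0 = p` (Witt, through `Helper13.exists_SU_frame`).
-/

set_option autoImplicit false
set_option quotPrecheck false
set_option linter.unusedSimpArgs false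
set_option linter.unusedSectionVars false
set_option linter.unusedVariables false

namespace Cfsg.Agent.Helper45.SUO

open Matrix Cfsg Cfsg.Agent.Helper13 Cfsg.Agent.Helper87.PsuA

variable {F : Type*} [Field F] [Fintype F] {q n : ℕ} (hF : Fintype.card F = q ^ 2)

local notation "V" => Fin n → F
local notation "G" => ↥(Cfsg.SU n F q)
local notation "H" => Cfsg.hermForm n F q

include hF in
/-- a triple `(a, b, c)` with `H a a = 0`, `H a b = 0`, `H b c = 0`-free Gram shape
`H a c ≠ 0`, `H c c = 0`, `b ≠ 0`, `H b a = 0`, `H b c = 0` is linearly independent -/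
theorem h45_indep3 (a b c : V) (hab : H b a = 0) (hcb : H b c = 0) (haa : H a a = 0)
    (hcc : H c c = 0) (hac : H a c ≠ 0) (hb : b ≠ 0) :
    LinearIndependent F ![a, b, c] := by
  rw [Fintype.linearIndependent_iff]
  intro g hg
  rw [Fin.sum_univ_three] at hg
  simp only [Matrix.cons_val_zero, Matrix.cons_val_one, Matrix.cons_val_two,
    Matrix.head_cons, Matrix.tail_cons] at hg
  have hca : H c a ≠ 0 := by
    rw [← hermForm_conj hF]
    exact pow_ne_zero q hac
  -- pair with `c` on the right: kills `b`, `c`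
  have h1 : H (g 0 • a + g 1 • b + g 2 • c) c = 0 := by rw [hg, H_zero_left hF]
  rw [hermForm_add_left, hermForm_add_left, hermForm_smul_left, hermForm_smul_left,
    hermForm_smul_left, hcb, hcc, mul_zero, mul_zero, add_zero, add_zero] at h1
  have hg0 : g 0 = 0 := (mul_eq_zero.1 h1).resolve_right hac
  have h2 : H (g 0 • a + g 1 • b + g 2 • c) a = 0 := by rw [hg, H_zero_left hF]
  rw [hermForm_add_left, hermForm_add_left, hermForm_smul_left, hermForm_smul_left,
    hermForm_smul_left, hab, haa, mul_zero, mul_zero, zero_add, zero_add] at h2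
  have hg2 : g 2 = 0 := (mul_eq_zero.1 h2).resolve_right hca
  rw [hg0, hg2, zero_smul, zero_smul, zero_add, add_zero] at hg
  have hg1 : g 1 = 0 := (smul_eq_zero.1 hg).resolve_right hb
  intro i
  fin_cases i
  · exact hg0
  · exact hg1
  · exact hg2

include hF in
/-- **the third conjugate**: `l = h u h⁻¹` with `l e0 = x` and `l⁻¹ e0 = p`. -/
theorem h45_exists_conj (u : G) (v p e0 x d : V)
    (hvv : H v v = 0) (hvu : H v (actv u v) = 0)
    (hγ : H v (actv u (actv u v)) = H p x) (hγ0 : H p x ≠ 0)
    (hpp : H p p = 0) (hpe : H p e0 = 0) (hee : H e0 e0 = 0) (hex : H e0 x = 0) (hxx : H x x = 0)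
    (he0 : e0 ≠ 0)
    (hdd : H d d = 1) (hdp : H d p = 0) (hde : H d e0 = 0) (hdx : H d x = 0) :
    ∃ h : G, actv (h * u * h⁻¹) e0 = x ∧ actv (h * u * h⁻¹)⁻¹ e0 = p := by
  have huv0 : actv u v ≠ 0 := by
    intro h0
    rw [h0, actv_zero, H_zero_right hF] at hγ
    exact hγ0 hγ.symm
  have huv_v : H (actv u v) v = 0 := H_symm_zero hF hvu
  have huvuv : H (actv u v) (actv u v) = 0 := by rw [H_actv]; exact hvv
  have huvuuv : H (actv u v) (actv u (actv u v)) = 0 := by rw [H_actv]; exact hvu
  have huuv_uv : H (actv u (actv u v)) (actv u v) = 0 := H_symm_zero hF huvuuv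
  have huuvuuv : H (actv u (actv u v)) (actv u (actv u v)) = 0 := by rw [H_actv]; exact huvuv
  have hvc : H v (actv u (actv u v)) ≠ 0 := by rw [hγ]; exact hγ0
  have hep : H e0 p = 0 := H_symm_zero hF hpe
  have hxe : H x e0 = 0 := H_symm_zero hF hex
  have huuv_v : H (actv u (actv u v)) v = H x p := by
    rw [← hermForm_conj hF, hγ, hermForm_conj hF]
  obtain ⟨h, hh⟩ := exists_SU_frame hF ![v, actv u v, actv u (actv u v)] ![p, e0, x]
    (h45_indep3 hF _ _ _ huv_v huvuuv hvv huuvuuv hvc huv0)
    (h45_indep3 hF _ _ _ hep hex hpp hxx hγ0 he0)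
    (by
      intro a b
      rw [stdB_apply, stdB_apply]
      fin_cases a <;> fin_cases b <;>
        simp only [Fin.zero_eta, Fin.mk_one, Fin.reduceFinMk, Matrix.cons_val_zero,
          Matrix.cons_val_one, Matrix.cons_val_two, Matrix.head_cons, Matrix.tail_cons,
          Matrix.cons_val, hvv, hvu, hγ, hpp, hpe, hee, hex,
          hxx, huv_v, huvuv, huvuuv, huuv_uv, huuvuuv, hep, hxe, huuv_v])
    d (by rw [stdB_apply]; exact hdd)
    (by
      intro a
      rw [stdB_apply]
      fin_cases a
      · exact H_symm_zero hF hdp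
      · exact H_symm_zero hF hde
      · exact H_symm_zero hF hdx)
  have h0 : actv h v = p := hh 0
  have h1 : actv h (actv u v) = e0 := hh 1
  have h2 : actv h (actv u (actv u v)) = x := hh 2
  have h1' : actv h⁻¹ e0 = actv u v := actv_inv h _ _ h1
  have h0' : actv h⁻¹ p = v := actv_inv h _ _ h0
  refine ⟨h, ?_, ?_⟩
  · rw [actv_mul, actv_mul, h1', h2]
  · apply actv_inv
    rw [actv_mul, actv_mul, h0', h1]

end Cfsg.Agent.Helper45.SUO
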