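import Mathlib
import Cfsg.Agent.Lib.Helper62.SUO0
import Cfsg.Agent.Lib.Helper66.SUOA
import Cfsg.Agent.Lib.Helper3.SUOM1
import Cfsg.Agent.Lib.Helper61.SUOM2
import Cfsg.Agent.Lib.Helper25.SUOM3
import Cfsg.Agent.Lib.Helper70.SUOM57Core
import Cfsg.Agent.Lib.Helper74.SUOM8a
import Cfsg.Agent.Lib.Helper57.SUOE6Core

/-!
# SUO (M5) (M6) (M7) (M8) (M9) (E6): the end of the abstract chain, VERBATIM, in one file
(helper45, for helper62's server, S2282).  Everything is assembled from pieces on main.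
-/

set_option autoImplicit false
set_option linter.unusedSectionVars false
set_option linter.unusedVariables false
set_option quotPrecheck false

namespace Cfsg.Agent.Helper45.SUO

open Matrix Cfsg Cfsg.Agent.Helper13 Cfsg.Agent.Helper87.PsuA Cfsg.Agent.Helper62.SUO

section M
variable {F : Type*} [Field F] [Fintype F] {q n : ℕ} (hF : Fintype.card F = q ^ 2)
  {Hs : Subgroup ↥(Cfsg.SU n F q)} {u l : ↥(Cfsg.SU n F q)} {e0 e1 p : Fin n → F} {c γ : F}

local notation "V" => Fin n → F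
local notation "G" => ↥(Cfsg.SU n F q)
local notation "H" => Cfsg.hermForm n F q

include hF

/-- (M5) `S = {a | a • e1 ∈ QQ}` is an additive subgroup (A5) containing `c` (`hyp.hc`) and
`κ = c - c^q` (M1 M2), stable under `κ^2 * (γ * γ^q)` (M3 then M4 with `m = κ`); `hyp.gen` -/
theorem S_top (hyp : Hyp hF Hs u l e0 e1 p c γ) : ∀ a : F, a • e1 ∈ QQ hF Hs e0 := by
  exact Cfsg.Agent.Helper70.SUO.h70_S_top_core hF hyp
    (Cfsg.Agent.Helper66.SUO.QQ_addsub hF hyp.e0e0)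
    (fun {a} ha => Cfsg.Agent.Helper3.SUO.MM_of_S hF hyp ha)
    (fun {m} hm => Cfsg.Agent.Helper61.SUO.seed hF hyp hm)
    (fun {a m} ha hm => Cfsg.Agent.Helper25.SUO.to_p hF hyp ha hm)
    (fun {a m} ha hm => Cfsg.Agent.Helper25.SUO.to_e1 hF hyp ha hm)

/-- (M6) M3 with `a / (κ * γ)`, `m = κ` -/
theorem p_top (hyp : Hyp hF Hs u l e0 e1 p c γ) : ∀ a : F, a • p ∈ QQ hF Hs e0 := by
  exact Cfsg.Agent.Helper25.SUO.h25_p_top_core hF hyp
    (fun {a} ha => Cfsg.Agent.Helper3.SUO.MM_of_S hF hyp ha)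
    (fun {a m} ha hm => Cfsg.Agent.Helper25.SUO.to_p hF hyp ha hm)
    (S_top hF hyp)

/-- (M7) `{w | ∀ a, a • w ∈ QQ}` is a `u`-stable subspace (A5 A6) containing `p` (M6); `hyp.cyc` -/
theorem QQ_full (hyp : Hyp hF Hs u l e0 e1 p c γ) :
    ∀ w : V, H e0 w = 0 → w ∈ QQ hF Hs e0 := by
  exact Cfsg.Agent.Helper70.SUO.h70_QQ_full_core hF hyp
    (Cfsg.Agent.Helper66.SUO.QQ_addsub hF hyp.e0e0)
    (fun {w} hw {h} hh hfix => Cfsg.Agent.Helper66.SUO.QQ_stab hF hyp.e0e0 hw hh hfix)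
    (p_top hF hyp)

/-- (M8) M5 M1 M8a -/
theorem MM_top (hyp : Hyp hF Hs u l e0 e1 p c γ) :
    ∀ m : F, m + m ^ q = 0 → m ∈ MM hF Hs e0 := by
  intro m hm
  obtain ⟨a, ha⟩ := Cfsg.Agent.Helper74.SUO.exists_tau hF m hm
  rw [← ha]
  exact Cfsg.Agent.Helper3.SUO.MM_of_S hF hyp (S_top hF hyp a)

/-- (M9) M7 gives some `a'`; `eich e0 w a = eich e0 w a' * eich e0 0 (a - a')` (`eich_mul`), M8 -/
theorem Q_le (hyp : Hyp hF Hs u l e0 e1 p c γ) :
    ∀ (w : V) (a : F), H e0 w = 0 → a + a ^ q + H w w = 0 → eich hF e0 w a ∈ Hs := by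
  intro w a hw ha
  obtain ⟨-, a', ha', hmem⟩ := QQ_full hF hyp w hw
  have hz : (a - a') + (a - a') ^ q = 0 := by
    rw [frob_sub hF]
    linear_combination ha - ha'
  have hzM := MM_top hF hyp (a - a') hz
  have h0 : H e0 (0 : V) = 0 := H_zero_right hF e0
  have hz' : (a - a') + (a - a') ^ q + H (0 : V) 0 = 0 := by
    rw [H_zero_left hF, add_zero]; exact hz
  have hmul := eich_mul hF hyp.e0e0 hw ha' h0 hz'
  rw [H_zero_left hF, add_zero, sub_zero] at hmul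
  have e : a' + (a - a') = a := by ring
  rw [e] at hmul
  rw [← hmul]
  exact Hs.mul_mem hmem hzM.2

end M

section E
variable {F : Type*} [Field F] [Fintype F] {q n : ℕ} (hF : Fintype.card F = q ^ 2)
  {Hs : Subgroup ↥(Cfsg.SU n F q)}

local notation "V" => Fin n → F
local notation "G" => ↥(Cfsg.SU n F q)
local notation "H" => Cfsg.hermForm n F q

include hF

/-- (E6) M9 + E5 with `t = l * l` (`H (l (l e0)) e0 = H (l e1) (l p) = γ`) -/
theorem core_top (hn : 3 ≤ n) (h32 : ¬(n = 3 ∧ q = 2)) {u l : G} {e0 e1 p : V} {c γ : F}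
    (hyp : Hyp hF Hs u l e0 e1 p c γ) : Hs = ⊤ := by
  exact Cfsg.Agent.Helper57.SUO.h57_core_top_of hF hn h32 hyp (Q_le hF hyp)

end E

end Cfsg.Agent.Helper45.SUO
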