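import Mathlib
import Cfsg.Agent.S1017
import Cfsg.Agent.S0215
import Cfsg.Agent.S0015
import Cfsg.Agent.Lib.Helper17.Sieve
import Cfsg.Agent.Lib.Helper17.SylowLink
import Cfsg.Agent.Lib.Helper17.FamilyCount
import Cfsg.Agent.Lib.Helper75.FixKill

/-!
# No simple group of order 3960 = 2^3 * 3^2 * 5 * 11 (an exercise order for S0983)

`n_11 = 45`, `|N(P11)| = 88`, `|C(P11)| = 44`.  A Sylow 2-subgroup `S` (order 8, acting on the 45
Sylow 11-subgroups) fixes some `P`; `S ∩ C(P)` is a nontrivial normal subgroup of `S`, so it contains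
an involution `u` central in `S`.  `u` fixes exactly one Sylow 11-subgroup (`≡ 1` mod 11,
`≡ 45` mod 4), whence `u` is isolated in `S`, and Glauberman's `Z*`-theorem (S0215) finishes.
-/

set_option autoImplicit false

namespace Cfsg.Agent.Helper45.SV

open Nat MulAction Cfsg.Agent.Helper17 Cfsg.Agent.Helper17.Sieve Cfsg.Agent.Helper75.FixKill

/-- A nonabelian simple group of even order has no isolated involution (Glauberman `Z*`). -/
theorem h45_false_of_isolated {G : Type*} [Group G] [Finite G] [IsSimpleGroup G]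
    (hna : ¬ IsMulCommutative G) (hev : ¬ Odd (Nat.card G)) (S : Sylow 2 G) (u : G)
    (hu : orderOf u = 2) (huS : u ∈ S) (hiso : ∀ g : G, g * u * g⁻¹ ∈ S → g * u * g⁻¹ = u) :
    False := by
  obtain ⟨N, hNn, hNodd, hN⟩ := Cfsg.Agent.S0215.result S u hu huS hiso
  have hu1 : u ≠ 1 := by
    intro h
    rw [h, orderOf_one] at hu
    norm_num at hu
  rcases hNn.eq_bot_or_eq_top with h | h
  · have hcen : u ∈ Subgroup.center G := by
      rw [Subgroup.mem_center_iff]
      intro g
      have h1 := hN g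
      rw [h, Subgroup.mem_bot] at h1
      have h2 : u * g = g * u := by
        calc u * g = (u * g * u⁻¹ * g⁻¹) * (g * u) := by group
          _ = g * u := by rw [h1, one_mul]
      exact h2.symm
    have hcn : (Subgroup.center G).Normal := inferInstance
    rcases hcn.eq_bot_or_eq_top with h' | h'
    · rw [h', Subgroup.mem_bot] at hcen
      exact hu1 hcen
    · apply hna
      refine ⟨⟨fun a b => ?_⟩⟩
      have ha : a ∈ Subgroup.center G := by rw [h']; exact Subgroup.mem_top a
      exact ((Subgroup.mem_center_iff.1 ha) b).symm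
  · rw [h, Subgroup.card_top] at hNodd
    exact hev hNodd

/-- the centralizer of a subgroup is normalized by its normalizer -/
theorem h45_conj_mem_centralizer {G : Type*} [Group G] (P : Subgroup G) (n c : G)
    (hn : n ∈ Subgroup.normalizer (P : Set G)) (hc : c ∈ Subgroup.centralizer (P : Set G)) :
    n * c * n⁻¹ ∈ Subgroup.centralizer (P : Set G) := by
  rw [Subgroup.mem_centralizer_iff]
  intro y hy
  have hy' : n⁻¹ * y * n ∈ P := by
    have := (Subgroup.mem_normalizer_iff.mp (Subgroup.inv_mem _ hn) y).mp hy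
    simpa using this
  have h1 : (n⁻¹ * y * n) * c = c * (n⁻¹ * y * n) := (Subgroup.mem_centralizer_iff.mp hc) _ hy'
  calc y * (n * c * n⁻¹) = n * ((n⁻¹ * y * n) * c) * n⁻¹ := by group
    _ = n * (c * (n⁻¹ * y * n)) * n⁻¹ := by rw [h1]
    _ = n * c * n⁻¹ * y := by group

/-- A `2`-group `S` normalizing `P` whose intersection with `C(P)` is nontrivial contains an
involution of `C(P)` that is central in `S`. -/
theorem h45_exists_central_involution {G : Type*} [Group G] [Finite G] (S : Sylow 2 G)
    (P : Subgroup G) (hSN : (S : Subgroup G) ≤ Subgroup.normalizer (P : Set G))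
    (hW : (Subgroup.centralizer (P : Set G)).subgroupOf (S : Subgroup G) ≠ ⊥) :
    ∃ u : G, orderOf u = 2 ∧ u ∈ (S : Subgroup G) ∧ u ∈ Subgroup.centralizer (P : Set G) ∧
      ∀ s ∈ (S : Subgroup G), s * u = u * s := by
  have p2 : Fact (Nat.Prime 2) := ⟨Nat.prime_two⟩
  have hnil : Group.IsNilpotent ↥(S : Subgroup G) := S.2.isNilpotent
  have hWn : ((Subgroup.centralizer (P : Set G)).subgroupOf (S : Subgroup G)).Normal := by
    refine ⟨fun w hw s => ?_⟩
    rw [Subgroup.mem_subgroupOf] at hw ⊢
    have : ((s * w * s⁻¹ : ↥(S : Subgroup G)) : G) = (s : G) * (w : G) * (s : G)⁻¹ := by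
      simp
    rw [this]
    exact h45_conj_mem_centralizer P _ _ (hSN s.2) hw
  have hZ := Cfsg.Agent.S0015.normal_inf_center_ne_bot _ hW
  set Z := (Subgroup.centralizer (P : Set G)).subgroupOf (S : Subgroup G) ⊓
    Subgroup.center ↥(S : Subgroup G) with hZdef
  have hZ1 : Nat.card ↥Z ≠ 1 := fun h => hZ (Subgroup.card_eq_one.1 h)
  obtain ⟨k, hk⟩ : ∃ k, Nat.card ↥Z = 2 ^ k := by
    have hpg : IsPGroup 2 ↥Z := S.2.to_subgroup Z
    exact (IsPGroup.iff_card.1 hpg)
  have h2Z : 2 ∣ Nat.card ↥Z := by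
    rw [hk]
    rcases k with _ | k
    · rw [hk] at hZ1; exact absurd rfl hZ1
    · exact ⟨2 ^ k, by rw [pow_succ]; ring⟩
  obtain ⟨z, hz⟩ := exists_prime_orderOf_dvd_card' (G := ↥Z) 2 h2Z
  refine ⟨((z : ↥(S : Subgroup G)) : G), ?_, (z : ↥(S : Subgroup G)).2, ?_, ?_⟩
  · rw [Subgroup.orderOf_coe, Subgroup.orderOf_coe]; exact hz
  · exact Subgroup.mem_subgroupOf.1 z.2.1
  · intro s hs
    have hc := (Subgroup.mem_center_iff.1 z.2.2) ⟨s, hs⟩
    have := congrArg (fun t : ↥(S : Subgroup G) => (t : G)) hc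
    simpa using this

theorem no_3960.{u} : NoSimple.{u} 3960 := by
  intro G _ _ _ hna hn0
  have h2 : 2 < Nat.card G := by rw [hn0]; norm_num
  have p11 : Fact (Nat.Prime 11) := ⟨by norm_num⟩
  have p2 : Fact (Nat.Prime 2) := ⟨Nat.prime_two⟩
  have hn11 : Nat.card G = 11 ^ 1 * 360 := by rw [hn0]; norm_num
  have hn2 : Nat.card G = 2 ^ 3 * 495 := by rw [hn0]; norm_num
  have hP11all : ∀ P : Sylow 11 G, Nat.card (P : Subgroup G) = 11 := fun P => by
    have := sylow_card_eq P hn11 (by norm_num); rwa [pow_one] at this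
  have hS8 : ∀ S : Sylow 2 G, Nat.card (S : Subgroup G) = 8 := fun S => by
    have := sylow_card_eq S hn2 (by norm_num); rw [this]; norm_num
  -- the Sylow number
  obtain ⟨hd11, hm11⟩ := sylow_count (G := G) hn11 (by norm_num)
  have hb11 := not_bad hna 11 1 360 one_ne_zero (by norm_num) hn11 (by norm_num)
  have h45 : Nat.card (Sylow 11 G) = 45 := by
    have hc11 : Nat.card (Sylow 11 G) = 1 ∨ Nat.card (Sylow 11 G) = 12 ∨
        Nat.card (Sylow 11 G) = 45 := by
      have hm : Nat.card (Sylow 11 G) ∈ Nat.divisors 360 :=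
        Nat.mem_divisors.2 ⟨hd11, by norm_num⟩
      simp only [Nat.divisors_ofNat, Finset.mem_insert, Finset.mem_singleton] at hm
      omega
    rcases hc11 with h' | h' | h'
    · rw [h'] at hb11; exact absurd (by decide) hb11
    · rw [h'] at hb11; exact absurd (by decide) hb11
    · exact h'
  -- a Sylow 2-subgroup and a Sylow 11-subgroup that it normalizes
  obtain ⟨S⟩ : Nonempty (Sylow 2 G) := inferInstance
  have hfp := S.2.card_modEq_card_fixedPoints (Sylow 11 G)
  rw [h45] at hfp
  have hfp0 : Nat.card ↥(fixedPoints ↥(S : Subgroup G) (Sylow 11 G)) ≠ 0 := by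
    intro h0
    rw [h0] at hfp
    exact absurd hfp (by decide)
  obtain ⟨⟨P, hPfix⟩⟩ := (Nat.card_ne_zero.1 hfp0).1
  have hSN : (S : Subgroup G) ≤ Subgroup.normalizer ((P : Subgroup G) : Set G) := by
    intro x hx
    exact Sylow.smul_eq_iff_mem_normalizer.mp (hPfix ⟨x, hx⟩)
  -- orders of `N(P)` and `C(P)`
  have hN := card_normalizer_mul_sylow_count P
  rw [hn0, h45] at hN
  have hN88 : Nat.card ↥(Subgroup.normalizer ((P : Subgroup G) : Set G)) = 88 := by omega
  have hCr := card_centralizer_mul_relIndex (P : Subgroup G)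
  have hrd := relIndex_centralizer_dvd (P : Subgroup G) (hP11all P)
  have hr1 : (Subgroup.centralizer ((P : Subgroup G) : Set G)).relIndex
      (Subgroup.normalizer ((P : Subgroup G) : Set G)) ≠ 1 := by
    intro h1
    apply Cfsg.Agent.S1017.not_normalizer_le_centralizer P
      (by rw [hP11all P]; norm_num) (by rw [hP11all P, hn0]; norm_num)
    exact Subgroup.relIndex_eq_one.1 h1
  rw [hN88] at hCr
  have hr2 : (Subgroup.centralizer ((P : Subgroup G) : Set G)).relIndex
      (Subgroup.normalizer ((P : Subgroup G) : Set G)) = 2 := by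
    have hm : (Subgroup.centralizer ((P : Subgroup G) : Set G)).relIndex
        (Subgroup.normalizer ((P : Subgroup G) : Set G)) ∈ Nat.divisors 10 :=
      Nat.mem_divisors.2 ⟨hrd, by norm_num⟩
    simp only [Nat.divisors_ofNat, Finset.mem_insert, Finset.mem_singleton] at hm
    rcases hm with h | h | h | h
    · exact absurd h hr1
    · exact h
    · rw [h] at hCr; omega
    · rw [h] at hCr; omega
  -- `S ∩ C(P)` is nontrivial
  have hW : (Subgroup.centralizer ((P : Subgroup G) : Set G)).subgroupOf (S : Subgroup G) ≠ ⊥ := by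
    intro hbot
    have hle := Subgroup.relIndex_le_of_le_right
      (H := Subgroup.centralizer ((P : Subgroup G) : Set G)) hSN (by rw [hr2]; norm_num)
    rw [hr2] at hle
    have hci := Subgroup.card_mul_index
      ((Subgroup.centralizer ((P : Subgroup G) : Set G)).subgroupOf (S : Subgroup G))
    rw [hbot, Subgroup.card_bot, one_mul, hS8 S] at hci
    rw [Subgroup.relIndex, hbot, hci] at hle
    omega
  obtain ⟨t, ht2, htS, htC, htZ⟩ := h45_exists_central_involution S (P : Subgroup G) hSN hW
  have ht1 : t ≠ 1 := Cfsg.Agent.S1017.ne_one_of_orderOf_prime t Nat.prime_two ht2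
  -- `t` fixes exactly one Sylow 11-subgroup
  have hf1 : Nat.card ↥(fixedBy (Sylow 11 G) t) = 1 := by
    have hmod11 := Cfsg.Agent.S1017.card_fixedBy_sylow_modEq P (hP11all P) t htC
    have hmod4 := Cfsg.Agent.S1017.card_fixedBy_mod_four h2 (α := Sylow 11 G) t ht2
    have hle := Cfsg.Agent.S1017.card_fixedBy_le (α := Sylow 11 G) t
    have hne := Cfsg.Agent.S1017.card_fixedBy_ne (α := Sylow 11 G)
      (Cfsg.Agent.S1017.sylow_action_nontrivial (by rw [h45]; norm_num)) t ht1
    rw [h45] at hmod4 hle hne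
    unfold Nat.ModEq at hmod11 hmod4
    omega
  have hsub : Subsingleton ↥(fixedBy (Sylow 11 G) t) := (Nat.card_eq_one_iff_unique.1 hf1).1
  have hPt : P ∈ fixedBy (Sylow 11 G) t :=
    Sylow.smul_eq_iff_mem_normalizer.mpr (hSN htS)
  -- `N(P)` centralizes `t`
  have hNC : Subgroup.normalizer ((P : Subgroup G) : Set G) ≤
      Subgroup.centralizer ({t} : Set G) := by
    have hK : Subgroup.normalizer ((P : Subgroup G) : Set G) ⊓ Subgroup.centralizer ({t} : Set G) =
        Subgroup.normalizer ((P : Subgroup G) : Set G) := by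
      apply Subgroup.eq_of_le_of_card_ge inf_le_left
      have hPK : (P : Subgroup G) ≤ Subgroup.normalizer ((P : Subgroup G) : Set G) ⊓
          Subgroup.centralizer ({t} : Set G) :=
        le_inf Subgroup.le_normalizer ((Cfsg.Agent.S1017.le_centralizer_singleton_iff _ t).2 htC)
      have hSK : (S : Subgroup G) ≤ Subgroup.normalizer ((P : Subgroup G) : Set G) ⊓
          Subgroup.centralizer ({t} : Set G) := by
        refine le_inf hSN ?_
        intro s hs
        rw [Subgroup.mem_centralizer_iff]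
        intro y hy
        rw [Set.mem_singleton_iff] at hy
        rw [hy]
        exact (htZ s hs).symm
      have h11 := Subgroup.card_dvd_of_le hPK
      have h8 := Subgroup.card_dvd_of_le hSK
      rw [hP11all P] at h11
      rw [hS8 S] at h8
      have hpos : 0 < Nat.card ↥(Subgroup.normalizer ((P : Subgroup G) : Set G) ⊓
          Subgroup.centralizer ({t} : Set G)) := Nat.card_pos
      rw [hN88]
      omega
    rw [← hK]
    exact inf_le_right
  -- `t` is isolated in `S`
  apply h45_false_of_isolated hna (by rw [hn0]; decide) S t ht2 htS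
  intro g hg
  have hgt : (g * t * g⁻¹) • P = P := Sylow.smul_eq_iff_mem_normalizer.mpr (hSN hg)
  have hgP : g⁻¹ • P ∈ fixedBy (Sylow 11 G) t := by
    show t • (g⁻¹ • P) = g⁻¹ • P
    have : t • (g⁻¹ • P) = g⁻¹ • ((g * t * g⁻¹) • P) := by
      rw [smul_smul, smul_smul]
      congr 1
      group
    rw [this, hgt]
  have heq : g⁻¹ • P = P := by
    have := Subsingleton.elim (⟨g⁻¹ • P, hgP⟩ : ↥(fixedBy (Sylow 11 G) t)) ⟨P, hPt⟩
    exact congrArg Subtype.val this
  have hgN : g ∈ Subgroup.normalizer ((P : Subgroup G) : Set G) := by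
    have := Sylow.smul_eq_iff_mem_normalizer.mp heq
    simpa using Subgroup.inv_mem _ this
  have hgc := Subgroup.mem_centralizer_iff.1 (hNC hgN) t rfl
  -- hgc : t * g = g * t
  calc g * t * g⁻¹ = (t * g) * g⁻¹ := by rw [hgc]
    _ = t := by group

end Cfsg.Agent.Helper45.SV
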