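import Mathlib
import Cfsg.Agent.S1017
import Cfsg.Agent.Lib.Helper17.Sieve
import Cfsg.Agent.Lib.Helper17.Counting
import Cfsg.Agent.Lib.Helper17.PrimeSylow
import Cfsg.Agent.Lib.Helper75.FixKill

/-!
# No simple group of order 4620 = 2^2 * 3 * 5 * 7 * 11 (an exercise order for S0983)
-/

set_option autoImplicit false

namespace Cfsg.Agent.Helper45.SV

open Nat MulAction Cfsg.Agent.Helper17 Cfsg.Agent.Helper17.Sieve Cfsg.Agent.Helper75.FixKill

theorem no_4620.{u} : NoSimple.{u} 4620 := by
  intro G _ _ _ hna hn0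
  have h2 : 2 < Nat.card G := by rw [hn0]; norm_num
  have p7 : Fact (Nat.Prime 7) := ⟨by norm_num⟩
  have p5 : Fact (Nat.Prime 5) := ⟨by norm_num⟩
  have p11 : Fact (Nat.Prime 11) := ⟨by norm_num⟩
  have hn7 : Nat.card G = 7 ^ 1 * 660 := by rw [hn0]; norm_num
  have hn5 : Nat.card G = 5 ^ 1 * 924 := by rw [hn0]; norm_num
  have hn11 : Nat.card G = 11 ^ 1 * 420 := by rw [hn0]; norm_num
  have hP7all : ∀ P : Sylow 7 G, Nat.card (P : Subgroup G) = 7 := fun P => by
    have := sylow_card_eq P hn7 (by norm_num); rwa [pow_one] at this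
  have hP5all : ∀ P : Sylow 5 G, Nat.card (P : Subgroup G) = 5 := fun P => by
    have := sylow_card_eq P hn5 (by norm_num); rwa [pow_one] at this
  have hP11all : ∀ P : Sylow 11 G, Nat.card (P : Subgroup G) = 11 := fun P => by
    have := sylow_card_eq P hn11 (by norm_num); rwa [pow_one] at this
  -- the Sylow numbers
  obtain ⟨hd7, hm7⟩ := sylow_count (G := G) hn7 (by norm_num)
  have hb7 := not_bad hna 7 1 660 one_ne_zero (by norm_num) hn7 (by norm_num)
  obtain ⟨hd5, hm5⟩ := sylow_count (G := G) hn5 (by norm_num)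
  have hb5 := not_bad hna 5 1 924 one_ne_zero (by norm_num) hn5 (by norm_num)
  obtain ⟨hd11, hm11⟩ := sylow_count (G := G) hn11 (by norm_num)
  have hb11 := not_bad hna 11 1 420 one_ne_zero (by norm_num) hn11 (by norm_num)
  obtain ⟨P7⟩ : Nonempty (Sylow 7 G) := inferInstance
  have hN7 := card_normalizer_mul_sylow_count P7
  obtain ⟨e, he1, he2, he3⟩ := exists_e P7 (hP7all P7) (by rw [hn0]; norm_num)
  rw [hn0] at hN7
  -- candidates for n_7
  have hc7 : Nat.card (Sylow 7 G) = 1 ∨ Nat.card (Sylow 7 G) = 15 ∨ Nat.card (Sylow 7 G) = 22 ∨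
      Nat.card (Sylow 7 G) = 330 := by
    have hm : Nat.card (Sylow 7 G) ∈ Nat.divisors 660 := Nat.mem_divisors.2 ⟨hd7, by norm_num⟩
    simp only [Nat.divisors_ofNat, Finset.mem_insert, Finset.mem_singleton] at hm
    omega
  have he : e = 2 ∨ e = 3 ∨ e = 6 := by
    have hm : e ∈ Nat.divisors 6 := Nat.mem_divisors.2 ⟨he1, by norm_num⟩
    simp only [Nat.divisors_ofNat, Finset.mem_insert, Finset.mem_singleton] at hm
    omega
  rcases hc7 with h | h | h | h
  · rw [h] at hb7
    exact hb7 (by decide)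
  · -- n_7 = 15: |N| = 308, e = 2, |C| = 154, r = 11
    rw [h] at hN7
    have hN : Nat.card ↥(Subgroup.normalizer ((P7 : Subgroup G) : Set G)) = 308 := by omega
    have hC11 : 11 ∣ Nat.card ↥(Subgroup.centralizer ((P7 : Subgroup G) : Set G)) := by
      rw [hN] at he3
      rcases he with rfl | rfl | rfl <;> omega
    obtain ⟨f, m', hf⟩ := exists_fix (p := 7) (r := 11) h2 (by norm_num) P7 (hP7all P7)
      (by rw [h]; norm_num) hC11
    rw [h] at hf
    obtain ⟨_, hf1, hf2, _, hf4, _⟩ := hf
    omega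
  · -- n_7 = 22: |N| = 210, 5 ∣ |C|
    rw [h] at hN7
    have hN : Nat.card ↥(Subgroup.normalizer ((P7 : Subgroup G) : Set G)) = 210 := by omega
    have hC5 : 5 ∣ Nat.card ↥(Subgroup.centralizer ((P7 : Subgroup G) : Set G)) := by
      rw [hN] at he3
      rcases he with rfl | rfl | rfl <;> omega
    obtain ⟨f, m', hf⟩ := exists_fix (p := 7) (r := 5) h2 (by norm_num) P7 (hP7all P7)
      (by rw [h]; norm_num) hC5
    rw [h] at hf
    obtain ⟨_, hf1, hf2, _, hf4, _⟩ := hf
    omega
  · -- n_7 = 330: every Sylow 7-subgroup is self-centralizing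
    have hC7all : ∀ Q : Sylow 7 G,
        Nat.card ↥(Subgroup.centralizer ((Q : Subgroup G) : Set G)) = 7 := by
      intro Q
      have hNQ := card_normalizer_mul_sylow_count Q
      rw [hn0, h] at hNQ
      obtain ⟨e', he1', he2', he3'⟩ := exists_e Q (hP7all Q) (by rw [hn0]; norm_num)
      have hNQ' : Nat.card ↥(Subgroup.normalizer ((Q : Subgroup G) : Set G)) = 14 := by omega
      rw [hNQ'] at he3'
      have he' : e' = 2 ∨ e' = 3 ∨ e' = 6 := by
        have hm : e' ∈ Nat.divisors 6 := Nat.mem_divisors.2 ⟨he1', by norm_num⟩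
        simp only [Nat.divisors_ofNat, Finset.mem_insert, Finset.mem_singleton] at hm
        omega
      rcases he' with rfl | rfl | rfl <;> omega
    -- candidates for n_5
    have hc5 : Nat.card (Sylow 5 G) = 1 ∨ Nat.card (Sylow 5 G) = 6 ∨ Nat.card (Sylow 5 G) = 11 ∨
        Nat.card (Sylow 5 G) = 21 ∨ Nat.card (Sylow 5 G) = 66 ∨ Nat.card (Sylow 5 G) = 231 := by
      have hm : Nat.card (Sylow 5 G) ∈ Nat.divisors 924 := Nat.mem_divisors.2 ⟨hd5, by norm_num⟩
      simp only [Nat.divisors_ofNat, Finset.mem_insert, Finset.mem_singleton] at hm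
      omega
    obtain ⟨P5⟩ : Nonempty (Sylow 5 G) := inferInstance
    have hN5 := card_normalizer_mul_sylow_count P5
    rw [hn0] at hN5
    obtain ⟨e5, he51, he52, he53⟩ := exists_e P5 (hP5all P5) (by rw [hn0]; norm_num)
    have he5 : e5 = 2 ∨ e5 = 4 := by
      have hm : e5 ∈ Nat.divisors 4 := Nat.mem_divisors.2 ⟨he51, by norm_num⟩
      simp only [Nat.divisors_ofNat, Finset.mem_insert, Finset.mem_singleton] at hm
      omega
    -- 7 ∣ |C(P5)| is impossible
    have hno7 : ¬ 7 ∣ Nat.card ↥(Subgroup.centralizer ((P5 : Subgroup G) : Set G)) := by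
      intro h7
      obtain ⟨Q, hQ⟩ := sylow_link hP5all hP7all P5 h7
      rw [hC7all Q] at hQ
      omega
    have h231 : Nat.card (Sylow 5 G) = 231 := by
      rcases hc5 with h' | h' | h' | h' | h' | h'
      · rw [h'] at hb5; exact absurd (by decide) hb5
      · rw [h'] at hb5; exact absurd (by decide) hb5
      · exfalso
        rw [h'] at hN5
        apply hno7
        have hN : Nat.card ↥(Subgroup.normalizer ((P5 : Subgroup G) : Set G)) = 420 := by omega
        rw [hN] at he53
        rcases he5 with rfl | rfl <;> omega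
      · rw [h'] at hb5; exact absurd (by decide) hb5
      · exfalso
        rw [h'] at hN5
        apply hno7
        have hN : Nat.card ↥(Subgroup.normalizer ((P5 : Subgroup G) : Set G)) = 70 := by omega
        rw [hN] at he53
        rcases he5 with rfl | rfl <;> omega
      · exact h'
    -- n_11 = 210
    have hc11 : Nat.card (Sylow 11 G) = 1 ∨ Nat.card (Sylow 11 G) = 12 ∨
        Nat.card (Sylow 11 G) = 210 := by
      have hm : Nat.card (Sylow 11 G) ∈ Nat.divisors 420 :=
        Nat.mem_divisors.2 ⟨hd11, by norm_num⟩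
      simp only [Nat.divisors_ofNat, Finset.mem_insert, Finset.mem_singleton] at hm
      omega
    have h210 : Nat.card (Sylow 11 G) = 210 := by
      rcases hc11 with h' | h' | h'
      · rw [h'] at hb11; exact absurd (by decide) hb11
      · rw [h'] at hb11; exact absurd (by decide) hb11
      · exact h'
    -- count elements of orders 5, 7, 11
    have hcount := sum_card_orderOf_le (G := G) ({5, 7, 11} : Finset ℕ)
    rw [Finset.sum_insert (by decide), Finset.sum_insert (by decide), Finset.sum_singleton,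
      card_orderOf_eq_prime hP5all, card_orderOf_eq_prime hP7all, card_orderOf_eq_prime hP11all,
      h231, h, h210, hn0] at hcount
    omega

end Cfsg.Agent.Helper45.SV
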