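import Mathlib

set_option autoImplicit false
set_option linter.unusedSectionVars false
set_option linter.style.haveILetI false
set_option linter.unusedSimpArgs false

namespace Cfsg.Agent.Helper45.SympType

open Subgroup
open scoped commutatorElement

section PowerIdentity

variable {H : Type*} [Group H]

theorem word_identity_tail (x y v e1 e2 : H) (hw : y * x = x * y * v) (r1 : v * y = y * v * e1)
    (r2 : v * x = x * v * e2) (c1 : ∀ g, e1 * g = g * e1) (c2 : ∀ g, e2 * g = g * e2)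
    (s1 : e1 * e1 = 1) (s2 : e2 * e2 = 1) (r : H) :
    x * (y * (x * (y * (x * (y * (x * (y * r))))))) =
      x * (x * (x * (x * (y * (y * (y * (y * (v * (v * (v * (v * (v * (v * r))))))))))))) := by
  have hw' : ∀ r, y * (x * r) = x * (y * (v * r)) := fun r => by
    rw [← mul_assoc, hw]; simp only [mul_assoc]
  have r1' : ∀ r, v * (y * r) = y * (v * (e1 * r)) := fun r => by
    rw [← mul_assoc, r1]; simp only [mul_assoc]
  have r2' : ∀ r, v * (x * r) = x * (v * (e2 * r)) := fun r => by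
    rw [← mul_assoc, r2]; simp only [mul_assoc]
  have c1y : ∀ r, e1 * (y * r) = y * (e1 * r) := fun r => by rw [← mul_assoc, c1, mul_assoc]
  have c1v : ∀ r, e1 * (v * r) = v * (e1 * r) := fun r => by rw [← mul_assoc, c1, mul_assoc]
  have c2x : ∀ r, e2 * (x * r) = x * (e2 * r) := fun r => by rw [← mul_assoc, c2, mul_assoc]
  have c2y : ∀ r, e2 * (y * r) = y * (e2 * r) := fun r => by rw [← mul_assoc, c2, mul_assoc]
  have c2v : ∀ r, e2 * (v * r) = v * (e2 * r) := fun r => by rw [← mul_assoc, c2, mul_assoc]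
  have c21 : ∀ r, e2 * (e1 * r) = e1 * (e2 * r) := fun r => by rw [← mul_assoc, c2, mul_assoc]
  have s1' : ∀ r, e1 * (e1 * r) = r := fun r => by rw [← mul_assoc, s1, one_mul]
  have s2' : ∀ r, e2 * (e2 * r) = r := fun r => by rw [← mul_assoc, s2, one_mul]
  simp only [hw', r1', r2', c1y, c1v, c2x, c2y, c2v, c21, s1', s2']

/-- If all fourth powers are trivial and the twists of `v = ⁅y⁻¹, x⁻¹⁆` by `x`, `y` are central
of order at most two, then `v ^ 2 = 1`. -/
theorem comm_sq_eq_one (h4 : ∀ g : H, g ^ 4 = 1) (x y : H)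
    (c1 : ∀ g, ⁅(⁅y⁻¹, x⁻¹⁆)⁻¹, y⁻¹⁆ * g = g * ⁅(⁅y⁻¹, x⁻¹⁆)⁻¹, y⁻¹⁆)
    (s1 : ⁅(⁅y⁻¹, x⁻¹⁆)⁻¹, y⁻¹⁆ * ⁅(⁅y⁻¹, x⁻¹⁆)⁻¹, y⁻¹⁆ = 1)
    (c2 : ∀ g, ⁅(⁅y⁻¹, x⁻¹⁆)⁻¹, x⁻¹⁆ * g = g * ⁅(⁅y⁻¹, x⁻¹⁆)⁻¹, x⁻¹⁆)
    (s2 : ⁅(⁅y⁻¹, x⁻¹⁆)⁻¹, x⁻¹⁆ * ⁅(⁅y⁻¹, x⁻¹⁆)⁻¹, x⁻¹⁆ = 1) :
    ⁅y⁻¹, x⁻¹⁆ ^ 2 = 1 := by
  have key := word_identity_tail x y ⁅y⁻¹, x⁻¹⁆ ⁅(⁅y⁻¹, x⁻¹⁆)⁻¹, y⁻¹⁆ ⁅(⁅y⁻¹, x⁻¹⁆)⁻¹, x⁻¹⁆
    (by simp only [commutatorElement_def]; group) (by simp only [commutatorElement_def]; group)
    (by simp only [commutatorElement_def]; group) c1 c2 s1 s2 1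
  have hxy : x * (y * (x * (y * (x * (y * (x * (y * 1))))))) = (x * y) ^ 4 := by
    simp only [pow_succ, pow_zero, one_mul, mul_one, mul_assoc]
  have hx4 : ∀ r : H, x * (x * (x * (x * r))) = r := fun r => by
    have := h4 x
    calc x * (x * (x * (x * r))) = x ^ 4 * r := by
          simp only [pow_succ, pow_zero, one_mul, mul_assoc]
      _ = r := by rw [this, one_mul]
  have hy4 : ∀ r : H, y * (y * (y * (y * r))) = r := fun r => by
    have := h4 y
    calc y * (y * (y * (y * r))) = y ^ 4 * r := by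
          simp only [pow_succ, pow_zero, one_mul, mul_assoc]
      _ = r := by rw [this, one_mul]
  rw [hxy, h4, hx4, hy4] at key
  have hv4 := h4 ⁅y⁻¹, x⁻¹⁆
  set v := ⁅y⁻¹, x⁻¹⁆ with hv
  have : v ^ 6 = 1 := by
    rw [key]; simp only [pow_succ, pow_zero, one_mul, mul_one, mul_assoc]
  calc v ^ 2 = v ^ 6 * (v ^ 4)⁻¹ := by group
    _ = 1 := by rw [this, hv4]; simp

theorem conj_mul_self_eq_one {g c : H} (h : c * c = 1) : (g * c * g⁻¹) * (g * c * g⁻¹) = 1 := by
  calc (g * c * g⁻¹) * (g * c * g⁻¹) = g * (c * c) * g⁻¹ := by group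
    _ = 1 := by rw [h]; group

theorem conj_ne_one {g c : H} (h : c ≠ 1) : g * c * g⁻¹ ≠ 1 := by
  intro h'
  apply h
  calc c = g⁻¹ * (g * c * g⁻¹) * g := by group
    _ = 1 := by rw [h']; group

end PowerIdentity
section Structure

variable {Q : Type*} [Group Q] [Finite Q]

theorem involution_unique_of_isCyclic {K : Subgroup Q} (hK : IsCyclic K) {a b : Q} (ha : a ∈ K)
    (hb : b ∈ K) (ha2 : a * a = 1) (hb2 : b * b = 1) (ha1 : a ≠ 1) (hb1 : b ≠ 1) : a = b := by
  classical
  by_contra hab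
  letI : Fintype K := Fintype.ofFinite K
  have h := IsCyclic.card_pow_eq_one_le (α := K) (n := 2) (by norm_num)
  have hsub : ({1, ⟨a, ha⟩, ⟨b, hb⟩} : Finset K) ⊆ Finset.univ.filter (fun x : K => x ^ 2 = 1) := by
    intro x hx
    simp only [Finset.mem_insert, Finset.mem_singleton] at hx
    simp only [Finset.mem_filter, Finset.mem_univ, true_and]
    rcases hx with rfl | rfl | rfl
    · simp
    · ext; simp [pow_two, ha2]
    · ext; simp [pow_two, hb2]
  have hcard : ({1, ⟨a, ha⟩, ⟨b, hb⟩} : Finset K).card = 3 := by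
    rw [Finset.card_insert_of_notMem, Finset.card_insert_of_notMem, Finset.card_singleton]
    · simp only [Finset.mem_singleton]
      intro h; exact hab (congrArg Subtype.val h)
    · simp only [Finset.mem_insert, Finset.mem_singleton, not_or]
      refine ⟨fun h => ha1 (congrArg Subtype.val h).symm, fun h => hb1 (congrArg Subtype.val h).symm⟩
  have := Finset.card_le_card hsub
  omega

theorem commutator_structure (h4 : ∀ q : Q, q ^ 4 = 1)
    (hs : ∀ A : Subgroup Q, A.Characteristic → IsMulCommutative A → IsCyclic A) (x y : Q) :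
    ⁅x, y⁆ ∈ center Q ∧ ⁅x, y⁆ * ⁅x, y⁆ = 1 := by
  have hZ1 : Subgroup.upperCentralSeries Q 1 = center Q := Subgroup.upperCentralSeries_one Q
  -- the characteristic subgroup K = [Z_3, Q]
  set K : Subgroup Q := ⁅Subgroup.upperCentralSeries Q 3, (⊤ : Subgroup Q)⁆ with hKdef
  have hKchar : K.Characteristic := by rw [hKdef]; infer_instance
  have hK2 : K ≤ Subgroup.upperCentralSeries Q 2 := commutator_upperCentralSeries_top_le Q 2
  have h21 : ⁅Subgroup.upperCentralSeries Q 2, (⊤ : Subgroup Q)⁆ ≤ center Q := by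
    rw [← hZ1]; exact commutator_upperCentralSeries_top_le Q 1
  have hKcent : K ≤ centralizer (Subgroup.upperCentralSeries Q 2 : Set Q) := by
    rw [← commutator_eq_bot_iff_le_centralizer]
    apply commutator_commutator_eq_bot_of_rotate
    · rw [commutator_eq_bot_iff_le_centralizer, commutator_comm]
      exact h21.trans (center_le_centralizer _)
    · rw [commutator_eq_bot_iff_le_centralizer]
      exact ((commutator_mono le_rfl le_top).trans h21).trans (center_le_centralizer _)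
  have hKcomm : ∀ a ∈ K, ∀ b ∈ K, a * b = b * a := by
    intro a ha b hb
    have := hKcent ha
    rw [mem_centralizer_iff] at this
    exact (this b (hK2 hb)).symm
  have hKcyc : IsCyclic K :=
    hs K hKchar ⟨⟨fun a b => Subtype.ext (hKcomm a.1 a.2 b.1 b.2)⟩⟩
  have hKnorm : ∀ k ∈ K, ∀ g : Q, g * k * g⁻¹ ∈ K := by
    intro k hk g
    have hKn : K.Normal := inferInstance
    exact hKn.conj_mem k hk g
  -- twists of elements of K are central
  have htw : ∀ k ∈ K, ∀ g : Q, ⁅k, g⁆ ∈ center Q := by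
    intro k hk g
    have := hK2 hk
    rw [show (2 : ℕ) = 1 + 1 from rfl, Subgroup.mem_upperCentralSeries_succ_iff] at this
    rw [← hZ1]; exact this g
  -- Step 1: commutators with Z_3 square to one
  have hstep1 : ∀ a ∈ Subgroup.upperCentralSeries Q 3, ∀ b : Q, ⁅b⁻¹, a⁻¹⁆ ^ 2 = 1 := by
    intro a ha b
    by_contra hv
    set v := ⁅b⁻¹, a⁻¹⁆ with hvdef
    have hvK : v ∈ K := by
      have : ⁅a⁻¹, b⁻¹⁆ ∈ K := commutator_mem_commutator (inv_mem ha) (mem_top _)
      have h2 := inv_mem this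
      rwa [commutatorElement_inv] at h2
    have hv4 : v ^ 4 = 1 := h4 v
    have hvv : (v * v) * (v * v) = 1 := by
      rw [← hv4]; simp only [pow_succ, pow_zero, one_mul, mul_assoc]
    have hvv1 : v * v ≠ 1 := fun h => hv (by rw [pow_two, h])
    have hes : ∀ g : Q, ⁅v⁻¹, g⁆ * ⁅v⁻¹, g⁆ = 1 := by
      intro g
      set u := g * v * g⁻¹ with hu
      have huK : u ∈ K := hKnorm v hvK g
      have huu : u * u = v * v := by
        have h1 : u * u = g * (v * v) * g⁻¹ := by rw [hu]; group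
        have h2 : u * u ∈ K := mul_mem huK huK
        have h3 : (u * u) * (u * u) = 1 := by
          rw [h1]
          calc g * (v * v) * g⁻¹ * (g * (v * v) * g⁻¹) = g * ((v * v) * (v * v)) * g⁻¹ := by group
            _ = 1 := by rw [hvv]; group
        have h4' : u * u ≠ 1 := by
          intro h
          apply hvv1
          have : g * (v * v) * g⁻¹ = 1 := by rw [← h1, h]
          calc v * v = g⁻¹ * (g * (v * v) * g⁻¹) * g := by group
            _ = 1 := by rw [this]; group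
        exact involution_unique_of_isCyclic hKcyc h2 (mul_mem hvK hvK) h3 hvv h4' hvv1
      have he : ⁅v⁻¹, g⁆ = v⁻¹ * u := by
        rw [commutatorElement_def, hu]; group
      rw [he]
      have hc : u * v⁻¹ = v⁻¹ * u := hKcomm u huK v⁻¹ (inv_mem hvK)
      calc v⁻¹ * u * (v⁻¹ * u) = v⁻¹ * (u * v⁻¹) * u := by group
        _ = v⁻¹ * (v⁻¹ * u) * u := by rw [hc]
        _ = v⁻¹ * v⁻¹ * (u * u) := by group
        _ = 1 := by rw [huu]; group
    have hec : ∀ g h : Q, ⁅v⁻¹, g⁆ * h = h * ⁅v⁻¹, g⁆ := by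
      intro g h
      have := htw v⁻¹ (inv_mem hvK) g
      rw [mem_center_iff] at this
      exact (this h).symm
    exact hv (comm_sq_eq_one h4 a b (hec _) (hes _) (hec _) (hes _))
  -- Step 2: such commutators are central
  have hstep2 : ∀ a ∈ Subgroup.upperCentralSeries Q 3, ∀ b : Q, ⁅a, b⁆ ∈ center Q := by
    intro a ha b
    have hsq := hstep1 a⁻¹ (inv_mem ha) b⁻¹
    rw [inv_inv, inv_inv] at hsq
    have hbaK : ⁅b, a⁆ ∈ K := by
      have : ⁅a, b⁆ ∈ K := commutator_mem_commutator ha (mem_top _)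
      have h2 := inv_mem this
      rwa [commutatorElement_inv] at h2
    have hcen : ⁅b, a⁆ ∈ center Q := by
      rw [mem_center_iff]
      intro g
      by_cases h1 : ⁅b, a⁆ = 1
      · rw [h1]; simp
      · have huK := hKnorm _ hbaK g
        have hu2 : (g * ⁅b, a⁆ * g⁻¹) * (g * ⁅b, a⁆ * g⁻¹) = 1 :=
          conj_mul_self_eq_one (by rw [← pow_two]; exact hsq)
        have hu1 : g * ⁅b, a⁆ * g⁻¹ ≠ 1 := conj_ne_one h1
        have := involution_unique_of_isCyclic hKcyc huK hbaK hu2 (by rw [← pow_two]; exact hsq)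
          hu1 h1
        calc g * ⁅b, a⁆ = (g * ⁅b, a⁆ * g⁻¹) * g := by simp
          _ = ⁅b, a⁆ * g := by rw [this]
    have := inv_mem hcen
    rwa [commutatorElement_inv] at this
  -- Step 3: Z_3 ≤ Z_2, hence Z_2 = ⊤
  have h32 : Subgroup.upperCentralSeries Q 3 ≤ Subgroup.upperCentralSeries Q 2 := by
    intro a ha
    rw [show (2 : ℕ) = 1 + 1 from rfl, Subgroup.mem_upperCentralSeries_succ_iff]
    intro b
    rw [hZ1]; exact hstep2 a ha b
  have hall : ∀ n, Subgroup.upperCentralSeries Q n ≤ Subgroup.upperCentralSeries Q 2 := by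
    intro n
    induction n with
    | zero => exact Subgroup.upperCentralSeries_mono Q (by norm_num)
    | succ n ih =>
      intro a ha
      apply h32
      rw [show (3 : ℕ) = 2 + 1 from rfl, Subgroup.mem_upperCentralSeries_succ_iff]
      intro b
      rw [Subgroup.mem_upperCentralSeries_succ_iff] at ha
      exact ih (ha b)
  have hp : IsPGroup 2 Q := fun g => ⟨2, by simpa using h4 g⟩
  have hnil : Group.IsNilpotent Q := hp.isNilpotent
  obtain ⟨n, hn⟩ := Group.IsNilpotent.nilpotent Q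
  have htop : Subgroup.upperCentralSeries Q 2 = ⊤ := top_le_iff.mp (hn ▸ hall n)
  have hcen : ∀ a b : Q, ⁅a, b⁆ ∈ center Q := by
    intro a b
    have : a ∈ Subgroup.upperCentralSeries Q 2 := by rw [htop]; exact mem_top _
    rw [show (2 : ℕ) = 1 + 1 from rfl, Subgroup.mem_upperCentralSeries_succ_iff] at this
    rw [← hZ1]; exact this b
  refine ⟨hcen x y, ?_⟩
  have key := comm_sq_eq_one h4 y⁻¹ x⁻¹ ?_ ?_ ?_ ?_
  · rw [inv_inv, inv_inv] at key
    rw [← pow_two]; exact key
  all_goals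
    have hc : ∀ g : Q, ⁅(⁅(x⁻¹)⁻¹, (y⁻¹)⁻¹⁆)⁻¹, g⁆ = 1 := by
      intro g
      have := hcen (x⁻¹)⁻¹ (y⁻¹)⁻¹
      have h2 := inv_mem this
      rw [mem_center_iff] at h2
      rw [commutatorElement_def, ← h2 g]; group
    first
      | (intro g; rw [hc]; simp)
      | (rw [hc]; simp)

end Structure
section Pair

variable {G : Type*} [Group G]

/-- The abstract situation: `z` an involution, `Q` a normal self-centralizing 2-subgroup of `C_G(z)` with
`[Q,Q] ≤ ⟨z⟩` and `z` the only involution of `Z(Q)`. -/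
structure SympPair (z : G) (Q : Subgroup G) : Prop where
  z_ne : z ≠ 1
  z_sq : z * z = 1
  cent : ∀ q ∈ Q, q * z = z * q
  norm : ∀ c : G, c * z = z * c → ∀ q ∈ Q, c * q * c⁻¹ ∈ Q
  self : ∀ c : G, c * z = z * c → (∀ q ∈ Q, c * q = q * c) → c ∈ Q
  comm : ∀ x ∈ Q, ∀ y ∈ Q, x * y = y * x ∨ x * y = z * (y * x)
  inv : ∀ c ∈ Q, (∀ q ∈ Q, c * q = q * c) → c * c = 1 → c = 1 ∨ c = z
  two : IsPGroup 2 Q

theorem mem_map_conj {Q : Subgroup G} {g x : G} :
    x ∈ Q.map (MulAut.conj g).toMonoidHom ↔ g⁻¹ * x * g ∈ Q := by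
  rw [Subgroup.mem_map_equiv]; simp [MulAut.conj_symm_apply]

theorem SympPair.z_mem {z : G} {Q : Subgroup G} (h : SympPair z Q) : z ∈ Q :=
  h.self z rfl (fun q hq => (h.cent q hq).symm)

theorem SympPair.conj {z : G} {Q : Subgroup G} (h : SympPair z Q) (g : G) :
    SympPair (g * z * g⁻¹) (Q.map (MulAut.conj g).toMonoidHom) := by
  have hcz : ∀ c : G, c * (g * z * g⁻¹) = g * z * g⁻¹ * c → (g⁻¹ * c * g) * z = z * (g⁻¹ * c * g) := by
    intro c hc
    calc (g⁻¹ * c * g) * z = g⁻¹ * (c * (g * z * g⁻¹)) * g := by group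
      _ = g⁻¹ * (g * z * g⁻¹ * c) * g := by rw [hc]
      _ = z * (g⁻¹ * c * g) := by group
  refine ⟨?_, ?_, ?_, ?_, ?_, ?_, ?_, ?_⟩
  · exact conj_ne_one h.z_ne
  · exact conj_mul_self_eq_one h.z_sq
  · intro q hq
    rw [mem_map_conj] at hq
    have := h.cent _ hq
    calc q * (g * z * g⁻¹) = g * ((g⁻¹ * q * g) * z) * g⁻¹ := by group
      _ = g * (z * (g⁻¹ * q * g)) * g⁻¹ := by rw [this]
      _ = g * z * g⁻¹ * q := by group
  · intro c hc q hq
    rw [mem_map_conj] at hq ⊢
    have := h.norm _ (hcz c hc) _ hq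
    have e : g⁻¹ * (c * q * c⁻¹) * g = g⁻¹ * c * g * (g⁻¹ * q * g) * (g⁻¹ * c * g)⁻¹ := by group
    rw [e]; exact this
  · intro c hc hq
    rw [mem_map_conj]
    apply h.self _ (hcz c hc)
    intro q hq'
    have hq2 : g * q * g⁻¹ ∈ Q.map (MulAut.conj g).toMonoidHom := by
      rw [mem_map_conj]
      have e : g⁻¹ * (g * q * g⁻¹) * g = q := by group
      rw [e]; exact hq'
    have := hq _ hq2
    calc g⁻¹ * c * g * q = g⁻¹ * (c * (g * q * g⁻¹)) * g := by group
      _ = g⁻¹ * ((g * q * g⁻¹) * c) * g := by rw [this]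
      _ = q * (g⁻¹ * c * g) := by group
  · intro x hx y hy
    rw [mem_map_conj] at hx hy
    rcases h.comm _ hx _ hy with h1 | h1
    · left
      calc x * y = g * ((g⁻¹ * x * g) * (g⁻¹ * y * g)) * g⁻¹ := by group
        _ = g * ((g⁻¹ * y * g) * (g⁻¹ * x * g)) * g⁻¹ := by rw [h1]
        _ = y * x := by group
    · right
      calc x * y = g * ((g⁻¹ * x * g) * (g⁻¹ * y * g)) * g⁻¹ := by group
        _ = g * (z * ((g⁻¹ * y * g) * (g⁻¹ * x * g))) * g⁻¹ := by rw [h1]
        _ = g * z * g⁻¹ * (y * x) := by group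
  · intro c hc hq hcc
    rw [mem_map_conj] at hc
    have h1 : ∀ q ∈ Q, (g⁻¹ * c * g) * q = q * (g⁻¹ * c * g) := by
      intro q hq'
      have hq2 : g * q * g⁻¹ ∈ Q.map (MulAut.conj g).toMonoidHom := by
        rw [mem_map_conj]
        have e : g⁻¹ * (g * q * g⁻¹) * g = q := by group
        rw [e]; exact hq'
      have := hq _ hq2
      calc g⁻¹ * c * g * q = g⁻¹ * (c * (g * q * g⁻¹)) * g := by group
        _ = g⁻¹ * ((g * q * g⁻¹) * c) * g := by rw [this]
        _ = q * (g⁻¹ * c * g) := by group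
    have h2 : (g⁻¹ * c * g) * (g⁻¹ * c * g) = 1 := by
      calc (g⁻¹ * c * g) * (g⁻¹ * c * g) = g⁻¹ * (c * c) * g := by group
        _ = 1 := by rw [hcc]; group
    rcases h.inv _ hc h1 h2 with h3 | h3
    · left
      calc c = g * (g⁻¹ * c * g) * g⁻¹ := by group
        _ = 1 := by rw [h3]; group
    · right
      calc c = g * (g⁻¹ * c * g) * g⁻¹ := by group
        _ = g * z * g⁻¹ := by rw [h3]
  · exact h.two.map _

end Pair
section Main

variable {G : Type*} [Group G] {z : G} {Q : Subgroup G}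

theorem SympPair.conj_cases (h : SympPair z Q) {a : G} (ha : a ∈ Q) {q : G} (hq : q ∈ Q) :
    q * a * q⁻¹ = a ∨ q * a * q⁻¹ = a * z := by
  rcases h.comm q hq a ha with h1 | h1
  · left; rw [h1]; group
  · right
    calc q * a * q⁻¹ = z * (a * q) * q⁻¹ := by rw [h1]
      _ = z * a := by group
      _ = a * z := (h.cent a ha).symm

theorem SympPair.exists_moving (h : SympPair z Q) {a : G} (ha : a ∈ Q) (ha2 : a * a = 1)
    (ha1 : a ≠ 1) (haz : a ≠ z) : ∃ q₀ ∈ Q, q₀ * a * q₀⁻¹ = a * z := by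
  by_contra hcon
  push Not at hcon
  have : ∀ q ∈ Q, a * q = q * a := by
    intro q hq
    rcases h.conj_cases ha hq with h1 | h1
    · calc a * q = (q * a * q⁻¹) * q := by rw [h1]
        _ = q * a := by group
    · exact absurd h1 (hcon q hq)
  rcases h.inv a ha this ha2 with h1 | h1
  exacts [ha1 h1, haz h1]

theorem SympPair.coset (h : SympPair z Q) {a : G} (ha : a ∈ Q) {q₀ : G}
    (hq₀a : q₀ * a * q₀⁻¹ = a * z) {x : G} (hx : x ∈ Q) :
    x * a = a * x ∨ (q₀⁻¹ * x) * a = a * (q₀⁻¹ * x) := by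
  rcases h.conj_cases ha hx with h1 | h1
  · left
    calc x * a = (x * a * x⁻¹) * x := by group
      _ = a * x := by rw [h1]
  · right
    calc q₀⁻¹ * x * a = q₀⁻¹ * (x * a * x⁻¹) * x := by group
      _ = q₀⁻¹ * (q₀ * a * q₀⁻¹) * x := by rw [h1, hq₀a]
      _ = a * (q₀⁻¹ * x) := by group

theorem SympPair.subclaim (h : SympPair z Q) {a : G} (ha : a ∈ Q) (ha2 : a * a = 1) (ha1 : a ≠ 1)
    (haz : a ≠ z) {c : G} (hcz : c * z = z * c) (hcc : c * c = 1)
    (hcR : ∀ r ∈ Q, r * a = a * r → c * r = r * c) : c = 1 ∨ c = z ∨ c = a ∨ c = a * z := by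
  obtain ⟨q₀, hq₀, hq₀a⟩ := h.exists_moving ha ha2 ha1 haz
  have hcinv : c⁻¹ = c := inv_eq_of_mul_eq_one_right hcc
  have hainv : a⁻¹ = a := inv_eq_of_mul_eq_one_right ha2
  have hzz := h.z_sq
  have hq₀z : q₀ * z = z * q₀ := h.cent q₀ hq₀
  have haz' : a * z = z * a := h.cent a ha
  obtain ⟨w, hw⟩ : ∃ w, w = q₀⁻¹ * (c * q₀ * c⁻¹) := ⟨_, rfl⟩
  have hwQ : w ∈ Q := by rw [hw]; exact mul_mem (inv_mem hq₀) (h.norm c hcz q₀ hq₀)
  have hγq₀ : c * q₀ * c⁻¹ = q₀ * w := by rw [hw]; group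
  have hzR : c * z * c⁻¹ = z := by rw [hcz]; group
  have hγr : ∀ r ∈ Q, r * a = a * r → c * r * c⁻¹ = r := fun r hr hra => by
    rw [hcR r hr hra]; group
  have hwr : ∀ r ∈ Q, r * a = a * r → w * r = r * w := by
    intro r hr hra
    have e1 : c * (q₀ * r) * c⁻¹ = q₀ * w * r := by
      calc c * (q₀ * r) * c⁻¹ = (c * q₀ * c⁻¹) * (c * r * c⁻¹) := by group
        _ = q₀ * w * r := by rw [hγq₀, hγr r hr hra]
    have key : q₀ * w * r = q₀ * (r * w) := by
      rcases h.comm q₀ hq₀ r hr with h1 | h1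
      · have e2 : c * (q₀ * r) * c⁻¹ = r * (q₀ * w) := by
          rw [h1]
          calc c * (r * q₀) * c⁻¹ = (c * r * c⁻¹) * (c * q₀ * c⁻¹) := by group
            _ = r * (q₀ * w) := by rw [hγq₀, hγr r hr hra]
        rw [← e1, e2, ← mul_assoc, ← h1, mul_assoc]
      · have e2 : c * (q₀ * r) * c⁻¹ = z * (r * (q₀ * w)) := by
          rw [h1]
          calc c * (z * (r * q₀)) * c⁻¹ = (c * z * c⁻¹) * ((c * r * c⁻¹) * (c * q₀ * c⁻¹)) := by
                group
            _ = z * (r * (q₀ * w)) := by rw [hzR, hγq₀, hγr r hr hra]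
        rw [← e1, e2]
        calc z * (r * (q₀ * w)) = (z * (r * q₀)) * w := by group
          _ = (q₀ * r) * w := by rw [h1]
          _ = q₀ * (r * w) := by group
    rw [mul_assoc] at key
    exact mul_left_cancel key
  have hγγ : ∀ x, c * (c * x * c⁻¹) * c⁻¹ = x := by
    intro x
    rw [hcinv]
    calc c * (c * x * c) * c = (c * c) * x * (c * c) := by group
      _ = x := by rw [hcc]; group
  have hq₀sq : (q₀ * q₀) * a = a * (q₀ * q₀) := by
    have e : q₀ * a = a * z * q₀ := by rw [← hq₀a]; group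
    calc q₀ * q₀ * a = q₀ * (q₀ * a) := by group
      _ = q₀ * (a * z * q₀) := by rw [e]
      _ = (q₀ * a) * z * q₀ := by group
      _ = a * z * q₀ * z * q₀ := by rw [e]
      _ = a * z * (q₀ * z) * q₀ := by group
      _ = a * z * (z * q₀) * q₀ := by rw [hq₀z]
      _ = a * (z * z) * (q₀ * q₀) := by group
      _ = a * (q₀ * q₀) := by rw [hzz]; group
  -- every element of Q is in R or in q₀ R
  have hcos : ∀ x ∈ Q, x * a = a * x ∨ (q₀⁻¹ * x) * a = a * (q₀⁻¹ * x) :=
    fun x hx => h.coset ha hq₀a hx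
  by_cases hwR : w * a = a * w
  · -- w ∈ R
    have hγw : c * w * c⁻¹ = w := hγr w hwQ hwR
    have hww : w * w = 1 := by
      have := hγγ q₀
      rw [hγq₀] at this
      have e : c * (q₀ * w) * c⁻¹ = q₀ * w * w := by
        calc c * (q₀ * w) * c⁻¹ = (c * q₀ * c⁻¹) * (c * w * c⁻¹) := by group
          _ = q₀ * w * w := by rw [hγq₀, hγw]
      rw [e, mul_assoc] at this
      exact mul_left_cancel (this.trans (mul_one q₀).symm)
    have hwinv : w⁻¹ = w := inv_eq_of_mul_eq_one_right hww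
    have hwq₀ : w * q₀ = q₀ * w := by
      have := hγr (q₀ * q₀) (mul_mem hq₀ hq₀) hq₀sq
      have e : c * (q₀ * q₀) * c⁻¹ = q₀ * w * (q₀ * w) := by
        calc c * (q₀ * q₀) * c⁻¹ = (c * q₀ * c⁻¹) * (c * q₀ * c⁻¹) := by group
          _ = q₀ * w * (q₀ * w) := by rw [hγq₀]
      rw [e] at this
      have e2 : w * q₀ * w = q₀ := by
        have : q₀ * (w * q₀ * w) = q₀ * q₀ := by rw [← this]; group
        exact mul_left_cancel this
      calc w * q₀ = (w * q₀ * w) * w⁻¹ := by group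
        _ = q₀ * w := by rw [e2, hwinv]
    have hwcen : ∀ x ∈ Q, w * x = x * w := by
      intro x hx
      rcases hcos x hx with h1 | h1
      · exact hwr x hx h1
      · have hr := hwr (q₀⁻¹ * x) (mul_mem (inv_mem hq₀) hx) h1
        calc w * x = (w * q₀) * (q₀⁻¹ * x) := by group
          _ = q₀ * (w * (q₀⁻¹ * x)) := by rw [hwq₀]; group
          _ = q₀ * ((q₀⁻¹ * x) * w) := by rw [hr]
          _ = x * w := by group
    rcases h.inv w hwQ hwcen hww with hw1 | hwz
    · -- c centralizes Q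
      have hcq₀ : c * q₀ = q₀ * c := by
        calc c * q₀ = (c * q₀ * c⁻¹) * c := by group
          _ = q₀ * c := by rw [hγq₀, hw1]; group
      have hccen : ∀ x ∈ Q, c * x = x * c := by
        intro x hx
        rcases hcos x hx with h1 | h1
        · exact hcR x hx h1
        · have hr := hcR (q₀⁻¹ * x) (mul_mem (inv_mem hq₀) hx) h1
          calc c * x = (c * q₀) * (q₀⁻¹ * x) := by group
            _ = q₀ * (c * (q₀⁻¹ * x)) := by rw [hcq₀]; group
            _ = q₀ * ((q₀⁻¹ * x) * c) := by rw [hr]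
            _ = x * c := by group
      have hcQ : c ∈ Q := h.self c hcz hccen
      rcases h.inv c hcQ hccen hcc with h1 | h1
      · exact Or.inl h1
      · exact Or.inr (Or.inl h1)
    · -- c acts as a
      have hca : c * a = a * c := hcR a ha rfl
      obtain ⟨d, hd⟩ : ∃ d, d = a * c := ⟨_, rfl⟩
      have hdz : d * z = z * d := by
        rw [hd]
        calc a * c * z = a * (c * z) := by group
          _ = a * (z * c) := by rw [hcz]
          _ = (a * z) * c := by group
          _ = z * (a * c) := by rw [haz']; group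
      have hcq₀ : c * q₀ = q₀ * z * c := by
        calc c * q₀ = (c * q₀ * c⁻¹) * c := by group
          _ = q₀ * z * c := by rw [hγq₀, hwz]
      have hq₀a' : q₀ * a = a * z * q₀ := by rw [← hq₀a]; group
      have hdq₀ : d * q₀ = q₀ * d := by
        rw [hd]
        calc a * c * q₀ = a * (c * q₀) := by group
          _ = a * (q₀ * z * c) := by rw [hcq₀]
          _ = a * (q₀ * z) * c := by group
          _ = a * (z * q₀) * c := by rw [hq₀z]
          _ = (a * z * q₀) * c := by group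
          _ = q₀ * (a * c) := by rw [← hq₀a']; group
      have hdcen : ∀ x ∈ Q, d * x = x * d := by
        intro x hx
        have hdr : ∀ r ∈ Q, r * a = a * r → d * r = r * d := by
          intro r hr hra
          rw [hd]
          calc a * c * r = a * (c * r) := by group
            _ = a * (r * c) := by rw [hcR r hr hra]
            _ = (a * r) * c := by group
            _ = r * (a * c) := by rw [← hra]; group
        rcases hcos x hx with h1 | h1
        · exact hdr x hx h1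
        · have hr := hdr (q₀⁻¹ * x) (mul_mem (inv_mem hq₀) hx) h1
          calc d * x = (d * q₀) * (q₀⁻¹ * x) := by group
            _ = q₀ * (d * (q₀⁻¹ * x)) := by rw [hdq₀]; group
            _ = q₀ * ((q₀⁻¹ * x) * d) := by rw [hr]
            _ = x * d := by group
      have hdQ : d ∈ Q := h.self d hdz hdcen
      have hdd : d * d = 1 := by
        rw [hd]
        calc a * c * (a * c) = a * (c * a) * c := by group
          _ = a * (a * c) * c := by rw [hca]
          _ = (a * a) * (c * c) := by group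
          _ = 1 := by rw [ha2, hcc]; group
      rcases h.inv d hdQ hdcen hdd with h1 | h1
      · right; right; left
        have : a * c = 1 := by rw [← hd, h1]
        calc c = a⁻¹ * (a * c) := by group
          _ = a := by rw [this, hainv]; group
      · right; right; right
        have : a * c = z := by rw [← hd, h1]
        calc c = a⁻¹ * (a * c) := by group
          _ = a * z := by rw [this, hainv]
  · -- w ∉ R : impossible
    exfalso
    have hr1 : (q₀⁻¹ * w) * a = a * (q₀⁻¹ * w) := by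
      rcases hcos w hwQ with h1 | h1
      · exact absurd h1 hwR
      · exact h1
    have hr1Q : q₀⁻¹ * w ∈ Q := mul_mem (inv_mem hq₀) hwQ
    have hγw : c * w * c⁻¹ = w * w := by
      calc c * w * c⁻¹ = (c * q₀ * c⁻¹) * (c * (q₀⁻¹ * w) * c⁻¹) := by group
        _ = q₀ * w * (q₀⁻¹ * w) := by rw [hγq₀, hγr _ hr1Q hr1]
        _ = q₀ * (w * (q₀⁻¹ * w)) := by group
        _ = q₀ * ((q₀⁻¹ * w) * w) := by rw [hwr _ hr1Q hr1]
        _ = w * w := by group
    have hw3 : w * w * w = 1 := by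
      have := hγγ q₀
      rw [hγq₀] at this
      have e : c * (q₀ * w) * c⁻¹ = q₀ * (w * w * w) := by
        calc c * (q₀ * w) * c⁻¹ = (c * q₀ * c⁻¹) * (c * w * c⁻¹) := by group
          _ = q₀ * (w * w * w) := by rw [hγq₀, hγw]; group
      rw [e] at this
      exact mul_left_cancel (this.trans (mul_one q₀).symm)
    have hw1 : w = 1 := by
      obtain ⟨k, hk⟩ := h.two ⟨w, hwQ⟩
      have hk' : w ^ (2 ^ k) = 1 := by
        have := congrArg Subtype.val hk
        simpa using this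
      have h3 : w ^ 3 = 1 := by rw [← hw3]; simp only [pow_succ, pow_zero, one_mul]
      have hd1 : orderOf w ∣ 2 ^ k := orderOf_dvd_of_pow_eq_one hk'
      have hd2 : orderOf w ∣ 3 := orderOf_dvd_of_pow_eq_one h3
      have hcop : Nat.Coprime (2 ^ k) 3 := Nat.Coprime.pow_left k (by norm_num)
      have : orderOf w ∣ 1 := by
        have := Nat.dvd_gcd hd1 hd2
        rwa [hcop] at this
      exact orderOf_eq_one_iff.mp (Nat.dvd_one.mp this)
    apply hwR
    rw [hw1]; simp
theorem SympPair.main [Finite G] (h : SympPair z Q) (g : G) (hne : g * z * g⁻¹ ≠ z)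
    (hin : g * z * g⁻¹ ∈ Q) :
    z ∈ Q.map (MulAut.conj g).toMonoidHom ∧
      (∃ q ∈ Q, q * z * q⁻¹ = z ∧ q * (g * z * g⁻¹) * q⁻¹ = g * z * g⁻¹ * z) ∧
      (∃ q' ∈ Q.map (MulAut.conj g).toMonoidHom,
        q' * (g * z * g⁻¹) * q'⁻¹ = g * z * g⁻¹ ∧ q' * z * q'⁻¹ = g * z * g⁻¹ * z) := by
  have hpa := h.conj g
  generalize hadef : g * z * g⁻¹ = a at *
  generalize hQadef : Q.map (MulAut.conj g).toMonoidHom = Qa at *
  have ha2 : a * a = 1 := hpa.z_sq
  have ha1 : a ≠ 1 := hpa.z_ne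
  have haz : a * z = z * a := h.cent a hin
  have hzQ : z ∈ Q := h.z_mem
  have hzz := h.z_sq
  obtain ⟨q₀, hq₀, hq₀a⟩ := h.exists_moving hin ha2 ha1 hne
  have hq₀z : q₀ * z * q₀⁻¹ = z := by rw [h.cent q₀ hq₀]; group
  -- the subgroup R = C_Q(a)
  obtain ⟨R, hRdef⟩ : ∃ R : Subgroup G, R = Q ⊓ centralizer {a} := ⟨_, rfl⟩
  have hmemR : ∀ r, r ∈ R ↔ r ∈ Q ∧ r * a = a * r := by
    intro r
    rw [hRdef, mem_inf, mem_centralizer_singleton_iff]
  have hzR : z ∈ R := (hmemR z).mpr ⟨hzQ, haz.symm⟩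
  -- maximal 2-subgroups
  have hR1 : IsPGroup 2 R ∧ R ≤ centralizer {z} ⊓ centralizer {a} := by
    refine ⟨h.two.to_le (by rw [hRdef]; exact inf_le_left), ?_⟩
    intro r hr
    rw [hmemR] at hr
    rw [mem_inf, mem_centralizer_singleton_iff, mem_centralizer_singleton_iff]
    exact ⟨h.cent r hr.1, hr.2⟩
  obtain ⟨S, hRS, hSmax⟩ := Finite.exists_le_maximal
    (p := fun X : Subgroup G => IsPGroup 2 X ∧ X ≤ centralizer {z} ⊓ centralizer {a}) hR1
  have hS2 : IsPGroup 2 S := hSmax.prop.1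
  have hSz : ∀ s ∈ S, s * z = z * s := fun s hs => by
    have := (mem_inf.mp (hSmax.prop.2 hs)).1
    rwa [mem_centralizer_singleton_iff] at this
  have hSa : ∀ s ∈ S, s * a = a * s := fun s hs => by
    have := (mem_inf.mp (hSmax.prop.2 hs)).2
    rwa [mem_centralizer_singleton_iff] at this
  obtain ⟨T, hST, hTmax⟩ := Finite.exists_le_maximal
    (p := fun X : Subgroup G => IsPGroup 2 X ∧ X ≤ centralizer {a})
    (a := S) ⟨hS2, hSmax.prop.2.trans inf_le_right⟩
  have hT2 : IsPGroup 2 T := hTmax.prop.1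
  have hTa : ∀ t ∈ T, t * a = a * t := fun t ht => by
    have := hTmax.prop.2 ht
    rwa [mem_centralizer_singleton_iff] at this
  -- Qa ≤ T
  have hQaT : Qa ≤ T := by
    have hTN : T ≤ normalizer (Qa : Set G) := by
      intro t ht
      rw [mem_normalizer_iff]
      intro x
      constructor
      · intro hx; exact hpa.norm t (hTa t ht) x hx
      · intro hx
        have hti : t⁻¹ * a = a * t⁻¹ := by
          have := hTa t ht
          calc t⁻¹ * a = t⁻¹ * (a * t) * t⁻¹ := by group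
            _ = t⁻¹ * (t * a) * t⁻¹ := by rw [this]
            _ = a * t⁻¹ := by group
        have := hpa.norm t⁻¹ hti _ hx
        have e : t⁻¹ * (t * x * t⁻¹) * t⁻¹⁻¹ = x := by group
        rwa [e] at this
    have hP : IsPGroup 2 (T ⊔ Qa : Subgroup G) ∧ T ⊔ Qa ≤ centralizer {a} := by
      refine ⟨IsPGroup.to_sup_of_normal_right' hT2 hpa.two hTN, sup_le hTmax.prop.2 ?_⟩
      intro q hq
      rw [mem_centralizer_singleton_iff]
      exact hpa.cent q hq
    exact le_sup_right.trans (hTmax.le_of_ge hP le_sup_left)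
  have hzS : z ∈ S := hRS hzR
  -- S ≠ T
  have hSneT : ¬ T ≤ S := by
    intro hTS
    have hzc : ∀ q ∈ Qa, z * q = q * z := fun q hq => (hSz q (hTS (hQaT hq))).symm
    have hzQa : z ∈ Qa := hpa.self z haz.symm hzc
    rcases hpa.inv z hzQa hzc hzz with h1 | h1
    · exact h.z_ne h1
    · exact hne h1.symm
  -- normalizer growth
  obtain ⟨t, htT, htS, htN⟩ : ∃ t ∈ T, t ∉ S ∧ ∀ s, s ∈ S ↔ t * s * t⁻¹ ∈ S := by
    haveI : Finite T := inferInstance
    haveI : Fact (Nat.Prime 2) := ⟨Nat.prime_two⟩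
    have hTp : IsPGroup 2 T := hT2
    haveI : Group.IsNilpotent T := hTp.isNilpotent
    have hnc : NormalizerCondition T := Group.normalizerCondition_of_isNilpotent
    have hlt : S.subgroupOf T < ⊤ := by
      rw [lt_top_iff_ne_top, Ne, subgroupOf_eq_top]
      exact hSneT
    have := hnc _ hlt
    obtain ⟨-, t, htn, htS⟩ := SetLike.lt_iff_le_and_exists.mp this
    refine ⟨t.1, t.2, fun hh => htS (mem_subgroupOf.mpr hh), ?_⟩
    intro s
    rw [mem_normalizer_iff] at htn
    constructor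
    · intro hs
      have := (htn ⟨s, hST hs⟩).mp (mem_subgroupOf.mpr hs)
      rw [mem_subgroupOf] at this
      simpa using this
    · intro hs
      have hsT : s ∈ T := by
        have h1 : t.1⁻¹ * (t.1 * s * t.1⁻¹) * t.1 ∈ T :=
          mul_mem (mul_mem (inv_mem t.2) (hST hs)) t.2
        have e : t.1⁻¹ * (t.1 * s * t.1⁻¹) * t.1 = s := by group
        rwa [e] at h1
      have := (htn ⟨s, hsT⟩).mpr (by rw [mem_subgroupOf]; simpa using hs)
      rwa [mem_subgroupOf] at this
  -- the conjugate z' = t z t⁻¹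
  have hz'S : t * z * t⁻¹ ∈ S := (htN z).mp hzS
  have hz'c : ∀ s ∈ S, (t * z * t⁻¹) * s = s * (t * z * t⁻¹) := by
    intro s hs
    have hs0 : t⁻¹ * s * t ∈ S := by
      rw [htN]
      have e : t * (t⁻¹ * s * t) * t⁻¹ = s := by group
      rwa [e]
    have := hSz _ hs0
    calc t * z * t⁻¹ * s = t * (z * (t⁻¹ * s * t)) * t⁻¹ := by group
      _ = t * ((t⁻¹ * s * t) * z) * t⁻¹ := by rw [this]
      _ = s * (t * z * t⁻¹) := by group
  have hsub := h.subclaim hin ha2 ha1 hne (c := t * z * t⁻¹) (hSz _ hz'S)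
    (conj_mul_self_eq_one hzz)
    (fun r hr hra => hz'c r (hRS ((hmemR r).mpr ⟨hr, hra⟩)))
  have hta : t * a * t⁻¹ = a := by rw [hTa t htT]; group
  have htz : t * z * t⁻¹ = a * z := by
    rcases hsub with h1 | h1 | h1 | h1
    · exact absurd h1 (conj_ne_one h.z_ne)
    · exfalso
      -- t centralizes z, so t ∈ S by maximality
      have htz' : t * z = z * t := by
        calc t * z = (t * z * t⁻¹) * t := by group
          _ = z * t := by rw [h1]
      have hP : IsPGroup 2 (T ⊓ centralizer {z} : Subgroup G) ∧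
          T ⊓ centralizer {z} ≤ centralizer {z} ⊓ centralizer {a} :=
        ⟨hT2.to_le inf_le_left, le_inf inf_le_right (inf_le_left.trans hTmax.prop.2)⟩
      have hle : S ≤ T ⊓ centralizer {z} := le_inf hST (hSmax.prop.2.trans inf_le_left)
      have := hSmax.le_of_ge hP hle
      exact htS (this (mem_inf.mpr ⟨htT, mem_centralizer_singleton_iff.mpr htz'⟩))
    · exfalso
      apply hne
      calc a = t⁻¹ * (t * a * t⁻¹) * t := by group
        _ = t⁻¹ * (t * z * t⁻¹) * t := by rw [hta, h1]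
        _ = z := by group
    · exact h1
  -- the element h' = q₀ t maps z ↦ a, a ↦ a z
  have hh'z : (q₀ * t) * z * (q₀ * t)⁻¹ = a := by
    calc (q₀ * t) * z * (q₀ * t)⁻¹ = q₀ * (t * z * t⁻¹) * q₀⁻¹ := by group
      _ = q₀ * (a * z) * q₀⁻¹ := by rw [htz]
      _ = (q₀ * a * q₀⁻¹) * (q₀ * z * q₀⁻¹) := by group
      _ = a * z * z := by rw [hq₀a, hq₀z]
      _ = a := by rw [mul_assoc, hzz, mul_one]
  have hh'a : (q₀ * t) * a * (q₀ * t)⁻¹ = a * z := by
    calc (q₀ * t) * a * (q₀ * t)⁻¹ = q₀ * (t * a * t⁻¹) * q₀⁻¹ := by group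
      _ = a * z := by rw [hta, hq₀a]
  have hgh : (g⁻¹ * (q₀ * t)) * z = z * (g⁻¹ * (q₀ * t)) := by
    have e : (q₀ * t) * z = g * z * g⁻¹ * (q₀ * t) := by
      rw [hadef, ← hh'z]; group
    calc g⁻¹ * (q₀ * t) * z = g⁻¹ * ((q₀ * t) * z) := by group
      _ = g⁻¹ * (g * z * g⁻¹ * (q₀ * t)) := by rw [e]
      _ = z * (g⁻¹ * (q₀ * t)) := by group
  have hazQa : a * z ∈ Qa := by
    rw [← hQadef, mem_map_conj, ← hh'a]
    have := h.norm _ hgh a hin
    have e : g⁻¹ * ((q₀ * t) * a * (q₀ * t)⁻¹) * g =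
        g⁻¹ * (q₀ * t) * a * (g⁻¹ * (q₀ * t))⁻¹ := by group
    rw [e]; exact this
  have haQa : a ∈ Qa := hpa.z_mem
  have hzQa : z ∈ Qa := by
    have := mul_mem (inv_mem haQa) hazQa
    have e : a⁻¹ * (a * z) = z := by group
    rwa [e] at this
  refine ⟨hzQa, ⟨q₀, hq₀, hq₀z, hq₀a⟩, ?_⟩
  obtain ⟨q', hq', hq'z⟩ := hpa.exists_moving hzQa hzz h.z_ne (Ne.symm hne)
  refine ⟨q', hq', ?_, ?_⟩
  · rw [hpa.cent q' hq']; group
  · rw [hq'z, haz]

end Main
section Instantiate

variable {G : Type*} [Group G] [Finite G]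

theorem sympPair_of_subgroup (z : G) (hz : orderOf z = 2) (F : Subgroup ↥(centralizer ({z} : Set G)))
    [hFn : F.Normal] (hself : centralizer (F : Set ↥(centralizer ({z} : Set G))) ≤ F)
    (h2 : IsPGroup 2 ↥F)
    (hs : ∀ A : Subgroup ↥F, A.Characteristic → IsMulCommutative ↥A → IsCyclic ↥A)
    (h4 : ∀ q ∈ F.map (centralizer ({z} : Set G)).subtype, q ^ 4 = 1) :
    SympPair z (F.map (centralizer ({z} : Set G)).subtype) := by
  have hz1 : z ≠ 1 := by
    intro h; rw [h, orderOf_one] at hz; norm_num at hz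
  have hzz : z * z = 1 := by
    have := pow_orderOf_eq_one z
    rwa [hz, pow_two] at this
  have hzC : z ∈ centralizer ({z} : Set G) := mem_centralizer_singleton_iff.mpr rfl
  -- z lies in F
  have hzF : (⟨z, hzC⟩ : ↥(centralizer ({z} : Set G))) ∈ F := by
    apply hself
    rw [mem_centralizer_iff]
    intro f _
    apply Subtype.ext
    have := f.2
    rw [mem_centralizer_singleton_iff] at this
    simpa using this
  have h4F : ∀ q : ↥F, q ^ 4 = 1 := by
    intro q
    have := h4 (q.1.1) (mem_map.mpr ⟨q.1, q.2, rfl⟩)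
    apply Subtype.ext; apply Subtype.ext
    simpa using this
  have hstruct := fun x y : ↥F => commutator_structure h4F hs x y
  have hcen_cyc : IsCyclic (center ↥F) :=
    hs (center ↥F) inferInstance
      ⟨⟨fun a b => Subtype.ext ((mem_center_iff.mp b.2 a.1))⟩⟩
  have hzcen : (⟨⟨z, hzC⟩, hzF⟩ : ↥F) ∈ center ↥F := by
    rw [mem_center_iff]
    intro f
    apply Subtype.ext; apply Subtype.ext
    have := f.1.2
    rw [mem_centralizer_singleton_iff] at this
    simpa using this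
  have hzF1 : (⟨⟨z, hzC⟩, hzF⟩ : ↥F) ≠ 1 := by
    intro h
    apply hz1
    have := congrArg (fun q : ↥F => (q.1.1 : G)) h
    simpa using this
  have hzFsq : (⟨⟨z, hzC⟩, hzF⟩ : ↥F) * ⟨⟨z, hzC⟩, hzF⟩ = 1 := by
    apply Subtype.ext; apply Subtype.ext
    simpa using hzz
  -- central elements of order ≤ 2 of F are 1 or z
  have hinvF : ∀ c : ↥F, c ∈ center ↥F → c * c = 1 → c = 1 ∨ c = ⟨⟨z, hzC⟩, hzF⟩ := by
    intro c hc hcc
    by_cases h1 : c = 1
    · exact Or.inl h1
    · exact Or.inr (involution_unique_of_isCyclic hcen_cyc hc hzcen hcc hzFsq h1 hzF1)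
  refine ⟨hz1, hzz, ?_, ?_, ?_, ?_, ?_, ?_⟩
  · intro q hq
    obtain ⟨f, _, rfl⟩ := mem_map.mp hq
    have := f.2
    rw [mem_centralizer_singleton_iff] at this
    simpa using this
  · intro c hc q hq
    obtain ⟨f, hf, rfl⟩ := mem_map.mp hq
    have hcC : c ∈ centralizer ({z} : Set G) := mem_centralizer_singleton_iff.mpr hc
    have := hFn.conj_mem f hf ⟨c, hcC⟩
    exact mem_map.mpr ⟨_, this, by simp⟩
  · intro c hc hcq
    have hcC : c ∈ centralizer ({z} : Set G) := mem_centralizer_singleton_iff.mpr hc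
    have : (⟨c, hcC⟩ : ↥(centralizer ({z} : Set G))) ∈ F := by
      apply hself
      rw [mem_centralizer_iff]
      intro f hf
      apply Subtype.ext
      have := hcq f.1 (mem_map.mpr ⟨f, hf, rfl⟩)
      simpa using this.symm
    exact mem_map.mpr ⟨_, this, rfl⟩
  · intro x hx y hy
    obtain ⟨fx, hfx, rfl⟩ := mem_map.mp hx
    obtain ⟨fy, hfy, rfl⟩ := mem_map.mp hy
    obtain ⟨hc, hcc⟩ := hstruct ⟨fx, hfx⟩ ⟨fy, hfy⟩
    rcases hinvF _ hc hcc with h1 | h1
    · left
      have := congrArg (fun q : ↥F => (q.1.1 : G)) h1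
      simp only [commutatorElement_def] at this
      have e : (fx : G) * fy * (fx : G)⁻¹ * (fy : G)⁻¹ = 1 := by simpa using this
      calc (fx : G) * fy = ((fx : G) * fy * (fx : G)⁻¹ * (fy : G)⁻¹) * (fy * fx) := by group
        _ = fy * fx := by rw [e, one_mul]
    · right
      have := congrArg (fun q : ↥F => (q.1.1 : G)) h1
      simp only [commutatorElement_def] at this
      have e : (fx : G) * fy * (fx : G)⁻¹ * (fy : G)⁻¹ = z := by simpa using this
      calc (fx : G) * fy = ((fx : G) * fy * (fx : G)⁻¹ * (fy : G)⁻¹) * (fy * fx) := by group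
        _ = z * (fy * fx) := by rw [e]
  · intro c hc hcq hcc
    obtain ⟨f, hf, rfl⟩ := mem_map.mp hc
    have hcen : (⟨f, hf⟩ : ↥F) ∈ center ↥F := by
      rw [mem_center_iff]
      intro q
      apply Subtype.ext; apply Subtype.ext
      have := hcq q.1.1 (mem_map.mpr ⟨q.1, q.2, rfl⟩)
      simpa using this.symm
    have hsq : (⟨f, hf⟩ : ↥F) * ⟨f, hf⟩ = 1 := by
      apply Subtype.ext; apply Subtype.ext
      simpa using hcc
    rcases hinvF _ hcen hsq with h1 | h1
    · left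
      have := congrArg (fun q : ↥F => (q.1.1 : G)) h1
      simpa using this
    · right
      have := congrArg (fun q : ↥F => (q.1.1 : G)) h1
      simpa using this
  · exact h2.map _

end Instantiate
section Final

variable {G : Type*} [Group G]

theorem mem_closure_pair {z a : G} (hzz : z * z = 1) (haa : a * a = 1) (haz : a * z = z * a) {u : G}
    (hu : u ∈ closure ({z, a} : Set G)) : u = 1 ∨ u = z ∨ u = a ∨ u = a * z := by
  have r1' : ∀ r, z * (z * r) = r := fun r => by rw [← mul_assoc, hzz, one_mul]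
  have r2' : ∀ r, a * (a * r) = r := fun r => by rw [← mul_assoc, haa, one_mul]
  have r3 : z * a = a * z := haz.symm
  have r3' : ∀ r, z * (a * r) = a * (z * r) := fun r => by rw [← mul_assoc, r3, mul_assoc]
  have hzi : z⁻¹ = z := inv_eq_of_mul_eq_one_right hzz
  have hai : a⁻¹ = a := inv_eq_of_mul_eq_one_right haa
  induction hu using closure_induction with
  | mem x hx =>
    rcases hx with rfl | hx
    · simp
    · rw [Set.mem_singleton_iff] at hx; subst hx; simp
  | one => simp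
  | mul x y _ _ hx hy =>
    rcases hx with rfl | rfl | rfl | rfl <;> rcases hy with rfl | rfl | rfl | rfl <;>
      simp only [mul_assoc, hzz, haa, r1', r2', r3, r3', mul_one, one_mul] <;> simp
  | inv x _ hx =>
    rcases hx with rfl | rfl | rfl | rfl
    · simp
    · rw [hzi]; simp
    · rw [hai]; simp
    · rw [mul_inv_rev, hzi, hai, r3]; simp

theorem final_s3 {z a : G} {X : Subgroup G} (hzz : z * z = 1) (haa : a * a = 1)
    (haz : a * z = z * a) {q q' : G} (hq : q ∈ X) (hq' : q' ∈ X) (hqz : q * z * q⁻¹ = z)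
    (hqa : q * a * q⁻¹ = a * z) (hq'a : q' * a * q'⁻¹ = a) (hq'z : q' * z * q'⁻¹ = a * z) :
    ∀ u ∈ closure ({z, a} : Set G), ∀ v ∈ closure ({z, a} : Set G), u ≠ 1 → v ≠ 1 → u ≠ v →
      ∃ x ∈ X, x * z * x⁻¹ = u ∧ x * a * x⁻¹ = v := by
  have hqaz : q * (a * z) * q⁻¹ = a := by
    calc q * (a * z) * q⁻¹ = (q * a * q⁻¹) * (q * z * q⁻¹) := by group
      _ = a * z * z := by rw [hqa, hqz]
      _ = a := by rw [mul_assoc, hzz, mul_one]
  have hq'az : q' * (a * z) * q'⁻¹ = z := by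
    calc q' * (a * z) * q'⁻¹ = (q' * a * q'⁻¹) * (q' * z * q'⁻¹) := by group
      _ = a * (a * z) := by rw [hq'a, hq'z]
      _ = z := by rw [← mul_assoc, haa, one_mul]
  have c2 : ∀ x y w : G, (x * y) * w * (x * y)⁻¹ = x * (y * w * y⁻¹) * x⁻¹ := by
    intro x y w; group
  intro u hu v hv hu1 hv1 huv
  rcases mem_closure_pair hzz haa haz hu with rfl | rfl | rfl | rfl
  · exact absurd rfl hu1
  · rcases mem_closure_pair hzz haa haz hv with rfl | rfl | rfl | rfl
    · exact absurd rfl hv1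
    · exact absurd rfl huv
    · exact ⟨1, one_mem _, by simp, by simp⟩
    · exact ⟨q, hq, hqz, hqa⟩
  · rcases mem_closure_pair hzz haa haz hv with rfl | rfl | rfl | rfl
    · exact absurd rfl hv1
    · refine ⟨q * q' * q, mul_mem (mul_mem hq hq') hq, ?_, ?_⟩
      · rw [c2, hqz, c2, hq'z, hqaz]
      · rw [c2, hqa, c2, hq'az, hqz]
    · exact absurd rfl huv
    · refine ⟨q * q', mul_mem hq hq', ?_, ?_⟩
      · rw [c2, hq'z, hqaz]
      · rw [c2, hq'a, hqa]
  · rcases mem_closure_pair hzz haa haz hv with rfl | rfl | rfl | rfl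
    · exact absurd rfl hv1
    · refine ⟨q' * q, mul_mem hq' hq, ?_, ?_⟩
      · rw [c2, hqz, hq'z]
      · rw [c2, hqa, hq'az]
    · exact ⟨q', hq', hq'z, hq'a⟩
    · exact absurd rfl huv

end Final

end Cfsg.Agent.Helper45.SympType
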