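import Mathlib

/-!
# A transfer criterion: in a perfect group, a weakly closed element of an abelian subgroup of
finite index has trivial `index`-th power
-/

set_option autoImplicit false

namespace Cfsg.Agent.Helper45.TransferKill

/-- Let `P` be an abelian subgroup of the finite perfect group `G` and `x` an element all of whose
powers are "weakly closed" in `P` (a conjugate of `x ^ k` lying in `P` equals `x ^ k`).
Then `x ^ |G : P| = 1`. -/
theorem pow_index_eq_one_of_perfect {G : Type*} [Group G] [Finite G] (hperf : commutator G = ⊤)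
    (P : Subgroup G) (hP : ∀ a ∈ P, ∀ b ∈ P, a * b = b * a) (x : G)
    (key : ∀ (k : ℕ) (g₀ : G), g₀⁻¹ * x ^ k * g₀ ∈ P → g₀⁻¹ * x ^ k * g₀ = x ^ k) :
    x ^ P.index = 1 := by
  classical
  let _ : CommGroup ↥P :=
    { (inferInstance : Group ↥P) with
      mul_comm := fun a b => Subtype.ext (hP a a.2 b b.2) }
  have h1 := MonoidHom.transfer_eq_pow (H := P) (MonoidHom.id ↥P) x key
  have hker : commutator G ≤ (MonoidHom.transfer (MonoidHom.id ↥P)).ker :=
    Abelianization.commutator_subset_ker _
  have hx : x ∈ (MonoidHom.transfer (MonoidHom.id ↥P)).ker := hker (hperf ▸ Subgroup.mem_top x)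
  rw [MonoidHom.mem_ker, h1, MonoidHom.id_apply] at hx
  exact congrArg Subtype.val hx

/-- The same for a nonabelian simple group. -/
theorem pow_index_eq_one_of_simple {G : Type*} [Group G] [Finite G] [IsSimpleGroup G]
    (hna : ¬ IsMulCommutative G)
    (P : Subgroup G) (hP : ∀ a ∈ P, ∀ b ∈ P, a * b = b * a) (x : G)
    (key : ∀ (k : ℕ) (g₀ : G), g₀⁻¹ * x ^ k * g₀ ∈ P → g₀⁻¹ * x ^ k * g₀ = x ^ k) :
    x ^ P.index = 1 := by
  apply pow_index_eq_one_of_perfect _ P hP x key
  rcases (inferInstance : (commutator G).Normal).eq_bot_or_eq_top with h | h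
  · exfalso
    apply hna
    constructor
    constructor
    intro a b
    have h2 : a * b * a⁻¹ * b⁻¹ ∈ commutator G := by
      have := Subgroup.commutator_mem_commutator (H₁ := (⊤ : Subgroup G)) (H₂ := ⊤)
        (Subgroup.mem_top a) (Subgroup.mem_top b)
      rwa [commutatorElement_def] at this
    rw [h, Subgroup.mem_bot] at h2
    calc a * b = (a * b * a⁻¹ * b⁻¹) * (b * a) := by group
      _ = b * a := by rw [h2, one_mul]
  · exact h

end Cfsg.Agent.Helper45.TransferKill
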