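import Mathlib
import Cfsg.Agent.Lib.Helper43.Tri.Defs2

/-!
# TRI2 server (helper43, S2608): piece (K3b) `Rel.swap02`, by helper45
-/

set_option autoImplicit false
set_option linter.unusedSectionVars false
set_option linter.unusedVariables false

namespace Cfsg.Agent.Helper45.Tri2

open Matrix QuadraticMap Cfsg.Agent.Helper13 Cfsg.Agent.Helper43 Cfsg.Agent.Helper5.OAut Module
  Cfsg.Agent.Helper43.Tri Cfsg.Agent.Helper43.OGam

variable {F : Type*} [Field F]

theorem h45_O_smul_add (g : O8 F) (u v : OV F) : g • (u + v) = g • u + g • v :=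
  (O_smul_def (stdPlus F 4) g (u + v)).trans
    ((Matrix.mulVec_add _ u v).trans
      (congrArg₂ (· + ·) (O_smul_def (stdPlus F 4) g u).symm (O_smul_def (stdPlus F 4) g v).symm))

/-- (K3b) `g₀(xy) = g₁(x) g₂(y)`  ⟹  `g₂(xz) = ĝ₁(x) g₀(z)`. -/
theorem Rel.swap02 (hhat : ∀ (g : O8 F) (x : OV F), hatO g • x = oconj (g • oconj x))
    (hsum : ∀ y : OV F, ∃ a b : OV F, y = a + b ∧ stdPlus F 4 a ≠ 0 ∧ stdPlus F 4 b ≠ 0)
    {g₀ g₁ g₂ : O8 F} (h : Rel g₀ g₁ g₂) : Rel g₂ (hatO g₁) g₀ := by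
  -- the non-singular case
  have key : ∀ x z : OV F, stdPlus F 4 x ≠ 0 →
      g₂ • omul x z = omul (oconj (g₁ • oconj x)) (g₀ • z) := by
    intro x z hx
    have h1 := h (oconj x) (omul x z)
    rw [oconj_omul_omul] at h1
    have h1' : stdPlus F 4 x • (g₀ • z) = omul (g₁ • oconj x) (g₂ • omul x z) :=
      (O_smul_smul_comm (stdPlus F 4) g₀ (stdPlus F 4 x) z).symm.trans h1
    have h2 : omul (oconj (g₁ • oconj x)) (stdPlus F 4 x • (g₀ • z)) =
        omul (oconj (g₁ • oconj x)) (omul (g₁ • oconj x) (g₂ • omul x z)) :=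
      congrArg (fun w => omul (oconj (g₁ • oconj x)) w) h1'
    rw [oconj_omul_omul, omul_smul_right] at h2
    have hN : stdPlus F 4 (g₁ • oconj x) = stdPlus F 4 x :=
      (O_Q_smul (stdPlus F 4) g₁ (oconj x)).trans (N_oconj x)
    rw [hN] at h2
    -- h2 : N x • omul (oconj (g₁ • oconj x)) (g₀ • z) = N x • g₂ • omul x z
    have h3 : (stdPlus F 4 x)⁻¹ • (stdPlus F 4 x • omul (oconj (g₁ • oconj x)) (g₀ • z)) =
        (stdPlus F 4 x)⁻¹ • (stdPlus F 4 x • g₂ • omul x z) :=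
      congrArg (fun w => (stdPlus F 4 x)⁻¹ • w) h2
    rw [smul_smul, smul_smul, inv_mul_cancel₀ hx, one_smul, one_smul] at h3
    exact h3.symm
  intro x z
  rw [hhat]
  obtain ⟨a, b, rfl, ha, hb⟩ := hsum x
  rw [omul_add_left, h45_O_smul_add, key a z ha, key b z hb, oconj_add, h45_O_smul_add, oconj_add,
    omul_add_left]

end Cfsg.Agent.Helper45.Tri2
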