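import Mathlib
import Cfsg.Agent.Lib.Helper43.Tri.Defs2
import Cfsg.Agent.Lib.Helper66.TriRB

/-!
# TRI2 server (helper43, S2608): piece (M1) `refl_mul_omul`, by helper45
-/

set_option autoImplicit false
set_option linter.unusedSectionVars false
set_option linter.unusedVariables false

namespace Cfsg.Agent.Helper45.Tri2

open Matrix QuadraticMap Cfsg.Agent.Helper13 Cfsg.Agent.Helper43 Cfsg.Agent.Helper5.OAut Module
  Cfsg.Agent.Helper43.Tri Cfsg.Agent.Helper43.OGam

variable {F : Type*} [Field F]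

/-- (M1) `r_a r_b (xy) = (N a N b)⁻¹ (a (b̄ x)) ((y b̄) a)`. -/
theorem refl_mul_omul (a b : OV F) (ha : stdPlus F 4 a ≠ 0) (hb : stdPlus F 4 b ≠ 0) (x y : OV F) :
    (reflIso (stdPlus F 4) ha * reflIso (stdPlus F 4) hb : O8 F) • omul x y =
      (stdPlus F 4 a * stdPlus F 4 b)⁻¹ •
        omul (omul a (omul (oconj b) x)) (omul (omul y (oconj b)) a) := by
  rw [mul_smul, Cfsg.Agent.Helper66.Tri.rb_refl_smul b hb, Cfsg.Agent.Helper66.Tri.rb_refl_smul a ha]
  -- conj of the inner term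
  have e1 : oconj ((-(stdPlus F 4 b)⁻¹) • omul (omul b (oconj (omul x y))) b) =
      (-(stdPlus F 4 b)⁻¹) • omul (omul (oconj b) x) (omul y (oconj b)) := by
    rw [oconj_smul, oconj_omul, oconj_omul, oconj_oconj, ← flex, moufang_mid]
  rw [e1, omul_smul_right, omul_smul_left, smul_smul, ← moufang_mid, mul_inv]
  congr 1
  ring

end Cfsg.Agent.Helper45.Tri2
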