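import Mathlib
import Cfsg.Agent.Lib.Helper43.Tri.Rel
import Cfsg.Agent.Lib.Helper14.ReflGen

/-!
TRI (GEN) for helper43's lemma server (row S0817): `omega_le_closure`.
-/

set_option autoImplicit false
set_option linter.unusedSectionVars false
set_option linter.unusedVariables false

namespace Cfsg.Agent.Helper45.Tri

open Matrix QuadraticMap Cfsg.Agent.Helper13 Cfsg.Agent.Helper43 Cfsg.Agent.Helper5.OAut Module
open Cfsg.Agent.Helper43.Tri Cfsg.Agent.Helper43.OGam
open scoped commutatorElement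

section gen

variable {F : Type*} [Field F] {ι : Type} [Fintype ι] [DecidableEq ι]
  (Q : QuadraticForm F (ι → F))

/-- the set of products of two reflections in vectors of equal norm -/
def pairSet : Set ↥(Cfsg.isometryGroup F ⇑Q) :=
  {g | ∃ (a b : ι → F) (ha : Q a ≠ 0) (hb : Q b ≠ 0), Q b = Q a ∧
    g = reflIso Q ha * reflIso Q hb}

theorem refl_conj_pair {z : ι → F} (hz : Q z ≠ 0) {g : ↥(Cfsg.isometryGroup F ⇑Q)}
    (hg : g ∈ pairSet Q) : reflIso Q hz * g * reflIso Q hz ∈ pairSet Q := by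
  obtain ⟨a, b, ha, hb, hab, rfl⟩ := hg
  have ha' : Q (reflLin Q z a) ≠ 0 := by rw [Q_reflLin Q hz]; exact ha
  have hb' : Q (reflLin Q z b) ≠ 0 := by rw [Q_reflLin Q hz]; exact hb
  refine ⟨reflLin Q z a, reflLin Q z b, ha', hb', ?_, ?_⟩
  · rw [Q_reflLin Q hz, Q_reflLin Q hz, hab]
  · rw [← reflIso_conj Q hz ha, ← reflIso_conj Q hz hb]
    have h1 := reflIso_mul_self Q hz
    calc reflIso Q hz * (reflIso Q ha * reflIso Q hb) * reflIso Q hz
        = reflIso Q hz * reflIso Q ha * 1 * reflIso Q hb * reflIso Q hz := by group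
      _ = reflIso Q hz * reflIso Q ha * (reflIso Q hz * reflIso Q hz) * reflIso Q hb *
            reflIso Q hz := by rw [h1]
      _ = reflIso Q hz * reflIso Q ha * reflIso Q hz *
            (reflIso Q hz * reflIso Q hb * reflIso Q hz) := by group

theorem refl_conj_closure {z : ι → F} (hz : Q z ≠ 0) {g : ↥(Cfsg.isometryGroup F ⇑Q)}
    (hg : g ∈ Subgroup.closure (pairSet Q)) :
    reflIso Q hz * g * reflIso Q hz ∈ Subgroup.closure (pairSet Q) := by
  have h1 := reflIso_mul_self Q hz
  induction hg using Subgroup.closure_induction with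
  | mem g hg => exact Subgroup.subset_closure (refl_conj_pair Q hz hg)
  | one => rw [mul_one, h1]; exact Subgroup.one_mem _
  | mul a b _ _ ha hb =>
    have : reflIso Q hz * (a * b) * reflIso Q hz =
        (reflIso Q hz * a * reflIso Q hz) * (reflIso Q hz * b * reflIso Q hz) := by
      calc reflIso Q hz * (a * b) * reflIso Q hz
          = reflIso Q hz * a * 1 * b * reflIso Q hz := by group
        _ = reflIso Q hz * a * (reflIso Q hz * reflIso Q hz) * b * reflIso Q hz := by rw [h1]
        _ = _ := by group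
    rw [this]
    exact Subgroup.mul_mem _ ha hb
  | inv a _ ha =>
    have : reflIso Q hz * a⁻¹ * reflIso Q hz = (reflIso Q hz * a * reflIso Q hz)⁻¹ := by
      rw [_root_.mul_inv_rev, _root_.mul_inv_rev, reflIso_inv, mul_assoc]
    rw [this]
    exact Subgroup.inv_mem _ ha

theorem commutator_le_closure_pairSet (hQ : (QuadraticMap.polarBilin Q).Nondegenerate)
    (hF : (∃ s : F, s ≠ 0 ∧ s ≠ 1) ∨ Fintype.card ι ≠ 4) :
    commutator ↥(Cfsg.isometryGroup F ⇑Q) ≤ Subgroup.closure (pairSet Q) := by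
  have hgen := Cfsg.Agent.Helper14.ReflGen.isometryGroup_closure_refl Q hQ hF
  set R : Set ↥(Cfsg.isometryGroup F ⇑Q) := {g | ∃ v : ι → F, Q v ≠ 0 ∧
      ((g : GL ι F) : Matrix ι ι F) = Cfsg.reflectionMatrix ⇑Q v} with hR
  have hRrefl : ∀ g ∈ R, ∃ (v : ι → F) (hv : Q v ≠ 0), g = reflIso Q hv := by
    rintro g ⟨v, hv, hgv⟩
    exact ⟨v, hv, isoGroup_ext Q (by rw [hgv, reflIso_coe])⟩
  set K := Subgroup.closure (pairSet Q) with hK
  -- conjugation by any element preserves K
  have hconj : ∀ g : ↥(Cfsg.isometryGroup F ⇑Q),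
      (∀ h ∈ K, g * h * g⁻¹ ∈ K) ∧ (∀ h ∈ K, g⁻¹ * h * g ∈ K) := by
    intro g
    have hg : g ∈ Subgroup.closure R := by rw [hgen]; exact Subgroup.mem_top g
    induction hg using Subgroup.closure_induction with
    | mem g hg =>
      obtain ⟨v, hv, rfl⟩ := hRrefl g hg
      rw [reflIso_inv]
      exact ⟨fun h hh => refl_conj_closure Q hv hh, fun h hh => refl_conj_closure Q hv hh⟩
    | one => simp
    | mul a b _ _ ha hb =>
      constructor
      · intro h hh
        have : a * b * h * (a * b)⁻¹ = a * (b * h * b⁻¹) * a⁻¹ := by group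
        rw [this]
        exact ha.1 _ (hb.1 _ hh)
      · intro h hh
        have : (a * b)⁻¹ * h * (a * b) = b⁻¹ * (a⁻¹ * h * a) * b := by group
        rw [this]
        exact hb.2 _ (ha.2 _ hh)
    | inv a _ ha =>
      refine ⟨fun h hh => ?_, fun h hh => ?_⟩
      · rw [inv_inv]; exact ha.2 h hh
      · rw [inv_inv]; exact ha.1 h hh
  have hnormal : K.Normal := ⟨fun h hh g => (hconj g).1 h hh⟩
  -- the quotient is commutative
  let π := QuotientGroup.mk' K
  have hcommR : ∀ x ∈ R, ∀ y ∈ R, π x * π y = π y * π x := by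
    intro x hx y hy
    obtain ⟨a, ha, rfl⟩ := hRrefl x hx
    obtain ⟨b, hb, rfl⟩ := hRrefl y hy
    rw [← map_mul, ← map_mul]
    show (QuotientGroup.mk (reflIso Q ha * reflIso Q hb) : _ ⧸ K) =
      QuotientGroup.mk (reflIso Q hb * reflIso Q ha)
    rw [QuotientGroup.eq]
    have hb' : Q (reflLin Q a b) ≠ 0 := by rw [Q_reflLin Q ha]; exact hb
    have : (reflIso Q ha * reflIso Q hb)⁻¹ * (reflIso Q hb * reflIso Q ha) =
        reflIso Q hb * (reflIso Q ha * reflIso Q hb * reflIso Q ha) := by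
      rw [_root_.mul_inv_rev, reflIso_inv, reflIso_inv]
      group
    rw [this, reflIso_conj Q ha hb]
    apply Subgroup.subset_closure
    exact ⟨b, reflLin Q a b, hb, hb', Q_reflLin Q ha b, rfl⟩
  have hcent : ∀ x : ↥(Cfsg.isometryGroup F ⇑Q), ∀ y ∈ R, π x * π y = π y * π x := by
    intro x y hy
    have hx : x ∈ Subgroup.closure R := by rw [hgen]; exact Subgroup.mem_top x
    induction hx using Subgroup.closure_induction with
    | mem x hx => exact hcommR x hx y hy
    | one => simp
    | mul a b _ _ ha hb =>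
      rw [map_mul, mul_assoc, hb, ← mul_assoc, ha, mul_assoc]
    | inv a _ ha =>
      rw [map_inv]
      have : π y = π a * π y * (π a)⁻¹ := by rw [ha]; group
      calc (π a)⁻¹ * π y = (π a)⁻¹ * (π a * π y * (π a)⁻¹) := by rw [← this]
        _ = π y * (π a)⁻¹ := by group
  have hcomm : ∀ x y : ↥(Cfsg.isometryGroup F ⇑Q), π x * π y = π y * π x := by
    intro x y
    have hy : y ∈ Subgroup.closure R := by rw [hgen]; exact Subgroup.mem_top y
    induction hy using Subgroup.closure_induction with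
    | mem y hy => exact hcent x y hy
    | one => simp
    | mul a b _ _ ha hb =>
      rw [map_mul, ← mul_assoc, ha, mul_assoc, hb, ← mul_assoc]
    | inv a _ ha =>
      rw [map_inv]
      have : π x = π a * π x * (π a)⁻¹ := by rw [← ha]; group
      calc π x * (π a)⁻¹ = (π a)⁻¹ * (π a * π x * (π a)⁻¹) := by group
        _ = (π a)⁻¹ * π x := by rw [← this]
  rw [commutator_def, Subgroup.commutator_le]
  intro g₁ _ g₂ _
  have h1 : π ⁅g₁, g₂⁆ = 1 := by
    rw [map_commutatorElement, commutatorElement_def, hcomm g₁ g₂]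
    group
  exact (QuotientGroup.eq_one_iff _).1 h1

end gen

theorem omega_le_closure {F : Type*} [Field F] [Fintype F] :
    Cfsg.Omega F ⇑(stdPlus F 4) ≤ Subgroup.closure {g : O8 F | ∃ (a b : OV F)
      (ha : stdPlus F 4 a ≠ 0) (hb : stdPlus F 4 b ≠ 0), stdPlus F 4 b = stdPlus F 4 a ∧
      g = reflIso (stdPlus F 4) ha * reflIso (stdPlus F 4) hb} := by
  have h := commutator_le_closure_pairSet (stdPlus F 4) (stdPlus_nondegenerate F 4)
    (Or.inr (by simp))
  exact h

end Cfsg.Agent.Helper45.Tri
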