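import Mathlib
import Cfsg.Agent.Lib.Helper98.UT0

/-! UT server (helper98, S2283), piece (C1) `conj_upper`: conjugation inside the upper unipotent
group. (helper45) -/

set_option autoImplicit false
set_option quotPrecheck false
set_option linter.unusedSectionVars false
set_option linter.unusedVariables false

namespace Cfsg.Agent.Helper45.UT

open Matrix Cfsg Cfsg.Agent.Helper13 Cfsg.Agent.Helper87.PsuA Cfsg.Agent.Helper87.PsuB0
  Cfsg.Agent.Helper98.UT

variable {F : Type*} [Field F] [Fintype F] {q : ℕ}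

local notation "G" => ↥(Cfsg.SU 3 F q)
local notation "H" => Cfsg.hermForm 3 F q

variable (hF : Fintype.card F = q ^ 2) {b : Fin 3 → Fin 3 → F}

/-- (C1) conjugation inside the upper unipotent group (`eich_conj`, `eich_add_smul`, or `cm`). -/
theorem conj_upper (hb : HB q b) (a β a2 β2 : F) (hab : β + β ^ q + a * a ^ q = 0)
    (hab2 : β2 + β2 ^ q + a2 * a2 ^ q = 0) :
    yEl hF b a2 β2 * yEl hF b a β * (yEl hF b a2 β2)⁻¹ =
      yEl hF b a (β + a * a2 ^ q - a2 * a ^ q) := by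
  have h00 : H (b 0) (b 0) = 0 := by rw [hb 0 0, if_neg (by decide)]
  have h01 : H (b 0) (b 1) = 0 := by rw [hb 0 1, if_neg (by decide)]
  have h10 : H (b 1) (b 0) = 0 := by rw [hb 1 0, if_neg (by decide)]
  have hb11 : H (b 1) (b 1) = 1 := by rw [hb 1 1, if_pos (by decide)]
  have huw : H (b 0) ((-(a ^ q)) • b 1) = 0 := by rw [hermForm_smul_right, h01, mul_zero]
  have hww : H ((-(a ^ q)) • b 1) ((-(a ^ q)) • b 1) = a * a ^ q := by
    rw [hermForm_smul_left, hermForm_smul_right, hb11, frob_neg hF, frob_frob hF]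
    ring
  have hpar : β + β ^ q + H ((-(a ^ q)) • b 1) ((-(a ^ q)) • b 1) = 0 := by rw [hww]; exact hab
  have huw2 : H (b 0) ((-(a2 ^ q)) • b 1) = 0 := by rw [hermForm_smul_right, h01, mul_zero]
  have hww2 : H ((-(a2 ^ q)) • b 1) ((-(a2 ^ q)) • b 1) = a2 * a2 ^ q := by
    rw [hermForm_smul_left, hermForm_smul_right, hb11, frob_neg hF, frob_frob hF]
    ring
  have hpar2 : β2 + β2 ^ q + H ((-(a2 ^ q)) • b 1) ((-(a2 ^ q)) • b 1) = 0 := by
    rw [hww2]; exact hab2
  have hwe : H ((-(a ^ q)) • b 1) (b 0) = 0 := by rw [hermForm_smul_left, h10, mul_zero]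
  have hww12 : H ((-(a ^ q)) • b 1) ((-(a2 ^ q)) • b 1) = a ^ q * a2 := by
    rw [hermForm_smul_left, hermForm_smul_right, hb11, frob_neg hF, frob_frob hF]
    ring
  unfold yEl
  rw [eich_conj hF h00 huw hpar (eich hF (b 0) ((-(a2 ^ q)) • b 1) β2),
    eich_act hF h00 huw2 hpar2 (b 0), eich_act hF h00 huw2 hpar2 ((-(a ^ q)) • b 1),
    h00, huw2, hwe, hww12]
  have e1 : b 0 + (0 : F) • ((-(a2 ^ q)) • b 1) - (0 : F) • b 0 + (β2 * 0) • b 0 = b 0 := by
    simp
  have e2 : (-(a ^ q)) • b 1 + (0 : F) • ((-(a2 ^ q)) • b 1) - (a ^ q * a2) • b 0 + (β2 * 0) • b 0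
      = (-(a ^ q)) • b 1 + (-(a ^ q * a2)) • b 0 := by
    simp only [zero_smul, mul_zero, add_zero, neg_smul]
    rw [sub_eq_add_neg]
  rw [e1, e2, eich_add_smul hF h00 huw hpar]
  congr 1
  rw [frob_neg hF, mul_pow, frob_frob hF]
  ring

end Cfsg.Agent.Helper45.UT
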