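import Mathlib
import Cfsg.Agent.Lib.Helper98.UT0

/-!
# UT server (helper98, S2283): core of piece (C4) `exists_conj` (helper45)

`g = x⁻(a',b') * diag(μ, λ⁻¹, -(1+λ)) * x(a2,β2)` with (C1), (C2), (C3), (R1) as explicit hypotheses.
-/

set_option autoImplicit false
set_option quotPrecheck false
set_option linter.unusedSectionVars false
set_option linter.unusedVariables false

namespace Cfsg.Agent.Helper45.UT

open Matrix Cfsg Cfsg.Agent.Helper13 Cfsg.Agent.Helper87.PsuA Cfsg.Agent.Helper87.PsuB0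
  Cfsg.Agent.Helper98.UT

section field
variable {F : Type*} [Field F]

theorem h45_field_A {L B Bb : F} (hL : L ≠ 0) (hBb : Bb * (2 * L + 1) = -(L ^ 3 * (L + 2)) * B) :
    L⁻¹ * (L⁻¹ + 2) * Bb = -(L * (L + 2) * B) := by
  field_simp
  linear_combination hBb

theorem h45_field_B {L a ab B Bb T Tb : F} (hL : L ≠ 0) (ha : a ≠ 0) (hab0 : ab ≠ 0)
    (hth : T + Tb = 1) (hBb : Bb * (2 * L + 1) = -(L ^ 3 * (L + 2)) * B) :
    B + a * (-(Tb * (L⁻¹ * (L⁻¹ + 2) * Bb)) / a) - (-(T * (L * (L + 2) * B)) / ab) * ab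
      = B * (1 + L) ^ 2 := by
  rw [h45_field_A hL hBb]
  field_simp
  linear_combination (L * (L + 2) * B) * hth

theorem h45_field_C {L B : F} (hL : L ≠ 0) (hL1 : L + 1 ≠ 0) :
    (-L / (1 + L)) * (-L⁻¹ / (1 + L⁻¹)) * (B * (1 + L) ^ 2) = L * B := by
  have h1 : 1 + L ≠ 0 := by rwa [add_comm]
  have h2 : 1 + L⁻¹ ≠ 0 := by
    have : 1 + L⁻¹ = (L + 1) / L := by field_simp
    rw [this]; exact div_ne_zero hL1 hL
  field_simp
  ring

theorem h45_field_D {L : F} (hL : L ≠ 0) (hL1 : L + 1 ≠ 0) :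
    (-L / (1 + L)) * (-(1 + L⁻¹)) = 1 ∧ (-L / (1 + L)) * L⁻¹ * (-(1 + L)) = 1 := by
  have h1 : 1 + L ≠ 0 := by rwa [add_comm]
  constructor
  · field_simp
    ring
  · field_simp

end field

variable {F : Type*} [Field F] [Fintype F] {q : ℕ}

local notation "G" => ↥(Cfsg.SU 3 F q)

variable (hF : Fintype.card F = q ^ 2) {b : Fin 3 → Fin 3 → F}

/-- core of (C4): the conjugating element, from (C1), (C2), (C3), (R1) -/
theorem h45_exists_conj_core {lam c a β θ : F} (hR : Rel q lam c a β θ)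
    (hR1 : lam ≠ 0 ∧ lam ^ q = lam⁻¹ ∧ lam - 1 ≠ 0 ∧ lam + 1 ≠ 0 ∧ 2 * lam + 1 ≠ 0 ∧ lam + 2 ≠ 0 ∧
      β ≠ 0 ∧ β ^ q * (2 * lam + 1) = -(lam ^ 3 * (lam + 2)) * β ∧
      a * a ^ q * (2 * lam + 1) = -(β * (1 - lam) * (1 + lam) ^ 3) ∧ a ≠ 0)
    (hC1 : ∀ (a β a2 β2 : F), β + β ^ q + a * a ^ q = 0 → β2 + β2 ^ q + a2 * a2 ^ q = 0 →
      yEl hF b a2 β2 * yEl hF b a β * (yEl hF b a2 β2)⁻¹ =
        yEl hF b a (β + a * a2 ^ q - a2 * a ^ q))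
    (hC2 : ∀ (d0 d1 d2 a β : F), d0 * d2 ^ q = 1 → d1 * d1 ^ q = 1 → d0 * d1 * d2 = 1 →
      β + β ^ q + a * a ^ q = 0 →
      dEl hF b d0 d1 d2 * yEl hF b a β * (dEl hF b d0 d1 d2)⁻¹ =
        yEl hF b (d0 * d1 ^ q * a) (d0 * d0 ^ q * β))
    (hC3 : lEl hF b (-(a * (2 * lam + 1)) / ((lam + 1) * β)) (c / (1 - lam)) *
        yEl hF b (-(lam ^ 2 * a) / (1 + lam)) (lam * β) *
        (lEl hF b (-(a * (2 * lam + 1)) / ((lam + 1) * β)) (c / (1 - lam)))⁻¹ =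
      dEl hF b lam (lam⁻¹ ^ 2) lam * lEl hF b 0 c * yEl hF b a β) :
    ∃ g : G, g * yEl hF b a β * g⁻¹ = dEl hF b lam (lam⁻¹ ^ 2) lam * lEl hF b 0 c * yEl hF b a β := by
  obtain ⟨hl0, hlq, -, hl1, -, -, -, hBq, -, ha0⟩ := hR1
  set σ : F →+* F := frobQ hF with hσ
  have hq : ∀ x : F, x ^ q = σ x := fun x => rfl
  have hσσ : ∀ x : F, σ (σ x) = x := frobQ_frobQ hF
  have hσl : σ lam = lam⁻¹ := by rw [← hq]; exact hlq
  have hab : β + σ β + a * σ a = 0 := by have := hR.ab; rwa [hq, hq] at this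
  have hth : θ + σ θ = 1 := by have := hR.th; rwa [hq] at this
  have hBb : σ β * (2 * lam + 1) = -(lam ^ 3 * (lam + 2)) * β := by rw [← hq]; exact hBq
  have hab0 : σ a ≠ 0 := (map_ne_zero σ).2 ha0
  have h1l : 1 + lam ≠ 0 := by rwa [add_comm]
  -- the parameters
  set δ : F := lam * (lam + 2) * β with hδ
  set a2 : F := -(θ * δ) / σ a with ha2
  have hσδ : σ δ = lam⁻¹ * (lam⁻¹ + 2) * σ β := by
    rw [hδ, map_mul, map_mul, map_add, hσl, map_ofNat]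
  have hσa2 : σ a2 = -(σ θ * (lam⁻¹ * (lam⁻¹ + 2) * σ β)) / a := by
    rw [ha2, map_div₀, map_neg, map_mul, hσσ, hσδ]
  set β2 : F := -(σ θ * (a2 * σ a2)) with hβ2
  have hab2 : β2 + β2 ^ q + a2 * a2 ^ q = 0 := by
    rw [hq, hq, hβ2, map_neg, map_mul, map_mul, hσσ, hσσ]
    linear_combination (-(a2 * σ a2)) * hth
  set β' : F := β + a * a2 ^ q - a2 * a ^ q with hβ'
  have hβ'v : β' = β * (1 + lam) ^ 2 := by
    rw [hβ', hq, hq, hσa2, ha2, hδ]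
    exact h45_field_B hl0 ha0 hab0 hth hBb
  have hab' : β' + β' ^ q + a * a ^ q = 0 := by
    rw [hβ']
    simp only [hq, map_sub, map_add, map_mul, hσσ]
    linear_combination hab
  -- the diagonal element
  set μ : F := -lam / (1 + lam) with hμ
  obtain ⟨hD1, hD2⟩ := h45_field_D hl0 hl1
  have h02 : μ * (-(1 + lam)) ^ q = 1 := by
    rw [hq, map_neg, map_add, map_one, hσl]; exact hD1
  have h11 : lam⁻¹ * lam⁻¹ ^ q = 1 := by
    rw [hq, map_inv₀, hσl, inv_inv]; exact inv_mul_cancel₀ hl0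
  have hdet : μ * lam⁻¹ * (-(1 + lam)) = 1 := hD2
  refine ⟨lEl hF b (-(a * (2 * lam + 1)) / ((lam + 1) * β)) (c / (1 - lam)) *
    dEl hF b μ lam⁻¹ (-(1 + lam)) * yEl hF b a2 β2, ?_⟩
  have e1 : ∀ (Lw Dw Uw y : G), (Lw * Dw * Uw) * y * (Lw * Dw * Uw)⁻¹ =
      Lw * (Dw * (Uw * y * Uw⁻¹) * Dw⁻¹) * Lw⁻¹ := by
    intro Lw Dw Uw y; group
  rw [e1, hC1 a β a2 β2 hR.ab hab2, hC2 μ lam⁻¹ (-(1 + lam)) a β' h02 h11 hdet hab', ← hC3]
  have e2 : μ * lam⁻¹ ^ q * a = -(lam ^ 2 * a) / (1 + lam) := by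
    rw [hq, map_inv₀, hσl, inv_inv, hμ]
    field_simp
  have e3 : μ * μ ^ q * β' = lam * β := by
    rw [hq, hμ, map_div₀, map_neg, map_add, map_one, hσl, hβ'v]
    exact h45_field_C hl0 hl1
  rw [e2, e3]

end Cfsg.Agent.Helper45.UT
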