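import Mathlib
import Cfsg.Agent.Lib.Helper98.UT0
import Cfsg.Agent.Lib.Helper45.UTC4Core
import Cfsg.Agent.Lib.Helper21.UTC3
import Cfsg.Agent.Lib.Helper66.UTE1a
import Cfsg.Agent.Lib.Helper42.UTC2
import Cfsg.Agent.Lib.Helper83.UTR1
import Cfsg.Agent.Lib.Helper87.UTD3

/-! UT server (helper98, S2283), piece (C4) `exists_conj`, VERBATIM (helper45): the core
`h45_exists_conj_core` fed with (R1) helper83, (C1) helper66, (C2) helper42, (C3) helper21 + (D3) helper87. -/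

set_option autoImplicit false
set_option quotPrecheck false
set_option linter.unusedSectionVars false
set_option linter.unusedVariables false

namespace Cfsg.Agent.Helper45.UT

open Matrix Cfsg Cfsg.Agent.Helper13 Cfsg.Agent.Helper87.PsuA Cfsg.Agent.Helper87.PsuB0
  Cfsg.Agent.Helper98.UT

variable {F : Type*} [Field F] [Fintype F] {q : ℕ}

local notation "G" => ↥(Cfsg.SU 3 F q)
local notation "H" => Cfsg.hermForm 3 F q

variable (hF : Fintype.card F = q ^ 2) {b : Fin 3 → Fin 3 → F}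

/-- (C4) assembly of (C1)-(C3): `g = x⁻(a',b') * diag(μ, λ⁻¹, -(1+λ)) * x(a2,β2)`, `μ = -λ/(1+λ)`,
`δ = λ(λ+2)β`, `a2 = -θδ/ā`, `β2 = -θ̄ a2 ā2`. -/
theorem exists_conj {lam c a β θ : F} (hb : HB q b) (hR : Rel q lam c a β θ) :
    ∃ g : G, g * yEl hF b a β * g⁻¹ = dEl hF b lam (lam⁻¹ ^ 2) lam * lEl hF b 0 c * yEl hF b a β :=
  h45_exists_conj_core hF hR (Cfsg.Agent.Helper83.UT.rel_facts hF hR)
    (fun a β a2 β2 h h2 => Cfsg.Agent.Helper66.UT.conj_upper hF hb a β a2 β2 h h2)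
    (fun d0 d1 d2 a β h1 h2 h3 h4 => Cfsg.Agent.Helper42.UT.conj_diag hF hb d0 d1 d2 a β h1 h2 h3 h4)
    (Cfsg.Agent.Helper21.UT.conj_lower_of hF hb hR
      (fun a β h => Cfsg.Agent.Helper87.UT.cm_yEl hF hb a β h)
      (fun a β h => Cfsg.Agent.Helper87.UT.cm_lEl hF hb a β h)
      (fun d0 d1 d2 h1 h2 h3 => Cfsg.Agent.Helper87.UT.cm_dEl hF hb d0 d1 d2 h1 h2 h3))

end Cfsg.Agent.Helper45.UT
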